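import Groth.Agent.Deform.K694.Pow
import Groth.Agent.Lefpen.H721.OmegaSec
import Mathlib.RingTheory.Derivation.Basic

/-!
# Interfaces for the unobstructedness of weak Calabi-Yau varieties (S18446, S18448)

* `HullCurv`: a functor with a hull, unobstructed along the curvilinear tower `k[x]/(x^(n+1))`, is smooth, and all its
  elements come from truncated polynomial rings;
* `GlueT1`: the square-zero lift of a smooth scheme constructed from a Kodaira–Spencer cocycle.
-/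

set_option autoImplicit false

universe u v

open CategoryTheory CategoryTheory.Limits AlgebraicGeometry ArtFun

namespace K694.Iface

open Groth.Agent.Lefpen.H721.OmegaSec

/-- Piece (H). -/
def HullCurv : Prop :=
  ∀ (k : Type u) [Field k] [CharZero k] (F : Art k k ⥤ Type v), HasHull F →
    (∀ n : ℕ, Function.Surjective (F.map (Pow.proj k 1 (Nat.le_succ n)))) →
    IsSmoothFunctor F ∧ ∀ (A : Art k k) (x : F.obj A), ∃ (r N : ℕ) (φ : Pow.obj k r N ⟶ A)
      (y : F.obj (Pow.obj k r N)), F.map φ y = x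

section

variable {A : Type u} [CommRing A] {Y : Scheme.{u}} (f : Y ⟶ Spec (CommRingCat.of A)) (K : Ideal A)

/-- the ideal `K · Γ(Y, V)` -/
noncomputable abbrev KS (V : Y.Opens) : Ideal (SA f V) := K.map (algebraMap A (SA f V))

/-- `D'` extends `D` along the restriction `V' ≤ V`. -/
def Ext0 {V V' : Y.Opens} (h : V' ≤ V) (D : Derivation A (SA f V) (SA f V)) (D' : Derivation A (SA f V') (SA f V')) :
    Prop := ∀ x, D' (resA f h x) = resA f h (D x)

/-- `D'` extends `D` along the restriction `V' ≤ V`, derivations with values in the functions modulo `K`. -/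
def Ext1 {V V' : Y.Opens} (h : V' ≤ V) (D : Derivation A (SA f V) (SA f V ⧸ KS f K V))
    (D' : Derivation A (SA f V') (SA f V' ⧸ KS f K V')) : Prop :=
  ∀ x y, D x = Ideal.Quotient.mk _ y → D' (resA f h x) = Ideal.Quotient.mk _ (resA f h y)

/-- Cocycles of derivations (the derivations `κ i j` on `W i ⊓ W j` satisfy `κ i j + κ j l = κ i l` on
`W i ⊓ W j ⊓ W l`). -/
def IsCoc0 {ι : Type} (W : ι → Y.Opens)
    (κ : ∀ i j, Derivation A (SA f (W i ⊓ W j)) (SA f (W i ⊓ W j))) : Prop :=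
  ∀ i j l (d₁ d₂ d₃ : Derivation A (SA f (W i ⊓ W j ⊓ W l)) (SA f (W i ⊓ W j ⊓ W l))),
    Ext0 f (V := W i ⊓ W j) inf_le_left (κ i j) d₁ →
    Ext0 f (V := W j ⊓ W l) (inf_le_inf_right _ inf_le_right) (κ j l) d₂ →
    Ext0 f (V := W i ⊓ W l) (inf_le_inf_right _ inf_le_left) (κ i l) d₃ → d₁ + d₂ = d₃

/-- The same with values modulo `K`. -/
def IsCoc1 {ι : Type} (W : ι → Y.Opens)
    (κ : ∀ i j, Derivation A (SA f (W i ⊓ W j)) (SA f (W i ⊓ W j) ⧸ KS f K (W i ⊓ W j))) : Prop :=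
  ∀ i j l (d₁ d₂ d₃ : Derivation A (SA f (W i ⊓ W j ⊓ W l)) (SA f (W i ⊓ W j ⊓ W l) ⧸ KS f K (W i ⊓ W j ⊓ W l))),
    Ext1 f K (V := W i ⊓ W j) inf_le_left (κ i j) d₁ →
    Ext1 f K (V := W j ⊓ W l) (inf_le_inf_right _ inf_le_right) (κ j l) d₂ →
    Ext1 f K (V := W i ⊓ W l) (inf_le_inf_right _ inf_le_left) (κ i l) d₃ → d₁ + d₂ = d₃

/-- Every cocycle modulo `K` lifts to a cocycle, up to a coboundary. -/
def LiftsCoc {ι : Type} (W : ι → Y.Opens) : Prop :=
  ∀ κ : ∀ i j, Derivation A (SA f (W i ⊓ W j)) (SA f (W i ⊓ W j) ⧸ KS f K (W i ⊓ W j)), IsCoc1 f K W κ →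
    ∃ κ' : ∀ i j, Derivation A (SA f (W i ⊓ W j)) (SA f (W i ⊓ W j)), IsCoc0 f W κ' ∧
      ∃ l : ∀ i, Derivation A (SA f (W i)) (SA f (W i) ⧸ KS f K (W i)),
        ∀ i j (l₁ l₂ : Derivation A (SA f (W i ⊓ W j)) (SA f (W i ⊓ W j) ⧸ KS f K (W i ⊓ W j))),
          Ext1 f K (V := W i) inf_le_left (l i) l₁ → Ext1 f K (V := W j) inf_le_right (l j) l₂ →
          ∀ x, κ i j x = Ideal.Quotient.mk _ (κ' i j x) + l₁ x - l₂ x

end

/-- Piece (G): `π : A' → A` a square-zero extension with kernel `I`, `δ : A' → A` a derivation over `π` inducing a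
bijection of `I` with an ideal `K` of `A` (model: `A' = k[x]/(x^(n+2))`, `A = k[x]/(x^(n+1))`, `δ = d/dx`, `K = (x^n)`). If
`f : Y → Spec A` is smooth, with a cover by affine opens `W i` with affine intersections, and if every cocycle of derivations modulo
`K` lifts to a cocycle up to a coboundary, then `Y` lifts to a flat scheme over `A'`. -/
def GlueT1 : Prop :=
  ∀ (A' A : Type u) [CommRing A'] [CommRing A] (π : A' →+* A) (K : Ideal A) (δ : A' →+ A),
    Function.Surjective π → (∀ x y, π x = 0 → π y = 0 → x * y = 0) →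
    (∀ x y, δ (x * y) = π x * δ y + π y * δ x) → (∀ x, π x = 0 → δ x = 0 → x = 0) →
    (∀ x, π x = 0 → δ x ∈ K) → (∀ a ∈ K, ∃ x, π x = 0 ∧ δ x = a) →
    ∀ {Y : Scheme.{u}} (f : Y ⟶ Spec (CommRingCat.of A)) [Smooth f] {ι : Type} (W : ι → Y.Opens),
      (∀ i, IsAffineOpen (W i)) → (∀ i j, IsAffineOpen (W i ⊓ W j)) →
      (∀ i j l, IsAffineOpen (W i ⊓ W j ⊓ W l)) → ⨆ i, W i = ⊤ → LiftsCoc f K W →
      ∃ (Y' : Scheme.{u}) (f' : Y' ⟶ Spec (CommRingCat.of A')) (h : Y ⟶ Y'),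
        Flat f' ∧ IsPullback h f f' (Spec.map (CommRingCat.ofHom π))

end K694.Iface
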