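import Groth.Agent.Deform.K694.Ev

/-!
# Lifting Kodaira–Spencer cocycles

`f : Y → Spec A` with an affine cover `W`, free differentials of rank `n + 1` on the `W i`, a compatible family of generators of
`⋀^(n+1) Ω`, and surjectivity of `H¹(⋀^n Ω) → H¹(⋀^n Ω / K)`: cocycles of derivations modulo `K` lift.
-/

set_option autoImplicit false

universe u

open CategoryTheory CategoryTheory.Limits AlgebraicGeometry exteriorPower TopologicalSpace
open Groth.Agent.Lefpen.H721.OmegaSec Groth.Agent.Lefpen.H722.Sys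

namespace K694

open Contr Iface

variable {A : Type u} [CommRing A] {Y : Scheme.{u}} {f : Y ⟶ Spec (CommRingCat.of A)} {ι : Type}
  [Finite ι] {W : ι → Y.Opens} (K : Ideal A)

omit [Finite ι] in
theorem ext1_of_ex {V V' : Y.Opens} (h : V' ≤ V) {κ : Derivation A (SA f V) (SA f V ⧸ KS f K V)}
    {φ : Module.Dual (SA f V) (Ω[SA f V⁄A])}
    (hφ : ∀ x, κ x = Ideal.Quotient.mk _ (φ (KaehlerDifferential.D A _ x)))
    {φ' : Module.Dual (SA f V') (Ω[SA f V'⁄A])} (he : Ex h φ φ') :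
    Ext1 f K h κ (((Submodule.mkQ (KS f K V')).compDer (φ'.compDer (KaehlerDifferential.D A _)))) := by
  intro x y hxy
  rw [hφ, Ideal.Quotient.eq] at hxy
  change Ideal.Quotient.mk _ (φ' (KaehlerDifferential.D A _ (resA f h x))) = _
  rw [he.apply_D, Ideal.Quotient.eq, ← map_sub]
  have h1 : (KS f K V).map (resA f h : SA f V →+* SA f V') ≤ KS f K V' := by
    rw [KS, KS, Ideal.map_map]
    apply le_of_eq
    congr 1
    exact (resA f h).comp_algebraMap
  exact h1 (Ideal.mem_map_of_mem _ hxy)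

theorem liftsCoc {n : ℕ} (hW1 : ∀ i, IsAffineOpen (W i)) (hW2 : ∀ i j, IsAffineOpen (W i ⊓ W j))
    (hW3 : ∀ i j l, IsAffineOpen (W i ⊓ W j ⊓ W l))
    (b : ∀ i, Module.Basis (Fin (n + 1)) (SA f (W i)) (Ω[SA f (W i)⁄A])) (E : Eta f W (n + 1)) (hE : E.Gen)
    (hs : Function.Surjective (((cech ((cov f W).sys n)).toQuo K).H 1)) : LiftsCoc f K W := by
  intro κ hκ
  -- bases and bijectivity on smaller open sets
  have hb : ∀ (i : ι) (V : Y.Opens) (_ : V ≤ W i), IsAffineOpen V →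
      Nonempty (Module.Basis (Fin (n + 1)) (SA f V) (Ω[SA f V⁄A])) :=
    fun i V h hV => exists_basis_res f (hW1 i) hV h (b i)
  have bV : ∀ (i : ι) (V : Y.Opens) (_ : V ≤ W i), IsAffineOpen V →
      Module.Basis (Fin (n + 1)) (SA f V) (Ω[SA f V⁄A]) := fun i V h hV => (hb i V h hV).some
  have hbij : ∀ (i : ι) (V : Y.Opens) (h : V ≤ W i), IsAffineOpen V → Function.Bijective (theta (E.at i h)) :=
    fun i V h hV => bijective_theta (bV i V h hV) (hE i V h hV)
  -- linear forms lifting the cocycle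
  choose φ hφ using fun i j =>
    exists_dual (bV i (W i ⊓ W j) inf_le_left (hW2 i j)) (KS f K (W i ⊓ W j)) (κ i j)
  -- the cochain
  let le (σ : Fin 2 → ι) : (⨅ a ∈ Set.range σ, W a) ≤ W (σ 0) ⊓ W (σ 1) :=
    le_inf (iInf₂_le _ ⟨0, rfl⟩) (iInf₂_le _ ⟨1, rfl⟩)
  let c : C ((cov f W).sys n) 1 := fun σ =>
    rs f (le σ) n (theta (E.at (σ 0) (inf_le_left : W (σ 0) ⊓ W (σ 1) ≤ W (σ 0))) (φ (σ 0) (σ 1)))
  have hc : ∀ i j (V : Y.Opens) (hi : V ≤ W i) (hj : V ≤ W j),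
      ev c ![i, j] V (le2 hi hj) = rs f (le_inf hi hj) n (theta (E.at i (inf_le_left : W i ⊓ W j ≤ W i)) (φ i j)) :=
    fun i j V hi hj => rs_rs (le ![i, j]) (le2 hi hj) n _
  have hc' : ∀ i j (V : Y.Opens) (hi : V ≤ W i) (hj : V ≤ W j) (φ' : Module.Dual (SA f V) (Ω[SA f V⁄A]))
      (_ : Ex (le_inf hi hj) (φ i j) φ') (l : ι) (hl : V ≤ W l),
      ev c ![i, j] V (le2 hi hj) = theta (E.at l hl) φ' := by
    intro i j V hi hj φ' hφ' l hl
    rw [hc i j V hi hj, rs_theta _ hφ']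
    exact congrArg (fun η => theta η φ') ((E.rs_at i _ _).trans (E.at_eq i l hi hl))
  -- it is a cocycle modulo `K`
  have hd : ∀ i j l, ev (d ((cov f W).sys n) 1 c) ![i, j, l] (W i ⊓ W j ⊓ W l)
      (le3 (inf_le_left.trans inf_le_left) (inf_le_left.trans inf_le_right) inf_le_right) ∈
      K • (⊤ : Submodule A ↥(⋀[SA f (W i ⊓ W j ⊓ W l)]^n (Ω[SA f (W i ⊓ W j ⊓ W l)⁄A]))) := by
    intro i j l
    have hi : W i ⊓ W j ⊓ W l ≤ W i := inf_le_left.trans inf_le_left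
    have hj : W i ⊓ W j ⊓ W l ≤ W j := inf_le_left.trans inf_le_right
    have hl : W i ⊓ W j ⊓ W l ≤ W l := inf_le_right
    obtain ⟨φ₁, h₁⟩ := exists_extend f (hW2 i j) (hW3 i j l) (le_inf hi hj) (φ i j)
    obtain ⟨φ₂, h₂⟩ := exists_extend f (hW2 j l) (hW3 i j l) (le_inf hj hl) (φ j l)
    obtain ⟨φ₃, h₃⟩ := exists_extend f (hW2 i l) (hW3 i j l) (le_inf hi hl) (φ i l)
    rw [ev_d1 c i j l _ hi hj hl, hc' i j _ hi hj φ₁ h₁ i hi, hc' j l _ hj hl φ₂ h₂ i hi, hc' i l _ hi hl φ₃ h₃ i hi, ← map_sub,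
      ← map_add, theta_mem_iff K (bV i _ hi (hW3 i j l)) (hE i _ hi (hW3 i j l))]
    intro x
    have h4 := hκ i j l _ _ _ (ext1_of_ex K _ (hφ i j) h₁) (ext1_of_ex K _ (hφ j l) h₂) (ext1_of_ex K _ (hφ i l) h₃)
    have h5 := congr($h4 x)
    have h6 : Ideal.Quotient.mk (KS f K (W i ⊓ W j ⊓ W l)) (φ₁ (KaehlerDifferential.D A _ x) +
        φ₂ (KaehlerDifferential.D A _ x)) = Ideal.Quotient.mk _ (φ₃ (KaehlerDifferential.D A _ x)) := h5
    rw [Ideal.Quotient.eq] at h6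
    rw [LinearMap.add_apply, LinearMap.sub_apply]
    convert h6 using 1
    ring
  have hd' : d ((cov f W).sys n) 1 c ∈ K • (⊤ : Submodule A (C ((cov f W).sys n) 2)) := by
    refine mem_smul_top_pi _ K _ fun σ => ?_
    have hσ : σ = ![σ 0, σ 1, σ 2] := by
      funext a; fin_cases a <;> rfl
    generalize hi : σ 0 = i at hσ
    generalize hj : σ 1 = j at hσ
    generalize hl : σ 2 = l at hσ
    subst hσ
    have h1 : (⨅ a ∈ Set.range ![i, j, l], W a) ≤ W i ⊓ W j ⊓ W l :=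
      le_inf (le_inf (iInf₂_le i ⟨0, rfl⟩) (iInf₂_le j ⟨1, rfl⟩)) (iInf₂_le l ⟨2, rfl⟩)
    have h2 := rs_mem h1 (hd i j l)
    rw [rs_ev, ev, rs_self] at h2
    exact h2
  -- lift the class
  have hy : ((cech ((cov f W).sys n)).quo K).d 1 (Submodule.Quotient.mk c) = 0 :=
    (Submodule.Quotient.mk_eq_zero _).2 hd'
  obtain ⟨c', hc1, t, ht⟩ : ∃ c' : C ((cov f W).sys n) 1, d ((cov f W).sys n) 1 c' = 0 ∧
      ∃ t : C ((cov f W).sys n) 0,
        c' - c - d ((cov f W).sys n) 0 t ∈ K • (⊤ : Submodule A (C ((cov f W).sys n) 1)) := by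
    obtain ⟨c', hc1, hc2⟩ := ((cech ((cov f W).sys n)).toQuo K).exists_of_surjective_H hs _ hy
    obtain ⟨t, ht⟩ := hc2
    obtain ⟨t, rfl⟩ := Submodule.Quotient.mk_surjective _ t
    refine ⟨c', hc1, t, ?_⟩
    have h2 : ∀ (x y z : C ((cov f W).sys n) 1),
        (Submodule.Quotient.mk z : C ((cov f W).sys n) 1 ⧸ (K • (⊤ : Submodule A (C ((cov f W).sys n) 1)))) =
          Submodule.Quotient.mk x - Submodule.Quotient.mk y → x - y - z ∈
            K • (⊤ : Submodule A (C ((cov f W).sys n) 1)) := by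
      intro x y z h
      rw [← Submodule.Quotient.mk_eq_zero, Submodule.Quotient.mk_sub, Submodule.Quotient.mk_sub, h, sub_self]
    exact h2 c' c _ ht
  have ht' : ∀ i j (V : Y.Opens) (hi : V ≤ W i) (hj : V ≤ W j),
      ev c' ![i, j] V (le2 hi hj) - ev c ![i, j] V (le2 hi hj) - (ev t ![j] V (le1 hj) - ev t ![i] V (le1 hi)) ∈
        K • (⊤ : Submodule A ↥(⋀[SA f V]^n (Ω[SA f V⁄A]))) := by
    intro i j V hi hj
    rw [← ev_d0 t i j V hi hj, ← ev_sub, ← ev_sub]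
    exact rs_mem _ (Submodule.smul_top_le_comap_smul_top K (LinearMap.proj (R := A) ![i, j]) ht)
  -- the new derivations
  choose ψ' hψ' using fun i j => (hbij i (W i ⊓ W j) inf_le_left (hW2 i j)).2
    (ev c' ![i, j] (W i ⊓ W j) (le2 inf_le_left inf_le_right))
  choose ψ hψ using fun i => (hbij i (W i) le_rfl (hW1 i)).2 (ev t ![i] (W i) (le1 le_rfl))
  have hψ'e : ∀ i j (V : Y.Opens) (hi : V ≤ W i) (hj : V ≤ W j) (φ' : Module.Dual (SA f V) (Ω[SA f V⁄A]))
      (_ : Ex (le_inf hi hj) (ψ' i j) φ') (l : ι) (hl : V ≤ W l),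
      ev c' ![i, j] V (le2 hi hj) = theta (E.at l hl) φ' := by
    intro i j V hi hj φ' hφ' l hl
    have h1 := congrArg (rs f (le_inf hi hj) n) (hψ' i j)
    rw [rs_theta _ hφ', rs_ev] at h1
    rw [← h1]
    exact congrArg (fun η => theta η φ') ((E.rs_at i _ _).trans (E.at_eq i l hi hl))
  have hψe : ∀ i (V : Y.Opens) (hi : V ≤ W i) (φ' : Module.Dual (SA f V) (Ω[SA f V⁄A]))
      (_ : Ex hi (ψ i) φ') (l : ι) (hl : V ≤ W l), ev t ![i] V (le1 hi) = theta (E.at l hl) φ' := by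
    intro i V hi φ' hφ' l hl
    have h1 := congrArg (rs f hi n) (hψ i)
    rw [rs_theta _ hφ', rs_ev] at h1
    rw [← h1]
    exact congrArg (fun η => theta η φ') ((E.rs_at i _ _).trans (E.at_eq i l hi hl))
  refine ⟨fun i j => (ψ' i j).compDer (KaehlerDifferential.D A _), ?_,
    fun i => (Submodule.mkQ (KS f K (W i))).compDer ((ψ i).compDer (KaehlerDifferential.D A _)), ?_⟩
  · intro i j l d₁ d₂ d₃ h₁ h₂ h₃
    have hi : W i ⊓ W j ⊓ W l ≤ W i := inf_le_left.trans inf_le_left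
    have hj : W i ⊓ W j ⊓ W l ≤ W j := inf_le_left.trans inf_le_right
    have hl : W i ⊓ W j ⊓ W l ≤ W l := inf_le_right
    have key : ∀ (i j : ι) (V : Y.Opens) (h : V ≤ W i ⊓ W j) (D : Derivation A (SA f V) (SA f V))
        (_ : Ext0 f h ((ψ' i j).compDer (KaehlerDifferential.D A _)) D), Ex h (ψ' i j) D.liftKaehlerDifferential := by
      intro i j V h D hD
      refine (Wt.sqA (resA f h)).om_compat _ _ fun a => ?_
      have h1 := D.liftKaehlerDifferential_comp_D ((Wt.sqA (resA f h)).g a)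
      rw [h1]
      exact hD a
    have e₁ := hψ'e i j _ hi hj _ (key _ _ _ _ _ h₁) i hi
    have e₂ := hψ'e j l _ hj hl _ (key _ _ _ _ _ h₂) i hi
    have e₃ := hψ'e i l _ hi hl _ (key _ _ _ _ _ h₃) i hi
    have e₄ := ev_d1 c' i j l (W i ⊓ W j ⊓ W l) hi hj hl
    rw [hc1, e₁, e₂, e₃, ← map_sub, ← map_add] at e₄
    have e₅ : theta (E.at i hi) (d₂.liftKaehlerDifferential - d₃.liftKaehlerDifferential +
        d₁.liftKaehlerDifferential) = 0 := e₄.symm.trans (map_zero (rs f _ n))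
    have e₆ := (injective_iff_map_eq_zero _).1 (hbij i _ hi (hW3 i j l)).1 _ e₅
    ext x
    have e₇ := congr($e₆ (KaehlerDifferential.D A _ x))
    rw [LinearMap.add_apply, LinearMap.sub_apply, Derivation.liftKaehlerDifferential_comp_D,
      Derivation.liftKaehlerDifferential_comp_D, Derivation.liftKaehlerDifferential_comp_D, LinearMap.zero_apply] at e₇
    rw [Derivation.add_apply, ← sub_eq_zero, ← e₇]
    ring
  · intro i j l₁ l₂ h₁ h₂ x
    have hi : W i ⊓ W j ≤ W i := inf_le_left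
    have hj : W i ⊓ W j ≤ W j := inf_le_right
    obtain ⟨φ₁, hφ₁⟩ := exists_extend f (hW1 i) (hW2 i j) hi (ψ i)
    obtain ⟨φ₂, hφ₂⟩ := exists_extend f (hW1 j) (hW2 i j) hj (ψ j)
    have u₁ : l₁ = (Submodule.mkQ (KS f K (W i ⊓ W j))).compDer (φ₁.compDer (KaehlerDifferential.D A _)) :=
      der_unique (hW1 i) (hW2 i j) hi _ _ fun y => (h₁ y _ rfl).trans
        ((ext1_of_ex K hi (κ := (Submodule.mkQ (KS f K (W i))).compDer ((ψ i).compDer (KaehlerDifferential.D A _)))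
          (fun _ => rfl) hφ₁) y _ rfl).symm
    have u₂ : l₂ = (Submodule.mkQ (KS f K (W i ⊓ W j))).compDer (φ₂.compDer (KaehlerDifferential.D A _)) :=
      der_unique (hW1 j) (hW2 i j) hj _ _ fun y => (h₂ y _ rfl).trans
        ((ext1_of_ex K hj (κ := (Submodule.mkQ (KS f K (W j))).compDer ((ψ j).compDer (KaehlerDifferential.D A _)))
          (fun _ => rfl) hφ₂) y _ rfl).symm
    have e := ht' i j (W i ⊓ W j) hi hj
    have exr : ∀ (φ : Module.Dual (SA f (W i ⊓ W j)) (Ω[SA f (W i ⊓ W j)⁄A])) (h : W i ⊓ W j ≤ W i ⊓ W j), Ex h φ φ :=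
      fun φ h => (Wt.sqA (resA f h)).om_compat φ φ fun a => by
        change φ (KaehlerDifferential.D A _ (resA f h a)) = resA f h _
        rw [resA_self, resA_self]
    rw [hψ'e i j _ hi hj _ (exr _ _) i hi, hc' i j _ hi hj _ (exr _ _) i hi, hψe i _ hi _ hφ₁ i hi,
      hψe j _ hj _ hφ₂ i hi, ← map_sub, ← map_sub, ← map_sub,
      theta_mem_iff K (bV i _ hi (hW2 i j)) (hE i _ hi (hW2 i j))] at e
    rw [hφ, u₁, u₂]
    change Ideal.Quotient.mk _ _ = Ideal.Quotient.mk _ _ + Ideal.Quotient.mk _ _ - Ideal.Quotient.mk _ _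
    rw [← map_add, ← map_sub, eq_comm, Ideal.Quotient.eq]
    have hh : ∀ p q r s : SA f (W i ⊓ W j), p - q - (r - s) = p + s - r - q := fun _ _ _ _ => by ring
    have e' := e x
    rw [LinearMap.sub_apply, LinearMap.sub_apply, LinearMap.sub_apply, hh] at e'
    exact e'

end K694
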