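import Groth.Agent.Deform.K694.DM
import Groth.Agent.DeRham.K852.Weights
import Mathlib.RingTheory.TensorProduct.Basic

/-!
# The kernel of `Ω•_{B/k} → Ω•_{C/k}` for `B = A ⊗ C`, `A` a graded Artinian `k`-algebra, is acyclic

`Gr A res E`: the derivation `E` of the augmented `k`-algebra `A` is diagonalisable with nonnegative integral weights,
the weight zero part being `k` and elements of positive weight having augmentation zero.
-/

set_option autoImplicit false

universe u

open exteriorPower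
open scoped TensorProduct

namespace K694

section grading

variable {k A : Type u} [CommRing k] [CommRing A] [Algebra k A]

/-- homogeneous elements -/
def IsHom (res : A →ₐ[k] k) (E : Derivation k A A) (w : ℕ) (a : A) : Prop :=
  E a = w • a ∧ ((w = 0 ∧ ∃ c, a = algebraMap k A c) ∨ (0 < w ∧ res a = 0))

/-- graded augmented algebras -/
def Gr (res : A →ₐ[k] k) (E : Derivation k A A) : Prop :=
  ∀ a : A, a ∈ AddSubgroup.closure {b : A | ∃ w, IsHom res E w b}

end grading

namespace Wt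

variable {k A C : Type u} [CommRing k] [CommRing A] [Algebra k A] [CommRing C] [Algebra k C]

/-- the derivation `E ⊗ 1` -/
noncomputable def der (C : Type u) [CommRing C] [Algebra k C] (E : Derivation k A A) :
    Derivation k (A ⊗[k] C) (A ⊗[k] C) :=
  Derivation.mk' (LinearMap.rTensor C (E : A →ₗ[k] A)) fun x y => by
    induction x with
    | zero => simp
    | add x x' hx hx' => rw [add_mul, map_add, hx, hx', map_add, add_smul, smul_add]; abel
    | tmul a c =>
      induction y with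
      | zero => simp
      | add y y' hy hy' => rw [mul_add, map_add, hy, hy', map_add, add_smul, smul_add]; abel
      | tmul a' c' =>
        rw [Algebra.TensorProduct.tmul_mul_tmul, LinearMap.rTensor_tmul, LinearMap.rTensor_tmul,
          LinearMap.rTensor_tmul, smul_eq_mul, smul_eq_mul, Algebra.TensorProduct.tmul_mul_tmul,
          Algebra.TensorProduct.tmul_mul_tmul, mul_comm c' c, ← TensorProduct.add_tmul]
        congr 1
        exact E.leibniz a a'

theorem der_tmul (E : Derivation k A A) (a : A) (c : C) : der C E (a ⊗ₜ c) = E a ⊗ₜ c := rfl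

/-- the retraction `a ⊗ c ↦ res a · c` -/
noncomputable def rho (C : Type u) [CommRing C] [Algebra k C] (res : A →ₐ[k] k) : A ⊗[k] C →ₐ[k] C :=
  Algebra.TensorProduct.lift ((Algebra.ofId k C).comp res) (AlgHom.id k C) fun _ _ => Commute.all _ _

theorem rho_tmul (res : A →ₐ[k] k) (a : A) (c : C) : rho C res (a ⊗ₜ c) = res a • c := by
  rw [rho, Algebra.TensorProduct.lift_tmul, Algebra.smul_def]
  rfl

/-- the section `c ↦ 1 ⊗ c` -/
noncomputable def sig (A C : Type u) [CommRing A] [Algebra k A] [CommRing C] [Algebra k C] : C →ₐ[k] A ⊗[k] C :=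
  Algebra.TensorProduct.includeRight

theorem sig_apply (c : C) : sig A C c = (1 : A) ⊗ₜ[k] c := rfl

/-- the square of an algebra map -/
@[reducible] def sqA {B B' : Type u} [CommRing B] [Algebra k B] [CommRing B'] [Algebra k B'] (φ : B →ₐ[k] B') :
    Sq k B k B' where
  h := RingHom.id k
  g := φ
  comm r := φ.commutes r

variable {res : A →ₐ[k] k} {E : Derivation k A A}

/-- the linear form attached to `E` -/
noncomputable def phi (C : Type u) [CommRing C] [Algebra k C] (E : Derivation k A A) :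
    Module.Dual (A ⊗[k] C) (Ω[(A ⊗[k] C)⁄k]) := (der C E).liftKaehlerDifferential

theorem phi_D (E : Derivation k A A) (b : A ⊗[k] C) : phi C E (KaehlerDifferential.D k _ b) = der C E b :=
  Derivation.liftKaehlerDifferential_comp_D _ _

/-- homogeneous functions -/
def HomB (C : Type u) [CommRing C] [Algebra k C] (res : A →ₐ[k] k) (E : Derivation k A A) (w : ℕ)
    (b : A ⊗[k] C) : Prop :=
  der C E b = w • b ∧ ((w = 0 ∧ ∃ c, b = sig A C c) ∨ (0 < w ∧ rho C res b = 0))

theorem homB_closure (hG : Gr res E) (b : A ⊗[k] C) :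
    b ∈ AddSubgroup.closure {b : A ⊗[k] C | ∃ w, HomB C res E w b} := by
  induction b with
  | zero => exact zero_mem _
  | add x y hx hy => exact add_mem hx hy
  | tmul a c =>
    have ha := hG a
    induction ha using AddSubgroup.closure_induction with
    | mem a ha =>
      obtain ⟨w, ha1, ha2⟩ := ha
      refine AddSubgroup.subset_closure ⟨w, ?_, ?_⟩
      · rw [der_tmul, ha1, TensorProduct.smul_tmul']
      · rcases ha2 with ⟨rfl, x, rfl⟩ | ⟨hw, ha⟩
        · refine Or.inl ⟨rfl, x • c, ?_⟩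
          rw [sig_apply, Algebra.algebraMap_eq_smul_one, TensorProduct.smul_tmul]
        · exact Or.inr ⟨hw, by rw [rho_tmul, ha, zero_smul]⟩
    | zero => rw [TensorProduct.zero_tmul]; exact zero_mem _
    | add x y _ _ hx hy => rw [TensorProduct.add_tmul]; exact add_mem hx hy
    | neg x _ hx => rw [TensorProduct.neg_tmul]; exact neg_mem hx

variable (res E)

/-- homogeneous forms -/
def HomF (p : ℕ) (w : ℕ) (x : ↥(⋀[A ⊗[k] C]^p (Ω[(A ⊗[k] C)⁄k]))) : Prop :=
  K852.DR.lie (dR k (A ⊗[k] C)) (phi C E) p x = w • x ∧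
    ((w = 0 ∧ ∃ α, x = (sqA (sig A C)).dm p α) ∨ (0 < w ∧ (sqA (rho C res)).dm p x = 0))

variable {res E}

theorem homF_smul {p w v : ℕ} {b : A ⊗[k] C} {x : ↥(⋀[A ⊗[k] C]^p (Ω[(A ⊗[k] C)⁄k]))}
    (hb : HomB C res E v b) (hx : HomF res E p w x) : HomF res E p (v + w) (b • x) := by
  refine ⟨K852.DR.lie_weight_smul (K852.DR.kaehler_span k _) (isDiff_dR k _).1 (phi C E) p b v w
    (by rw [phi_D, hb.1]) x hx.1, ?_⟩
  rcases hb.2 with ⟨rfl, c, rfl⟩ | ⟨hv, hb⟩
  · rcases hx.2 with ⟨rfl, α, rfl⟩ | ⟨hw, hx⟩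
    · refine Or.inl ⟨rfl, c • α, ?_⟩
      rw [Sq.dm_smul]
      rfl
    · exact Or.inr ⟨by omega, by rw [Sq.dm_smul, hx, smul_zero]⟩
  · refine Or.inr ⟨by omega, ?_⟩
    rw [Sq.dm_smul]
    have : (sqA (rho C res)).g b = 0 := hb
    rw [this, zero_smul]

theorem homF_wedge {p w v : ℕ} {b : A ⊗[k] C} {x : ↥(⋀[A ⊗[k] C]^p (Ω[(A ⊗[k] C)⁄k]))}
    (hb : HomB C res E v b) (hx : HomF res E p w x) :
    HomF res E (p + 1) (v + w) (K852.DR.wedge1 p (KaehlerDifferential.D k _ b) x) := by
  refine ⟨K852.DR.lie_weight_wedge1 (K852.DR.kaehler_span k _) (isDiff_dR k _).1 (phi C E) p b v w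
    (by rw [phi_D, hb.1]) x hx.1, ?_⟩
  rcases hb.2 with ⟨rfl, c, rfl⟩ | ⟨hv, hb⟩
  · rcases hx.2 with ⟨rfl, α, rfl⟩ | ⟨hw, hx⟩
    · refine Or.inl ⟨rfl, K852.DR.wedge1 p (KaehlerDifferential.D k _ c) α, ?_⟩
      rw [Sq.dm_wedge1]
      rfl
    · exact Or.inr ⟨by omega, by rw [Sq.dm_wedge1, hx, map_zero]⟩
  · refine Or.inr ⟨by omega, ?_⟩
    rw [Sq.dm_wedge1]
    have : (sqA (rho C res)).g b = 0 := hb
    rw [this, map_zero, map_zero, LinearMap.zero_apply]

/-- The forms are sums of homogeneous ones. -/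
theorem smul_mem_closure (hG : Gr res E) (p : ℕ) (b : A ⊗[k] C) {x : ↥(⋀[A ⊗[k] C]^p (Ω[(A ⊗[k] C)⁄k]))}
    (hx : x ∈ AddSubgroup.closure {x | ∃ w, HomF res E p w x}) :
    b • x ∈ AddSubgroup.closure {x | ∃ w, HomF (C := C) res E p w x} := by
  induction hx using AddSubgroup.closure_induction with
  | mem x hx =>
    obtain ⟨w, hx⟩ := hx
    have hb := homB_closure (C := C) hG b
    induction hb using AddSubgroup.closure_induction with
    | mem b hb => obtain ⟨v, hb⟩ := hb; exact AddSubgroup.subset_closure ⟨_, homF_smul hb hx⟩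
    | zero => rw [zero_smul]; exact zero_mem _
    | add b c _ _ hb hc => rw [add_smul]; exact add_mem hb hc
    | neg b _ hb =>
      have e : -b • x + b • x = 0 := by rw [← add_smul, neg_add_cancel, zero_smul]
      rw [eq_neg_of_add_eq_zero_left e]
      exact neg_mem hb
  | zero => rw [smul_zero]; exact zero_mem _
  | add x y _ _ hx hy => rw [smul_add]; exact add_mem hx hy
  | neg x _ hx => rw [smul_neg]; exact neg_mem hx

theorem wedge_mem_closure (hG : Gr res E) (p : ℕ) (b : A ⊗[k] C) {x : ↥(⋀[A ⊗[k] C]^p (Ω[(A ⊗[k] C)⁄k]))}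
    (hx : x ∈ AddSubgroup.closure {x | ∃ w, HomF res E p w x}) :
    K852.DR.wedge1 p (KaehlerDifferential.D k _ b) x ∈
      AddSubgroup.closure {x | ∃ w, HomF (C := C) res E (p + 1) w x} := by
  induction hx using AddSubgroup.closure_induction with
  | mem x hx =>
    obtain ⟨w, hx⟩ := hx
    have hb := homB_closure (C := C) hG b
    induction hb using AddSubgroup.closure_induction with
    | mem b hb => obtain ⟨v, hb⟩ := hb; exact AddSubgroup.subset_closure ⟨_, homF_wedge hb hx⟩
    | zero => rw [map_zero, map_zero, LinearMap.zero_apply]; exact zero_mem _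
    | add b c _ _ hb hc => rw [map_add, map_add, LinearMap.add_apply]; exact add_mem hb hc
    | neg b _ hb => rw [map_neg, map_neg, LinearMap.neg_apply]; exact neg_mem hb
  | zero => rw [map_zero]; exact zero_mem _
  | add x y _ _ hx hy => rw [map_add]; exact add_mem hx hy
  | neg x _ hx => rw [map_neg]; exact neg_mem hx

theorem mem_closure (hG : Gr res E) (p : ℕ) (x : ↥(⋀[A ⊗[k] C]^p (Ω[(A ⊗[k] C)⁄k]))) :
    x ∈ AddSubgroup.closure {x | ∃ w, HomF (C := C) res E p w x} := by
  refine K852.DR.gen_induction (KaehlerDifferential.D k _) (K852.DR.kaehler_span k _) p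
    (P := fun x => x ∈ AddSubgroup.closure {x | ∃ w, HomF (C := C) res E p w x}) ?_ (zero_mem _)
    (fun _ _ => add_mem) (fun _ => neg_mem) x
  intro b₀ b
  rw [DeRham.gen]
  refine smul_mem_closure hG p b₀ ?_
  clear x b₀
  induction p with
  | zero =>
    refine AddSubgroup.subset_closure ⟨0, ?_, Or.inl ⟨rfl, ιMulti C 0 fun i => i.elim0, ?_⟩⟩
    · rw [K852.DR.lie_zero, zero_smul]
      have h1 : ιMulti (A ⊗[k] C) 0 (fun i => KaehlerDifferential.D k (A ⊗[k] C) (b i)) =
          DeRham.gen (KaehlerDifferential.D k (A ⊗[k] C)) 0 1 b := by rw [DeRham.gen, one_smul]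
      rw [h1, dR_gen, Derivation.map_one_eq_zero, map_zero, LinearMap.zero_apply, map_zero]
    · have h1 : ιMulti C 0 (fun i : Fin 0 => (i.elim0 : Ω[C⁄k])) =
          DeRham.gen (KaehlerDifferential.D k C) 0 1 (fun i => i.elim0) := by
        rw [DeRham.gen, one_smul]
        congr 1
        funext i
        exact i.elim0
      rw [h1, Sq.dm_gen, DeRham.gen, map_one, one_smul]
      congr 1
      funext i
      exact i.elim0
  | succ p ih =>
    rw [K852.DR.ιMulti_succ]
    exact wedge_mem_closure hG p _ (ih _)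

/-- Decomposition of a form into homogeneous parts. -/
theorem exists_decomp (hG : Gr res E) (p : ℕ) (x : ↥(⋀[A ⊗[k] C]^p (Ω[(A ⊗[k] C)⁄k]))) :
    ∃ (α : ↥(⋀[C]^p (Ω[C⁄k]))) (w : ℕ → ↥(⋀[A ⊗[k] C]^p (Ω[(A ⊗[k] C)⁄k]))) (N : ℕ),
      (∀ n, K852.DR.lie (dR k (A ⊗[k] C)) (phi C E) p (w n) = (n + 1) • w n) ∧
      (∀ n, (sqA (rho C res)).dm p (w n) = 0) ∧ (∀ n, N ≤ n → w n = 0) ∧
      x = (sqA (sig A C)).dm p α + ∑ n ∈ Finset.range N, w n := by
  have hx := mem_closure (C := C) hG p x
  induction hx using AddSubgroup.closure_induction with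
  | mem x hx =>
    obtain ⟨v, hx1, hx2⟩ := hx
    rcases hx2 with ⟨rfl, α, rfl⟩ | ⟨hv, hx2⟩
    · exact ⟨α, fun _ => 0, 0, fun n => by simp, fun n => map_zero _, fun _ _ => rfl, by simp⟩
    · obtain ⟨v, rfl⟩ : ∃ v', v = v' + 1 := ⟨v - 1, by omega⟩
      classical
      refine ⟨0, fun n => if n = v then x else 0, v + 1, fun n => ?_, fun n => ?_, fun n hn => ?_, ?_⟩
      · dsimp only
        split_ifs with h
        · rw [h, hx1]
        · simp
      · dsimp only
        split_ifs with h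
        · exact hx2
        · exact map_zero _
      · dsimp only
        rw [if_neg (by omega)]
      · rw [map_zero, zero_add, Finset.sum_ite_eq' (Finset.range (v + 1)) v, if_pos (by simp)]
  | zero => exact ⟨0, fun _ => 0, 0, fun n => by simp, fun n => map_zero _, fun _ _ => rfl, by simp⟩
  | add x y _ _ hx hy =>
    obtain ⟨α, w, N, h1, h2, h3, rfl⟩ := hx
    obtain ⟨β, v, M, g1, g2, g3, rfl⟩ := hy
    refine ⟨α + β, fun n => w n + v n, max N M, fun n => ?_, fun n => ?_, fun n hn => ?_, ?_⟩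
    · rw [map_add, h1, g1, smul_add]
    · rw [map_add, h2, g2, add_zero]
    · change w n + v n = 0
      rw [h3 n (by omega), g3 n (by omega), add_zero]
    · rw [map_add, Finset.sum_add_distrib,
        Finset.sum_subset (Finset.range_mono (le_max_left N M)) (f := w)
          (fun n _ hn => h3 n (by simpa using hn)),
        Finset.sum_subset (Finset.range_mono (le_max_right N M)) (f := v)
          (fun n _ hn => g3 n (by simpa using hn))]
      abel
  | neg x _ hx =>
    obtain ⟨α, w, N, h1, h2, h3, rfl⟩ := hx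
    refine ⟨-α, fun n => - w n, N, fun n => ?_, fun n => ?_, fun n hn => ?_, ?_⟩
    · rw [map_neg, h1, smul_neg]
    · rw [map_neg, h2, neg_zero]
    · change - w n = 0
      rw [h3 n hn, neg_zero]
    · rw [map_neg, Finset.sum_neg_distrib, neg_add]

theorem rho_sig (p : ℕ) (α : ↥(⋀[C]^p (Ω[C⁄k]))) : (sqA (rho C res)).dm p ((sqA (sig A C)).dm p α) = α := by
  rw [Sq.dm_comp _ _ (sqA (AlgHom.id k C)) (fun a => by
    change rho C res (sig A C a) = a
    rw [sig_apply, rho_tmul, map_one, one_smul])]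
  exact Sq.dm_id _ (fun a => rfl) p α

variable [Algebra ℚ k]

theorem mem_coboundaries (hG : Gr res E) (p : ℕ) (y : ↥(⋀[A ⊗[k] C]^p (Ω[(A ⊗[k] C)⁄k])))
    (hy : dR k _ p y = 0) (hρ : (sqA (rho C res)).dm p y = 0) :
    y ∈ DeRham.coboundaries (dR k (A ⊗[k] C)) p := by
  obtain ⟨α, w, N, h1, h2, h3, rfl⟩ := exists_decomp hG p y
  have h4 : α = 0 := by
    rw [map_add, map_sum, rho_sig] at hρ
    simpa only [h2, Finset.sum_const_zero, add_zero] using hρ
  subst h4
  have h5 := K852.DR.sub_mem_coboundaries_of_weights (dR_dR k (A ⊗[k] C)) (phi C E) p 0 (by rw [map_zero]) N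
    ((sqA (sig A C)).dm p 0 + ∑ n ∈ Finset.range N, w n) hy w (fun n _ => h1 n) (by rw [map_zero])
  rwa [sub_zero] at h5

/-- **Exactness of the kernel**, degree zero. -/
theorem eq_zero (hG : Gr res E) (y : ↥(⋀[A ⊗[k] C]^0 (Ω[(A ⊗[k] C)⁄k])))
    (hy : dR k _ 0 y = 0) (hρ : (sqA (rho C res)).dm 0 y = 0) : y = 0 :=
  mem_coboundaries hG 0 y hy hρ

/-- **Exactness of the kernel**, positive degree. -/
theorem exists_eq (hG : Gr res E) (p : ℕ) (y : ↥(⋀[A ⊗[k] C]^(p + 1) (Ω[(A ⊗[k] C)⁄k])))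
    (hy : dR k _ (p + 1) y = 0) (hρ : (sqA (rho C res)).dm (p + 1) y = 0) :
    ∃ z, (sqA (rho C res)).dm p z = 0 ∧ dR k _ p z = y := by
  obtain ⟨z, hz⟩ : ∃ z, dR k _ p z = y := mem_coboundaries hG (p + 1) y hy hρ
  refine ⟨z - (sqA (sig A C)).dm p ((sqA (rho C res)).dm p z), ?_, ?_⟩
  · rw [map_sub, rho_sig, sub_self]
  · rw [map_sub, hz, ← Sq.dm_dR, ← Sq.dm_dR, hz, hρ, map_zero, sub_zero]

end Wt

end K694
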