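import Groth.Agent.Deform.K694.Pow
import Groth.Agent.Deform.K694.Wt
import Mathlib.RingTheory.MvPolynomial.EulerIdentity

/-!
# Grading of the truncated polynomial rings; the derivation `k[x]/(x^(n+2)) → k[x]/(x^(n+1))`
-/

set_option autoImplicit false

universe u

open CategoryTheory ArtFun ArtFun.Art MvPolynomial

namespace K694.Pow

section gen

variable {k P : Type u} [CommRing k] [CommRing P] [Algebra k P] (I : Ideal P)

theorem exists_lin {M : Type u} [AddCommGroup M] [Module k M] (L : P →ₗ[k] M) (h : ∀ x ∈ I, L x = 0) :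
    ∃ L' : (P ⧸ I) →ₗ[k] M, ∀ a, L' (Ideal.Quotient.mk I a) = L a :=
  ⟨(Submodule.liftQ (I.restrictScalars k) L fun x hx => h x hx) ∘ₗ
    (Submodule.Quotient.restrictScalarsEquiv k I).symm.toLinearMap, fun _ => rfl⟩

theorem exists_der (D : Derivation k P P) (h : ∀ x ∈ I, D x ∈ I) :
    ∃ E : Derivation k (P ⧸ I) (P ⧸ I), ∀ a, E (Ideal.Quotient.mk I a) = Ideal.Quotient.mk I (D a) := by
  obtain ⟨L, hL⟩ := exists_lin I ((Ideal.Quotient.mkₐ k I).toLinearMap ∘ₗ (D : P →ₗ[k] P)) fun x hx => by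
    change Ideal.Quotient.mk I (D x) = 0
    rw [Ideal.Quotient.eq_zero_iff_mem]
    exact h x hx
  refine ⟨Derivation.mk' L fun a b => ?_, hL⟩
  obtain ⟨a, rfl⟩ := Ideal.Quotient.mk_surjective a
  obtain ⟨b, rfl⟩ := Ideal.Quotient.mk_surjective b
  rw [← map_mul, hL, hL, hL]
  change Ideal.Quotient.mk I (D (a * b)) = Ideal.Quotient.mk I a • Ideal.Quotient.mk I (D b) +
    Ideal.Quotient.mk I b • Ideal.Quotient.mk I (D a)
  rw [D.leibniz, map_add, smul_eq_mul, smul_eq_mul, map_mul, map_mul, smul_eq_mul, smul_eq_mul]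

theorem der_pow_mem (D : Derivation k P P) (h : ∀ x ∈ I, D x ∈ I) (n : ℕ) : ∀ x ∈ I ^ n, D x ∈ I ^ n := by
  induction n with
  | zero => intro x _; rw [pow_zero, Ideal.one_eq_top]; trivial
  | succ n ih =>
    intro x hx
    rw [pow_succ] at hx ⊢
    induction hx using Submodule.mul_induction_on' with
    | mem_mul_mem a ha b hb =>
      rw [D.leibniz, smul_eq_mul, smul_eq_mul]
      exact add_mem (Ideal.mul_mem_mul ha (h b hb)) (by rw [mul_comm b]; exact Ideal.mul_mem_mul (ih a ha) hb)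
    | add a _ b _ ha hb => rw [map_add]; exact add_mem ha hb

end gen

variable (k : Type u) [Field k]

/-- The Euler derivation. -/
noncomputable def eulerP (r : ℕ) : Derivation k (MvPolynomial (Fin r) k) (MvPolynomial (Fin r) k) :=
  mkDerivation k fun i => X i

theorem eulerP_monomial (r : ℕ) (s : Fin r →₀ ℕ) (c : k) : eulerP k r (monomial s c) = s.degree • monomial s c := by
  rw [eulerP, mkDerivation_monomial]
  have h1 : ∀ i ∈ s.support, (monomial (s - Finsupp.single i 1) (s i : k)) • (X i : MvPolynomial (Fin r) k) =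
      s i • monomial s 1 := by
    intro i hi
    rw [smul_eq_mul, X, monomial_mul, mul_one, tsub_add_cancel_of_le, ← Nat.smul_one_eq_cast, ← smul_monomial]
    rw [Finsupp.single_le_iff]
    exact Nat.one_le_iff_ne_zero.2 (Finsupp.mem_support_iff.1 hi)
  rw [Finsupp.sum, Finset.sum_congr rfl h1, ← Finset.sum_smul, smul_comm, smul_monomial, smul_eq_mul, mul_one]
  rfl

theorem eulerP_mem (r : ℕ) : ∀ x ∈ m k r, eulerP k r x ∈ m k r := by
  intro x hx
  rw [m] at hx ⊢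
  induction hx using Submodule.span_induction with
  | mem x hx =>
    obtain ⟨i, rfl⟩ := hx
    rw [eulerP, mkDerivation_X]
    exact Ideal.subset_span ⟨i, rfl⟩
  | zero => rw [map_zero]; exact zero_mem _
  | add x y _ _ hx hy => rw [map_add]; exact add_mem hx hy
  | smul a x hx' hx =>
    rw [smul_eq_mul, Derivation.leibniz]
    exact add_mem (Ideal.mul_mem_left _ _ hx) (Ideal.mul_mem_right _ _ hx')

/-- the truncated polynomial rings are graded -/
theorem exists_gr [CharZero k] (r N : ℕ) : ∃ E : Derivation k (Q k r N) (Q k r N), Gr (aug k r N) E := by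
  obtain ⟨E, hE⟩ := exists_der ((m k r) ^ (N + 1)) (eulerP k r) (der_pow_mem _ _ (eulerP_mem k r) _)
  refine ⟨E, fun a => ?_⟩
  obtain ⟨p, rfl⟩ := Ideal.Quotient.mk_surjective a
  rw [p.as_sum, map_sum]
  refine sum_mem fun s _ => AddSubgroup.subset_closure ⟨s.degree, ?_, ?_⟩
  · rw [hE, eulerP_monomial, map_nsmul]
  · rcases Nat.eq_zero_or_pos s.degree with h | h
    · refine Or.inl ⟨h, coeff s p, ?_⟩
      have : s = 0 := by
        rw [Finsupp.degree_eq_zero_iff] at h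
        exact h
      rw [this]
      rfl
    · refine Or.inr ⟨h, ?_⟩
      rw [aug_mk, constantCoeff_monomial, if_neg]
      rintro rfl
      simp at h

section one

theorem m_one : m k 1 = Ideal.span {(X 0 : MvPolynomial (Fin 1) k)} := by
  rw [m]
  congr 1
  ext x
  simp [eq_comm]

theorem mem_m_pow_one (n : ℕ) (p : MvPolynomial (Fin 1) k) : p ∈ m k 1 ^ n ↔ ∃ q, p = X 0 ^ n * q := by
  rw [m_one, Ideal.span_singleton_pow, Ideal.mem_span_singleton]
  rfl

/-- the class of the variable -/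
noncomputable def t (n : ℕ) : Q k 1 n := Ideal.Quotient.mk _ (X 0)

/-- the projection as a ring homomorphism -/
noncomputable def pi (n : ℕ) : Q k 1 (n + 1) →+* Q k 1 n := (proj k 1 (Nat.le_succ n)).toAlgHom.toRingHom

theorem pi_mk (n : ℕ) (a : MvPolynomial (Fin 1) k) :
    pi k n (Ideal.Quotient.mk _ a : Q k 1 (n + 1)) = (Ideal.Quotient.mk _ a : Q k 1 n) := rfl

theorem exists_of_pi {n : ℕ} {x : Q k 1 (n + 1)} (h : pi k n x = 0) :
    ∃ q, x = Ideal.Quotient.mk _ (X 0 ^ (n + 1) * q) := by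
  obtain ⟨p, rfl⟩ := Ideal.Quotient.mk_surjective x
  rw [pi_mk, Ideal.Quotient.eq_zero_iff_mem, mem_m_pow_one] at h
  obtain ⟨q, rfl⟩ := h
  exact ⟨q, rfl⟩

/-- The derivation `d/dx : k[x]/(x^(n+2)) → k[x]/(x^(n+1))`. -/
theorem exists_delta [CharZero k] (n : ℕ) : ∃ δ : Q k 1 (n + 1) →+ Q k 1 n,
    Function.Surjective (pi k n) ∧ (∀ x y, pi k n x = 0 → pi k n y = 0 → x * y = 0) ∧
    (∀ x y, δ (x * y) = pi k n x * δ y + pi k n y * δ x) ∧ (∀ x, pi k n x = 0 → δ x = 0 → x = 0) ∧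
    (∀ x, pi k n x = 0 → δ x ∈ Ideal.span {t k n ^ n}) ∧
    (∀ a ∈ Ideal.span {t k n ^ n}, ∃ x, pi k n x = 0 ∧ δ x = a) := by
  let L : MvPolynomial (Fin 1) k →ₗ[k] Q k 1 n :=
    (Ideal.Quotient.mkₐ k (m k 1 ^ (n + 1))).toLinearMap ∘ₗ ((pderiv (0 : Fin 1) : Derivation k _ _) : _ →ₗ[k] _)
  have hL : ∀ p, L p = Ideal.Quotient.mk _ (pderiv 0 p) := fun _ => rfl
  have hd : ∀ (j : ℕ) (q : MvPolynomial (Fin 1) k), pderiv (0 : Fin 1) (X 0 ^ (j + 1) * q) =
      X 0 ^ j * ((j + 1 : k) • q + X 0 * pderiv 0 q) := by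
    intro j q
    rw [Derivation.leibniz, Derivation.leibniz_pow, pderiv_X_self, smul_eq_mul, smul_eq_mul, Nat.add_sub_cancel,
      smul_eq_mul, mul_one, nsmul_eq_mul, MvPolynomial.smul_eq_C_mul, map_add, map_natCast, map_one]
    push_cast
    ring
  obtain ⟨δ, hδ⟩ := exists_lin (m k 1 ^ (n + 1 + 1)) L fun p hp => by
    rw [mem_m_pow_one] at hp
    obtain ⟨q, rfl⟩ := hp
    rw [hL, hd, Ideal.Quotient.eq_zero_iff_mem, mem_m_pow_one]
    exact ⟨_, rfl⟩
  have hδ' : ∀ q, δ (Ideal.Quotient.mk _ (X 0 ^ (n + 1) * q)) = Ideal.Quotient.mk _ (X 0 ^ n * ((n + 1 : k) • q)) := by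
    intro q
    rw [hδ, hL, hd, Ideal.Quotient.eq, mem_m_pow_one]
    exact ⟨pderiv 0 q, by ring⟩
  have hn : (n + 1 : k) ≠ 0 := by exact_mod_cast Nat.succ_ne_zero n
  refine ⟨δ.toAddMonoidHom, ?_, ?_, ?_, ?_, ?_, ?_⟩
  · intro y
    obtain ⟨p, rfl⟩ := Ideal.Quotient.mk_surjective y
    exact ⟨Ideal.Quotient.mk _ p, rfl⟩
  · intro x y hx hy
    obtain ⟨p, rfl⟩ := exists_of_pi k hx
    obtain ⟨q, rfl⟩ := exists_of_pi k hy
    rw [← map_mul, Ideal.Quotient.eq_zero_iff_mem, mem_m_pow_one]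
    exact ⟨X 0 ^ n * p * q, by ring⟩
  · intro x y
    obtain ⟨p, rfl⟩ := Ideal.Quotient.mk_surjective x
    obtain ⟨q, rfl⟩ := Ideal.Quotient.mk_surjective y
    change δ _ = pi k n _ * δ _ + pi k n _ * δ _
    rw [← map_mul, hδ, hδ, hδ, pi_mk, pi_mk, hL, hL, hL, Derivation.leibniz, smul_eq_mul, smul_eq_mul, map_add,
      map_mul, map_mul]
  · intro x hx hx'
    obtain ⟨q, rfl⟩ := exists_of_pi k hx
    change δ _ = 0 at hx'
    rw [hδ', Ideal.Quotient.eq_zero_iff_mem, mem_m_pow_one] at hx'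
    obtain ⟨q', hq'⟩ := hx'
    rw [pow_succ, mul_assoc] at hq'
    have h1 := mul_left_cancel₀ (pow_ne_zero n (X_ne_zero (R := k) (0 : Fin 1))) hq'
    have h2 : q = X 0 * ((n + 1 : k)⁻¹ • q') := by
      rw [mul_smul_comm, ← h1, smul_smul, inv_mul_cancel₀ hn, one_smul]
    rw [Ideal.Quotient.eq_zero_iff_mem, mem_m_pow_one]
    refine ⟨(n + 1 : k)⁻¹ • q', ?_⟩
    conv_lhs => rw [h2]
    ring
  · intro x hx
    obtain ⟨q, rfl⟩ := exists_of_pi k hx
    change δ _ ∈ _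
    rw [hδ', map_mul, map_pow]
    exact Ideal.mul_mem_right _ _ (Ideal.subset_span rfl)
  · intro a ha
    rw [Ideal.mem_span_singleton] at ha
    obtain ⟨b, rfl⟩ := ha
    obtain ⟨q, rfl⟩ := Ideal.Quotient.mk_surjective b
    refine ⟨Ideal.Quotient.mk _ (X 0 ^ (n + 1) * ((n + 1 : k)⁻¹ • q)), ?_, ?_⟩
    · rw [pi_mk, Ideal.Quotient.eq_zero_iff_mem, mem_m_pow_one]
      exact ⟨_, rfl⟩
    · change δ _ = _
      rw [hδ', smul_smul, mul_inv_cancel₀ hn, one_smul, map_mul, map_pow]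
      rfl

end one

end K694.Pow
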