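import Groth.Agent.Deform.K694.CYBase
import Groth.Agent.Deform.K694.Lifts
import Groth.Agent.Deform.K694.PowGr
import Groth.Agent.Deform.K103.GlueT1
import Groth.Agent.Deform.K63.HullCurv
import Groth.Agent.Deform.K185.DefLift
import Groth.Agent.Deform.K680.RigPro
import Groth.Agent.Flat2C.AffineThickening
import Groth.Agent.S12307

/-!
# Deformations of schemes with trivial canonical sheaf in characteristic zero
-/

set_option autoImplicit false

universe u

open CategoryTheory CategoryTheory.Limits AlgebraicGeometry exteriorPower TopologicalSpace ArtFun ArtFun.Art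
open Groth.Agent.Lefpen.H721.OmegaSec

namespace K694.CY

variable {k : Type u} [Field k] {X : Scheme.{u}} {x : X ⟶ Spec (CommRingCat.of k)}

theorem subsingleton_primeSpectrum (A : Type u) [CommRing A] [IsArtinianRing A] [IsLocalRing A] :
    Subsingleton (PrimeSpectrum A) := by
  refine ⟨fun p q => ?_⟩
  have h : ∀ p : PrimeSpectrum A, p.asIdeal = IsLocalRing.maximalIdeal A := fun p =>
    IsLocalRing.eq_maximalIdeal (IsArtinianRing.isMaximal_of_isPrime p.asIdeal)
  exact PrimeSpectrum.ext ((h p).trans (h q).symm)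

theorem inf_affine {A : Type u} [CommRing A] {Y : Scheme.{u}} (π : Y ⟶ Spec (CommRingCat.of A)) [IsSeparated π]
    {U V : Y.Opens} (hU : IsAffineOpen U) (hV : IsAffineOpen V) : IsAffineOpen (U ⊓ V) := by
  have h : IsAffineHom (pullback.diagonal π) := inferInstance
  exact isAffineHom_diagonal_iff.mp h ⊤ (isAffineOpen_top _) U (fun _ _ => trivial) V (fun _ _ => trivial) hU hV

section cover

variable {A : Art k k} (ξ : DefSch X x A) [IsSeparated x]

theorem isAffineOpen_biInf {ι : Type} [Finite ι] (W : ι → ξ.total.Opens) (hW : ∀ i, IsAffineOpen (W i)) (I : Set ι)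
    (hI : I.Nonempty) : IsAffineOpen (⨅ i ∈ I, W i) := by
  have h1 := K185.DefLift.isClosedImmersion_i ξ
  have h2 := K185.DefLift.surjective_i ξ
  rw [← Groth.Agent.Flat2C.AffineThickening.isAffineOpen_preimage_iff (i := ξ.i), preimage_biInf]
  have h3 : ∀ i, IsAffineOpen (ξ.i ⁻¹ᵁ W i) := fun i => (hW i).preimage ξ.i
  induction I, Set.toFinite I using Set.Finite.induction_on with
  | empty => exact absurd hI Set.not_nonempty_empty
  | @insert a s _ _ ih =>
    rw [iInf_insert]
    rcases s.eq_empty_or_nonempty with rfl | hs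
    · simpa using h3 a
    · exact inf_affine x (h3 a) (ih hs)

theorem isAffineOpen_inf {V V' : ξ.total.Opens} (h : IsAffineOpen V) (h' : IsAffineOpen V') :
    IsAffineOpen (V ⊓ V') := by
  have h1 := K185.DefLift.isClosedImmersion_i ξ
  have h2 := K185.DefLift.surjective_i ξ
  rw [← Groth.Agent.Flat2C.AffineThickening.isAffineOpen_preimage_iff (i := ξ.i)]
  exact inf_affine x (h.preimage ξ.i) (h'.preimage ξ.i)

omit [IsSeparated x] in
theorem compactSpace [QuasiCompact x] : CompactSpace ξ.total := by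
  have : CompactSpace X := QuasiCompact.compactSpace_of_compactSpace x
  have h := K185.DefLift.isHomeomorph_i ξ
  exact h.homeomorph.compactSpace

end cover

section eta

variable [CharZero k] [Smooth x] [IsProper x] {A : Art k k} {E : Derivation k A A} (hG : Gr A.res E)
  (hHC : HodgeCech.{u}) (ξ : DefSch X x A) {ι : Type} [Finite ι] {W : ι → ξ.total.Opens}
  (hW : ∀ i, IsAffineOpen (W i)) (hcov : ⨆ i, W i = ⊤)

include hG hHC hW hcov

theorem surj (a b : ℕ) (J : Ideal A) : Function.Surjective (((cech ((cov ξ.f W).sys a)).toQuo J).H b) := by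
  have := K185.DefLift.smooth ξ
  exact cech_surjective hG ξ.isPullback (isAffineOpen_biInf ξ W hW) hcov hHC a b J

theorem eta {p : ℕ} (hω : ExtPow.IsExtPow p (Omega.sheaf x) (Coh.structureModule X)) :
    ∃ F : Eta ξ.f W p, (F.pull ξ.isPullback.w).Gen := by
  have := K185.DefLift.smooth ξ
  have h1 := K185.DefLift.isClosedImmersion_i ξ
  obtain ⟨E₀, hE₀⟩ := exists_eta₀ x hω (fun i => ξ.i ⁻¹ᵁ W i) (fun i => (hW i).preimage ξ.i)
    (fun i j => inf_affine x ((hW i).preimage ξ.i) ((hW j).preimage ξ.i))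
  obtain ⟨F, hF⟩ := exists_eta hG ξ.isPullback (isAffineOpen_biInf ξ W hW) hcov hHC E₀
  refine ⟨F, fun i V h hV => ?_⟩
  have e : (F.pull ξ.isPullback.w).at i h = E₀.at i h := congrArg (rs x h p) (hF i)
  rw [e]
  exact hE₀ i V h hV

theorem liftsCoc_of_eta {n : ℕ} (hω : ExtPow.IsExtPow (n + 1) (Omega.sheaf x) (Coh.structureModule X))
    (hb : ∀ i, ∃ r, Nonempty (Module.Basis (Fin r) (SA ξ.f (W i)) (Ω[SA ξ.f (W i)⁄A]))) (K : Ideal A) :
    Iface.LiftsCoc ξ.f K W := by
  have := K185.DefLift.smooth ξ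
  obtain ⟨F, hF⟩ := eta hG hHC ξ hW hcov hω
  have hFG : F.Gen := F.gen_of_red ξ.isPullback A.res_surjective hF
  have hb' : ∀ i, Nonempty (Module.Basis (Fin (n + 1)) (SA ξ.f (W i)) (Ω[SA ξ.f (W i)⁄A])) := fun i => by
    obtain ⟨r, ⟨b⟩⟩ := hb i
    exact exists_basis_of_gen b (hFG i (W i) le_rfl (hW i))
  exact liftsCoc K hW (fun i j => isAffineOpen_inf ξ (hW i) (hW j))
    (fun i j l => isAffineOpen_inf ξ (isAffineOpen_inf ξ (hW i) (hW j)) (hW l)) (fun i => (hb' i).some) F hFG
    (surj hG hHC ξ hW hcov n 1 K)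

end eta

end K694.CY
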