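import Groth.Agent.Deform.K694.EtaLift
import Groth.Agent.Sga67.LocBasis

/-!
# Covers, ranks, generators of the canonical sheaf
-/

set_option autoImplicit false

universe u

open CategoryTheory CategoryTheory.Limits AlgebraicGeometry exteriorPower TopologicalSpace
open Groth.Agent.Lefpen.H721.OmegaSec Groth.Agent.Sga67.Sec Groth.Agent.Sga67.LocBasis

namespace K694

/-- Finite affine covers with free differentials. -/
theorem exists_cover {A : Type u} [CommRing A] [Subsingleton (PrimeSpectrum A)] {Y : Scheme.{u}}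
    (f : Y ⟶ Spec (CommRingCat.of A)) [Smooth f] [CompactSpace Y] :
    ∃ (n : ℕ) (W : Fin n → Y.Opens), (∀ i, IsAffineOpen (W i)) ∧ ⨆ i, W i = ⊤ ∧
      ∀ i, ∃ r, Nonempty (Module.Basis (Fin r) (SA f (W i)) (Ω[SA f (W i)⁄A])) := by
  choose V hV hy r b using exists_chart f
  obtain ⟨t, ht⟩ := CompactSpace.elim_nhds_subcover (fun y : Y => (V y : Set Y))
    (fun y => (V y).isOpen.mem_nhds (hy y))
  refine ⟨t.card, fun i => V (t.equivFin.symm i), fun i => hV _, ?_, fun i => ⟨_, b _⟩⟩
  rw [eq_top_iff]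
  intro y _
  have h1 : y ∈ ⋃ x ∈ t, (V x : Set Y) := by rw [ht]; trivial
  simp only [Set.mem_iUnion] at h1
  obtain ⟨x, hx, hyx⟩ := h1
  rw [Opens.mem_iSup]
  refine ⟨t.equivFin ⟨x, hx⟩, ?_⟩
  change y ∈ V (t.equivFin.symm (t.equivFin ⟨x, hx⟩))
  rw [Equiv.symm_apply_apply]
  exact hyx

/-- The rank of the differentials from a generator of an exterior power. -/
theorem exists_basis_of_gen {B M : Type u} [CommRing B] [AddCommGroup M] [Module B M] {r n : ℕ}
    (b : Module.Basis (Fin r) B M) {η : ↥(⋀[B]^(n + 1) M)} (hη : Function.Bijective fun b : B => b • η) :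
    Nonempty (Module.Basis (Fin (n + 1)) B M) := by
  rcases subsingleton_or_nontrivial B with h | h
  · have h7 : Subsingleton M := Module.subsingleton B _
    let e : M ≃ₗ[B] (Fin (n + 1) → B) :=
      { toFun := fun _ => 0
        map_add' := fun _ _ => (add_zero _).symm
        map_smul' := fun _ _ => Subsingleton.elim _ _
        invFun := fun _ => 0
        left_inv := fun _ => Subsingleton.elim _ _
        right_inv := fun _ => Subsingleton.elim _ _ }
    exact ⟨Module.Basis.ofEquivFun e⟩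
  · let L : B ≃ₗ[B] ↥(⋀[B]^(n + 1) M) := LinearEquiv.ofBijective (LinearMap.toSpanSingleton B _ η) hη
    have : Module.Free B M := Module.Free.of_basis b
    have : Module.Finite B M := Module.Finite.of_basis b
    have h1 : Module.finrank B ↥(⋀[B]^(n + 1) M) = 1 := by
      rw [← L.finrank_eq, Module.finrank_self]
    rw [exteriorPower.finrank_eq, Module.finrank_eq_card_basis b, Fintype.card_fin, Nat.choose_eq_one_iff] at h1
    have h2 : r = n + 1 := h1.resolve_left (Nat.succ_ne_zero n)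
    subst h2
    exact ⟨b⟩

section sheaf

variable {A : Type u} [CommRing A] {Y : Scheme.{u}} (f : Y ⟶ Spec (CommRingCat.of A))
  [QuasiCompact (pullback.diagonal f)] {p : ℕ}

omit [QuasiCompact (pullback.diagonal f)] in
theorem rs_eq_powS {V V' : Y.Opens} (h : V' ≤ V) (x : ↥(⋀[SA f V]^p (Ω[SA f V⁄A]))) :
    rs f h p x = Groth.Agent.Lefpen.H721.OmegaPow.powS (resA f h) p x :=
  (Wt.sqA (resA f h)).dm_powS (resA f h) (fun _ => rfl) p x

/-- A section of the structure sheaf as an element of the algebra of functions. -/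
def toA {V : Y.Opens} (s : Sec (Coh.structureModule Y) V) : SA f V := s

/-- A function as an element of the algebra of functions. -/
def fnA {V : Y.Opens} (s : Γ(Y, V)) : SA f V := s

/-- The section `1`. -/
noncomputable def oneA (V : Y.Opens) : Γ(Coh.structureModule Y, V) := one Y V

/-- A trivialisation of the top exterior power gives a compatible family of generators. -/
theorem exists_eta₀ (hω : ExtPow.IsExtPow p (Omega.sheaf f) (Coh.structureModule Y)) {ι : Type} (U : ι → Y.Opens)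
    (hU : ∀ i, IsAffineOpen (U i)) (hU2 : ∀ i j, IsAffineOpen (U i ⊓ U j)) : ∃ E : Eta f U p, E.Gen := by
  obtain ⟨e, he⟩ := exists_equiv_family f hω
  have key : ∀ (V V' : Y.affineOpens) (h : V'.1 ≤ V.1),
      rs f h p ((e V).symm (oneA V.1)) = (e V').symm (oneA V'.1) := by
    intro V V' h
    rw [rs_eq_powS, LinearEquiv.eq_symm_apply, ← he V V' h, LinearEquiv.apply_symm_apply]
    exact res_one Y h
  refine ⟨⟨fun i => (e ⟨U i, hU i⟩).symm (oneA (U i)), fun i j V hi hj => ?_⟩, fun i V h hV => ?_⟩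
  · rw [← rs_rs (inf_le_left : U i ⊓ U j ≤ U i) (le_inf hi hj), ← rs_rs (inf_le_right : U i ⊓ U j ≤ U j) (le_inf hi hj)]
    have e1 := key ⟨U i, hU i⟩ ⟨U i ⊓ U j, hU2 i j⟩ inf_le_left
    have e2 := key ⟨U j, hU j⟩ ⟨U i ⊓ U j, hU2 i j⟩ inf_le_right
    exact congrArg _ (e1.trans e2.symm)
  · have e1 : rs f h p ((e ⟨U i, hU i⟩).symm (oneA (U i))) = _ := key ⟨U i, hU i⟩ ⟨V, hV⟩ h
    change Function.Bijective fun b : SA f V => b • rs f h p ((e ⟨U i, hU i⟩).symm (oneA (U i)))
    rw [e1]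
    have e2 : (fun b : SA f V => b • (e ⟨V, hV⟩).symm (oneA V)) =
        (e ⟨V, hV⟩).symm ∘ fun b : SA f V => b • (oneA V : Γ(Coh.structureModule Y, V)) := by
      funext b
      exact ((e ⟨V, hV⟩).symm.map_smul b _).symm
    refine e2 ▸ (e ⟨V, hV⟩).symm.bijective.comp ?_
    have e3 : (fun b : SA f V => b • (oneA V : Γ(Coh.structureModule Y, V))) =
        (id : Γ(Coh.structureModule Y, V) → Γ(Coh.structureModule Y, V)) := by
      funext b
      exact smul_one Y V b
    rw [e3]
    exact Function.bijective_id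

/-- A compatible family of generators trivialises the exterior power. -/
theorem nonempty_iso_of_eta (ω : Y.Modules) (hω : ExtPow.IsExtPow p (Omega.sheaf f) ω) {ι : Type} {W : ι → Y.Opens}
    (hcov : ⨆ i, W i = ⊤) (E : Eta f W p) (hE : E.Gen) : Nonempty (ω ≅ Coh.structureModule Y) := by
  obtain ⟨e, he⟩ := exists_equiv_family f hω
  let T := Σ' (i : ι) (V : Y.affineOpens), V.1 ≤ W i
  let Bs : T → Y.Opens := fun t => t.2.1.1
  have hB : Opens.IsBasis (Set.range Bs) := by
    rw [Opens.isBasis_iff_nbhd]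
    intro U x hx
    have h1 : x ∈ (⨆ i, W i) := by rw [hcov]; trivial
    obtain ⟨i, hi⟩ := Opens.mem_iSup.1 h1
    obtain ⟨V, hV, hxV, hVU⟩ := Opens.isBasis_iff_nbhd.1 Y.isBasis_affineOpens (show x ∈ U ⊓ W i from ⟨hx, hi⟩)
    exact ⟨V, ⟨⟨i, ⟨V, hV⟩, hVU.trans inf_le_right⟩, rfl⟩, hxV, hVU.trans inf_le_left⟩
  let φ : ∀ t : T, Sec (Coh.structureModule Y) (Bs t) →ₗ[Γ(Y, Bs t)] Sec ω (Bs t) := fun t =>
    { toFun := fun a => e t.2.1 (toA f a • E.at t.1 t.2.2)
      map_add' := fun a b => (congrArg (e t.2.1) (add_smul (toA f a) (toA f b) _)).trans (map_add _ _ _)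
      map_smul' := fun r a => (congrArg (e t.2.1) (mul_smul (fnA f (V := t.2.1.1) r) (toA f a) _)).trans
        ((e t.2.1).map_smul _ _) }
  obtain ⟨F, hF⟩ := exists_hom_of_basis' hB (Coh.structureModule Y) ω φ (by
    intro i j h s
    change e j.2.1 (toA f (V := j.2.1.1) (res _ h s) • E.at j.1 j.2.2) =
      ω.presheaf.map (homOfLE h).op (e i.2.1 (toA f (V := i.2.1.1) s • E.at i.1 i.2.2))
    rw [he, ← rs_eq_powS f h, rs_smul, E.rs_at, E.at_eq i.1 j.1 (h.trans i.2.2) j.2.2]
    rfl)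
  have : IsIso F := isIso_of_bijective F (by
    intro x U hx
    obtain ⟨V, ⟨t, rfl⟩, hxV, hVU⟩ := Opens.isBasis_iff_nbhd.1 hB hx
    refine ⟨Bs t, hVU, hxV, ?_⟩
    have h1 : (appS F (Bs t) : _ → _) = φ t := funext fun s => hF t s
    rw [h1]
    exact (e t.2.1).bijective.comp (hE t.1 t.2.1.1 t.2.2 t.2.1.2))
  exact ⟨(asIso F).symm⟩

end sheaf

end K694
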