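import Groth.Agent.Deform.K694.RS
import Groth.Agent.Lefpen.H721.OmegaSec
import Groth.Prelude.Def_DeRham2
import Groth.Prelude.Def_KLinDR
import Groth.Prelude.Def_Coh
import Mathlib.AlgebraicGeometry.Morphisms.Proper
import Mathlib.AlgebraicGeometry.Over

/-!
# The Čech system of rings of a cover, and the Hodge numerical input
-/

set_option autoImplicit false

universe u

open CategoryTheory AlgebraicGeometry exteriorPower TopologicalSpace

namespace K694

open Groth.Agent.Lefpen.H722.Sys Groth.Agent.Lefpen.H721.OmegaSec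

/-- The system of functions on the intersections `⨅ i ∈ I, U i`. -/
noncomputable def cov {A : Type u} [CommRing A] {X : Scheme.{u}} (f : X ⟶ Spec (CommRingCat.of A)) {ι : Type}
    (U : ι → X.Opens) : RS A ι where
  B I := SA f (⨅ i ∈ I, U i)
  res {_ _} h := resA f (biInf_mono h)
  res_res {_ _ _} h h' x := resA_resA f (biInf_mono h) (biInf_mono h') x

/-- **Piece (D)**: the numerical form of the degeneration of the Hodge to de Rham spectral sequence, for the combinatorial
Čech–de Rham complex of an affine cover. -/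
def HodgeCech : Prop :=
  ∀ (k : Type u) [Field k] [CharZero k] {X : Scheme.{u}} (x : X ⟶ Spec (CommRingCat.of k)) [Smooth x] [IsProper x]
    {ι : Type} [Finite ι] (U : ι → X.Opens) (_ : ∀ i, IsAffineOpen (U i)) (_ : ⨆ i, U i = ⊤) (n : ℕ),
    Module.length k ((cov x U).dr.tot.H n) ≠ ⊤ ∧
      ∑ a ∈ Finset.range (n + 1), Module.length k ((cech ((cov x U).sys a)).H (n - a)) ≤
        Module.length k ((cov x U).dr.tot.H n)

/-- The statement of S19853. -/
def S19853 : Prop :=
  ∀ (K : Type u) [Field K] [CharZero K]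
    (X : Scheme.{u}) [X.Over (Spec (CommRingCat.of K))] [IsProper (X ↘ Spec (CommRingCat.of K))]
    [Smooth (X ↘ Spec (CommRingCat.of K))]
    (D : DeRhamSh.OmegaCx (X ↘ Spec (CommRingCat.of K)))
    (h : KLinDR.TermwiseLinear (Coh.toGlobal (X ↘ Spec (CommRingCat.of K))) D.K D.term D.iso)
    [HasDerivedCategory.{u} (Sheaf (Opens.grothendieckTopology X) AddCommGrpCat.{u})] (l : ℕ),
    Module.Finite K (KLinDR.HdR (Coh.toGlobal (X ↘ Spec (CommRingCat.of K))) D h l) ∧
      Module.finrank K (KLinDR.HdR (Coh.toGlobal (X ↘ Spec (CommRingCat.of K))) D h l) =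
        ∑ a ∈ Finset.range (l + 1), Module.finrank K (Coh.HH X (D.term a) (l - a))

/-- What remains to be proved for piece (D). -/
def PieceD : Prop := S19853.{u} → HodgeCech.{u}

end K694
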