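import Groth.Agent.Deform.K694.CYMain
import Groth.Agent.Deform.K735.PieceD
import Groth.Agent.S19853

/-!
# Numerical Hodge degeneration for Čech–de Rham complexes
-/

set_option autoImplicit false

universe u

namespace K694

theorem hodgeCech : HodgeCech.{u} :=
  K735.PieceD.main fun K _ _ X _ _ _ D h _ l => Groth.Agent.S19853.result K X D h l

end K694
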