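import Groth.Agent.Deform.K694.CY

/-!
# The unobstructedness of weak Calabi–Yau varieties (characteristic zero), modulo `HodgeCech`
-/

set_option autoImplicit false

universe u

open CategoryTheory CategoryTheory.Limits AlgebraicGeometry exteriorPower TopologicalSpace ArtFun ArtFun.Art
open Groth.Agent.Lefpen.H721.OmegaSec

namespace K694.CY

theorem pb_pb' {A A' A'' : Type u} [CommRing A] [CommRing A'] [CommRing A''] {φ : A →+* A'} {φ' : A' →+* A''}
    {φ'' : A →+* A''} (hφ : φ'.comp φ = φ'') {Y Y' Y'' : Scheme.{u}} {f : Y ⟶ Spec (CommRingCat.of A)}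
    {f' : Y' ⟶ Spec (CommRingCat.of A')} {f'' : Y'' ⟶ Spec (CommRingCat.of A'')} {g : Y' ⟶ Y} {g' : Y'' ⟶ Y'}
    {g'' : Y'' ⟶ Y} (hg : g' ≫ g = g'') (w : g ≫ f = f' ≫ Spec.map (CommRingCat.ofHom φ))
    (w' : g' ≫ f' = f'' ≫ Spec.map (CommRingCat.ofHom φ')) (w'' : g'' ≫ f = f'' ≫ Spec.map (CommRingCat.ofHom φ''))
    {V : Y.Opens} {V' : Y'.Opens} {V'' : Y''.Opens} (h : V' ≤ g ⁻¹ᵁ V) (h' : V'' ≤ g' ⁻¹ᵁ V')
    (h'' : V'' ≤ g'' ⁻¹ᵁ V) (p : ℕ) (x : ↥(⋀[SA f V]^p (Ω[SA f V⁄A]))) :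
    pb w' h' p (pb w h p x) = pb w'' h'' p x := by
  subst hφ hg
  exact pb_pb w w' w'' h h' h'' p x

section point

variable {A : Type u} [CommRing A] {Y : Scheme.{u}} {f : Y ⟶ Spec (CommRingCat.of A)} (K : Ideal A)

open Iface

theorem exists_ext1_of_eq {V V' : Y.Opens} (h : V' ≤ V) (e : V' = V)
    (D : Derivation A (SA f V) (SA f V ⧸ KS f K V)) : ∃ D', Ext1 f K h D D' ∧ (D' = 0 → D = 0) := by
  subst e
  refine ⟨D, fun x y hxy => ?_, id⟩
  rw [resA_self, resA_self]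
  exact hxy

theorem eq_zero_of_ext0 {V V' : Y.Opens} (h : V' ≤ V) (e : V' = V) {D' : Derivation A (SA f V') (SA f V')}
    (hD : Ext0 f h 0 D') : D' = 0 := by
  subst e
  ext x
  have h1 := hD x
  rw [resA_self] at h1
  rw [h1]
  exact map_zero _

theorem eq_zero_of_ext1 {V V' : Y.Opens} (h : V' ≤ V) (e : V' = V)
    {D' : Derivation A (SA f V') (SA f V' ⧸ KS f K V')} (hD : Ext1 f K h 0 D') : D' = 0 := by
  subst e
  ext x
  have h1 := hD x 0 (by rw [map_zero]; rfl)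
  rw [resA_self] at h1
  rw [h1, map_zero, map_zero]
  rfl

/-- Over a one-point cover there is nothing to lift. -/
theorem liftsCoc_unit : Iface.LiftsCoc f K (fun _ : Unit => (⊤ : Y.Opens)) := by
  intro κ hκ
  refine ⟨fun _ _ => 0, fun i j l d₁ d₂ d₃ h₁ h₂ h₃ => ?_, fun _ => 0, fun i j l₁ l₂ h₁ h₂ x => ?_⟩
  · rw [eq_zero_of_ext0 _ (by simp) h₁, eq_zero_of_ext0 _ (by simp) h₂, eq_zero_of_ext0 _ (by simp) h₃, add_zero]
  · obtain ⟨d, hd, hd0⟩ := exists_ext1_of_eq K (V' := (⊤ : Y.Opens) ⊓ ⊤ ⊓ ⊤) (V := (⊤ : Y.Opens) ⊓ ⊤) inf_le_left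
      (by simp) (κ () ())
    have h4 := hκ () () () d d d hd hd hd
    have h5 : d = 0 := by simpa using h4
    have h6 := hd0 h5
    rw [eq_zero_of_ext1 K _ (by simp) h₁, eq_zero_of_ext1 K _ (by simp) h₂]
    have h7 : κ i j = 0 := h6
    rw [h7]
    simp

end point

variable {k : Type u} [Field k] {X : Scheme.{u}} {x : X ⟶ Spec (CommRingCat.of k)}

omit [Field k] in
theorem subsingleton_of_dim [AlgebraicGeometry.IsIntegral X] (h : topologicalKrullDim X = (0 : ℕ)) : Subsingleton X := by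
  have h0 : Order.krullDim (IrreducibleCloseds X) ≤ 0 := by
    change topologicalKrullDim X ≤ 0
    rw [h]
    rfl
  rw [Order.krullDim_nonpos_iff_forall_isMax] at h0
  have h1 : ∀ y : X, closure ({y} : Set X) = Set.univ := by
    intro y
    let c : IrreducibleCloseds X := ⟨closure {y}, isIrreducible_singleton.closure, isClosed_closure⟩
    let t : IrreducibleCloseds X := ⟨Set.univ, IrreducibleSpace.isIrreducible_univ X, isClosed_univ⟩
    have h2 : t ≤ c := h0 c (show c ≤ t from fun _ _ => trivial)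
    exact Set.univ_subset_iff.1 h2
  refine ⟨fun y z => ?_⟩
  have h3 : Inseparable y z := by
    rw [inseparable_iff_closure_eq, h1, h1]
  exact h3.eq

theorem isAffineOpen_top_of_subsingleton (Y : Scheme.{u}) [Subsingleton Y] : IsAffineOpen (⊤ : Y.Opens) := by
  rcases isEmpty_or_nonempty Y with h | ⟨⟨y⟩⟩
  · exact isAffineOpen_top Y
  · obtain ⟨V, hV, hy, -⟩ := Opens.isBasis_iff_nbhd.1 Y.isBasis_affineOpens (show y ∈ (⊤ : Y.Opens) from trivial)
    have : V = ⊤ := by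
      ext z
      rw [Subsingleton.elim z y]
      exact ⟨fun _ => trivial, fun _ => hy⟩
    subst this
    exact hV

/-- the class of a flat lift -/
theorem exists_of_lift {B A : Art k k} (μ : B ⟶ A) (ξ : DefSch X x A)
    (h : ∃ (Z : Scheme.{u}) (g : Z ⟶ spec B) (j : ξ.total ⟶ Z), Flat g ∧ IsPullback j ξ.f g (specMap μ)) :
    ∃ y, (defFunctor (Λ := k) X x).map μ y = ξ.cl := by
  obtain ⟨Z, g, j, h1, h3⟩ := h
  have h4 : IsPullback (ξ.i ≫ j) x g (specRes B) := by
    rw [← specRes_comp μ]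
    exact ξ.isPullback.paste_horiz h3
  let ζ : DefSch X x B := ⟨Z, g, h1, ξ.i ≫ j, h4⟩
  refine ⟨ζ.cl, ?_⟩
  rw [defFunctor_map_cl]
  refine Quotient.sound ⟨⟨(IsPullback.of_hasPullback ζ.f (specMap μ)).isoIsPullback _ _ h3,
    IsPullback.isoIsPullback_hom_snd _ _ _ _, ?_⟩⟩
  apply h3.hom_ext
  · rw [Category.assoc, IsPullback.isoIsPullback_hom_fst]
    exact DefSch.baseChange_i_fst ζ μ
  · rw [Category.assoc, IsPullback.isoIsPullback_hom_snd]
    exact (DefSch.baseChange_i_f ζ μ).trans ξ.i_f.symm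

variable [CharZero k] [AlgebraicGeometry.IsIntegral X] [Smooth x] [IsProper x] (hHC : HodgeCech.{u}) (d : ℕ)
  (hdim : topologicalKrullDim X = d)
  (hω : ExtPow.IsExtPow d (Omega.sheaf x) (Coh.structureModule X))

include hHC hdim hω

/-- Lifting along curvilinear extensions. -/
theorem exists_lift (n : ℕ) (ξ : DefSch X x (Pow.obj k 1 n)) :
    ∃ (Z : Scheme.{u}) (g : Z ⟶ spec (Pow.obj k 1 (n + 1))) (j : ξ.total ⟶ Z),
      Flat g ∧ IsPullback j ξ.f g (specMap (Pow.proj k 1 (Nat.le_succ n))) := by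
  have hsm := K185.DefLift.smooth ξ
  obtain ⟨E, hE⟩ := Pow.exists_gr k 1 n
  obtain ⟨δ, h1, h2, h3, h4, h5, h6⟩ := Pow.exists_delta k n
  have key : ∀ {ι : Type} (W : ι → ξ.total.Opens), (∀ i, IsAffineOpen (W i)) → ⨆ i, W i = ⊤ →
      Iface.LiftsCoc (A := Pow.Q k 1 n) ξ.f (Ideal.span {Pow.t k n ^ n}) W →
      ∃ (Z : Scheme.{u}) (g : Z ⟶ spec (Pow.obj k 1 (n + 1))) (j : ξ.total ⟶ Z),
        Flat g ∧ IsPullback j ξ.f g (specMap (Pow.proj k 1 (Nat.le_succ n))) := by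
    intro ι W hW hcov hL
    let f' : ξ.total ⟶ Spec (CommRingCat.of (Pow.Q k 1 n)) := ξ.f
    have hsm' : Smooth f' := hsm
    exact K103.T1.glueT1 (Pow.Q k 1 (n + 1)) (Pow.Q k 1 n) (Pow.pi k n) (Ideal.span {Pow.t k n ^ n}) δ h1 h2 h3 h4 h5 h6
      f' W hW (fun i j => isAffineOpen_inf ξ (hW i) (hW j))
      (fun i j l => isAffineOpen_inf ξ (isAffineOpen_inf ξ (hW i) (hW j)) (hW l)) hcov hL
  cases d with
  | zero =>
    have hX := subsingleton_of_dim hdim
    have hY : Subsingleton ξ.total := by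
      have h := K185.DefLift.isHomeomorph_i ξ
      exact h.homeomorph.toEquiv.symm.subsingleton
    exact key (fun _ : Unit => ⊤) (fun _ => isAffineOpen_top_of_subsingleton _) (by simp) (liftsCoc_unit _)
  | succ m =>
    have := compactSpace ξ
    have := subsingleton_primeSpectrum (Pow.obj k 1 n)
    obtain ⟨r, W, hW, hcov, hb⟩ := exists_cover ξ.f
    exact key W hW hcov (liftsCoc_of_eta (A := Pow.obj k 1 n) hE hHC ξ hW hcov hω hb _)

theorem surjective_curv (n : ℕ) :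
    Function.Surjective ((defFunctor (Λ := k) X x).map (Pow.proj k 1 (Nat.le_succ n))) := by
  intro q
  induction q using Quotient.inductionOn with
  | h ξ => exact exists_of_lift _ ξ (exists_lift hHC d hdim hω n ξ)

omit [CharZero k] [AlgebraicGeometry.IsIntegral X] [Smooth x] hHC hdim hω in
theorem hasHull : HasHull (defFunctor (Λ := k) X x) := by
  have : IsAdicComplete (IsLocalRing.maximalIdeal k) k := by
    rw [IsLocalRing.maximalIdeal_eq_bot]
    infer_instance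
  exact Groth.Agent.S12307.result k k Function.surjective_id X x

/-- The deformation functor is smooth, and all deformations come from truncated polynomial rings. -/
theorem main : IsSmoothFunctor (defFunctor (Λ := k) X x) ∧
    ∀ (A : Art k k) (ξ : (defFunctor (Λ := k) X x).obj A), ∃ (r N : ℕ) (φ : Pow.obj k r N ⟶ A)
      (y : (defFunctor (Λ := k) X x).obj (Pow.obj k r N)), (defFunctor (Λ := k) X x).map φ y = ξ :=
  K63.HullCurv.main k _ hasHull (surjective_curv hHC d hdim hω)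

/-- **Triviality of the relative canonical sheaf of deformations.** -/
theorem nonempty_iso (A : Art k k) (ξ : DefSch X x A) [QuasiCompact (pullback.diagonal ξ.f)] (ω : ξ.total.Modules)
    (hωA : ExtPow.IsExtPow d (Omega.sheaf ξ.f) ω) : Nonempty (ω ≅ Coh.structureModule ξ.total) := by
  obtain ⟨r, N, φ, y, hy⟩ := (main hHC d hdim hω).2 A ξ.cl
  induction y using Quotient.inductionOn with
  | h ζ =>
  obtain ⟨e⟩ : Nonempty (DefSch.Iso (ζ.baseChange φ) ξ) := Quotient.exact hy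
  obtain ⟨g, w, hgi⟩ : ∃ g : ξ.total ⟶ ζ.total, g ≫ ζ.f = ξ.f ≫ specMap φ ∧ ξ.i ≫ g = ζ.i := by
    refine ⟨e.iso.inv ≫ pullback.fst ζ.f (specMap φ), ?_, ?_⟩
    · rw [Category.assoc, pullback.condition, ← Category.assoc]
      congr 1
      exact e.symm.hom_f
    · rw [← Category.assoc]
      have h1 : ξ.i ≫ e.iso.inv = (ζ.baseChange φ).i := e.symm.i_hom
      rw [h1, DefSch.baseChange_i_fst]
  obtain ⟨E, hE⟩ := Pow.exists_gr k r N
  have := K185.DefLift.smooth ζ
  have := K185.DefLift.smooth ξ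
  have := compactSpace ζ
  have := subsingleton_primeSpectrum (Pow.obj k r N)
  obtain ⟨n, W, hW, hcov, -⟩ := exists_cover ζ.f
  obtain ⟨F, hF⟩ := eta (A := Pow.obj k r N) hE hHC ζ hW hcov hω
  have hF' : ((F.pull w).pull ξ.isPullback.w).Gen := by
    intro i V h hV
    have h' : V ≤ ζ.i ⁻¹ᵁ W i := by
      rw [← hgi]
      exact h
    have e1 : ((F.pull w).pull ξ.isPullback.w).at i h = (F.pull ζ.isPullback.w).at i h' := by
      change rs x h d (pb ξ.isPullback.w _ d (pb w _ d (F.η i))) = rs x h' d (pb ζ.isPullback.w _ d (F.η i))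
      have h'' : V ≤ ξ.i ⁻¹ᵁ (g ⁻¹ᵁ W i) := h
      rw [← pb_rs ξ.isPullback.w (le_refl (ξ.i ⁻¹ᵁ (g ⁻¹ᵁ W i))) h'' (le_refl _) h'',
        ← pb_rs ζ.isPullback.w (le_refl (ζ.i ⁻¹ᵁ W i)) h' (le_refl _) h', rs_self, rs_self]
      exact pb_pb' (congrArg AlgHom.toRingHom φ.res_comp) hgi w ξ.isPullback.w ζ.isPullback.w _ _ _ d (F.η i)
    rw [e1]
    exact hF i V h' hV
  refine nonempty_iso_of_eta ξ.f ω hωA (W := fun i => g ⁻¹ᵁ W i) ?_ (F.pull w)
    ((F.pull w).gen_of_red ξ.isPullback A.res_surjective hF')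
  rw [← Scheme.Hom.preimage_iSup, hcov]
  rfl

end K694.CY
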