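import Groth.Agent.DeRham.K852.Maps
import Groth.Agent.DeRham.K852.KaehlerExist
import Groth.Agent.Lefpen.H721.OmegaPow

/-!
# Maps of ring-level de Rham complexes along squares of rings

`Sq R A R' A'`: ring maps `h : R → R'`, `g : A → A'` with `g ∘ (R → A) = (R' → A') ∘ h`.
`Sq.dm s p : ⋀^p Ω[A⁄R] →+ ⋀^p Ω[A'⁄R']`, additive, compatible with `dR`, functorial; surjective if `g` is; kernel
`(ker g) • ⊤` if `R → R'`, `A → A'` are surjective and `ker g` is generated by `ker h`.
-/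

set_option autoImplicit false

universe u

open exteriorPower
open scoped TensorProduct

namespace K694

section generalities

variable {R S : Type u} [CommRing R] [CommRing S] [Algebra R S]

theorem one_tmul_surj (hS : Function.Surjective (algebraMap R S)) {M : Type u} [AddCommGroup M] [Module R M]
    (z : S ⊗[R] M) : ∃ m : M, z = (1 : S) ⊗ₜ[R] m := by
  induction z with
  | zero => exact ⟨0, by rw [TensorProduct.tmul_zero]⟩
  | tmul s m =>
    obtain ⟨r, rfl⟩ := hS s
    exact ⟨r • m, by rw [TensorProduct.tmul_smul, TensorProduct.smul_tmul', Algebra.algebraMap_eq_smul_one]⟩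
  | add x y hx hy =>
    obtain ⟨m, rfl⟩ := hx
    obtain ⟨n, rfl⟩ := hy
    exact ⟨m + n, by rw [TensorProduct.tmul_add]⟩

theorem one_tmul_eq_zero_of_mem {M : Type u} [AddCommGroup M] [Module R M] {x : M}
    (hx : x ∈ RingHom.ker (algebraMap R S) • (⊤ : Submodule R M)) : (1 : S) ⊗ₜ[R] x = 0 := by
  refine Submodule.smul_induction_on (p := fun x => (1 : S) ⊗ₜ[R] x = 0) hx ?_ ?_
  · intro a ha y _
    rw [TensorProduct.tmul_smul, TensorProduct.smul_tmul', ← Algebra.algebraMap_eq_smul_one,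
      RingHom.mem_ker.1 ha, TensorProduct.zero_tmul]
  · intro y z hy hz
    rw [TensorProduct.tmul_add, hy, hz, add_zero]

theorem mem_of_one_tmul_eq_zero (hS : Function.Surjective (algebraMap R S)) {M : Type u} [AddCommGroup M]
    [Module R M] {x : M} (hx : (1 : S) ⊗ₜ[R] x = 0) : x ∈ RingHom.ker (algebraMap R S) • (⊤ : Submodule R M) := by
  have h1 : (Algebra.ofId R S : R →ₐ[R] S).toRingHom = algebraMap R S := rfl
  let e : (R ⧸ RingHom.ker (algebraMap R S)) ≃ₐ[R] S :=
    Ideal.quotientKerAlgEquivOfSurjective (f := Algebra.ofId R S) hS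
  have h2 := congrArg (TensorProduct.congr e.symm.toLinearEquiv (LinearEquiv.refl R M)) hx
  rw [map_zero, TensorProduct.congr_tmul] at h2
  have h3 : e.symm.toLinearEquiv 1 = 1 := map_one e.symm
  rw [h3] at h2
  have h4 : x ∈ LinearMap.ker (TensorProduct.mk R (R ⧸ RingHom.ker (algebraMap R S)) M 1) := h2
  rwa [LinearMap.ker_tensorProductMk] at h4

/-- A surjection with the right kernel is a base change along a surjection of rings. -/
theorem isBaseChange_of_surj (hS : Function.Surjective (algebraMap R S)) {M N : Type u} [AddCommGroup M]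
    [Module R M] [AddCommGroup N] [Module R N] [Module S N] [IsScalarTower R S N] (f : M →ₗ[R] N)
    (hf : Function.Surjective f)
    (hk : ∀ x, f x = 0 → x ∈ RingHom.ker (algebraMap R S) • (⊤ : Submodule R M)) : IsBaseChange S f := by
  let Φ : S ⊗[R] M →ₗ[S] N := (TensorProduct.isBaseChange R M S).lift f
  have hΦ : ∀ m, Φ (1 ⊗ₜ m) = f m := fun m => (TensorProduct.isBaseChange R M S).lift_eq f m
  have hb : Function.Bijective Φ := by
    constructor
    · rw [injective_iff_map_eq_zero]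
      intro z hz
      obtain ⟨m, rfl⟩ := one_tmul_surj hS z
      rw [hΦ] at hz
      exact one_tmul_eq_zero_of_mem (hk m hz)
    · intro n
      obtain ⟨m, rfl⟩ := hf n
      exact ⟨1 ⊗ₜ m, hΦ m⟩
  exact IsBaseChange.of_equiv (LinearEquiv.ofBijective Φ hb) hΦ

theorem mem_ker_of_isBaseChange (hS : Function.Surjective (algebraMap R S)) {M N : Type u} [AddCommGroup M]
    [Module R M] [AddCommGroup N] [Module R N] [Module S N] [IsScalarTower R S N] {f : M →ₗ[R] N}
    (hf : IsBaseChange S f) {x : M} (hx : f x = 0) : x ∈ RingHom.ker (algebraMap R S) • (⊤ : Submodule R M) := by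
  apply mem_of_one_tmul_eq_zero hS
  apply hf.equiv.injective
  rw [hf.equiv_tmul, hx, smul_zero, map_zero]

theorem surjective_of_isBaseChange (hS : Function.Surjective (algebraMap R S)) {M N : Type u} [AddCommGroup M]
    [Module R M] [AddCommGroup N] [Module R N] [Module S N] [IsScalarTower R S N] {f : M →ₗ[R] N}
    (hf : IsBaseChange S f) : Function.Surjective f := by
  intro n
  obtain ⟨z, rfl⟩ := hf.equiv.surjective n
  obtain ⟨m, rfl⟩ := one_tmul_surj hS z
  exact ⟨m, by rw [hf.equiv_tmul, one_smul]⟩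

end generalities

/-- the chosen de Rham differential -/
noncomputable def dR (k B : Type u) [CommRing k] [CommRing B] [Algebra k B] (p : ℕ) :
    ↥(⋀[B]^p (Ω[B⁄k])) →ₗ[k] ↥(⋀[B]^(p + 1) (Ω[B⁄k])) := (K852.DR.exists_isDiff k B).choose p

section dR

variable (k B : Type u) [CommRing k] [CommRing B] [Algebra k B]

theorem isDiff_dR : DeRham.IsDiff (KaehlerDifferential.D k B) (dR k B) := (K852.DR.exists_isDiff k B).choose_spec

theorem dR_gen (p : ℕ) (b₀ : B) (b : Fin p → B) :
    dR k B p (DeRham.gen (KaehlerDifferential.D k B) p b₀ b) =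
      K852.DR.wedge1 p (KaehlerDifferential.D k B b₀) (ιMulti B p fun i => KaehlerDifferential.D k B (b i)) :=
  K852.DR.d_gen (isDiff_dR k B).1 p b₀ b

theorem dR_dR (p : ℕ) (x : ↥(⋀[B]^p (Ω[B⁄k]))) : dR k B (p + 1) (dR k B p x) = 0 :=
  K852.DR.d_d (K852.DR.kaehler_span k B) (isDiff_dR k B).1 p x

theorem dR_unique {d : ∀ p : ℕ, ↥(⋀[B]^p (Ω[B⁄k])) →ₗ[k] ↥(⋀[B]^(p + 1) (Ω[B⁄k]))}
    (hd : DeRham.IsRule (KaehlerDifferential.D k B) d) (p : ℕ) (x : ↥(⋀[B]^p (Ω[B⁄k]))) : d p x = dR k B p x := by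
  have h : (d p).toAddMonoidHom = (dR k B p).toAddMonoidHom :=
    K852.DR.gen_ext (KaehlerDifferential.D k B) (K852.DR.kaehler_span k B) p _ _ fun b₀ b => by
      change d p _ = dR k B p _
      rw [K852.DR.d_gen hd, dR_gen]
  exact DFunLike.congr_fun h x

end dR

/-- squares of rings -/
structure Sq (R A R' A' : Type u) [CommRing R] [CommRing A] [CommRing R'] [CommRing A'] [Algebra R A]
    [Algebra R' A'] where
  /-- on the bases -/
  h : R →+* R'
  /-- on the algebras -/
  g : A →+* A'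
  comm : ∀ r, g (algebraMap R A r) = algebraMap R' A' (h r)

namespace Sq

variable {R A R' A' R'' A'' : Type u} [CommRing R] [CommRing A] [CommRing R'] [CommRing A'] [CommRing R'']
  [CommRing A''] [Algebra R A] [Algebra R' A'] [Algebra R'' A'']

theorem exists_semi (s : Sq R A R' A') :
    ∃ f : Ω[A⁄R] →ₛₗ[s.g] Ω[A'⁄R'], ∀ a, f (KaehlerDifferential.D R A a) = KaehlerDifferential.D R' A' (s.g a) := by
  let : Algebra A A' := s.g.toAlgebra
  let : Algebra R R' := s.h.toAlgebra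
  let : Algebra R A' := ((algebraMap R' A').comp s.h).toAlgebra
  have : IsScalarTower R R' A' := IsScalarTower.of_algebraMap_eq fun _ => rfl
  have : IsScalarTower R A A' := IsScalarTower.of_algebraMap_eq fun r => (s.comm r).symm
  exact ⟨K852.DR.omSemi R R' A A', fun a => K852.DR.omSemi_D R R' A A' a⟩

/-- the semilinear map on differentials -/
noncomputable def om (s : Sq R A R' A') : Ω[A⁄R] →ₛₗ[s.g] Ω[A'⁄R'] := s.exists_semi.choose

@[simp] theorem om_D (s : Sq R A R' A') (a : A) :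
    s.om (KaehlerDifferential.D R A a) = KaehlerDifferential.D R' A' (s.g a) := s.exists_semi.choose_spec a

/-- the map on forms -/
noncomputable def dm (s : Sq R A R' A') (p : ℕ) : ↥(⋀[A]^p (Ω[A⁄R])) →+ ↥(⋀[A']^p (Ω[A'⁄R'])) :=
  K852.DR.psi s.om p

variable (s : Sq R A R' A')

theorem isCxMap_dm : DeRham.IsCxMap (KaehlerDifferential.D R A) (KaehlerDifferential.D R' A') s.g s.dm :=
  K852.DR.isCxMap_psi _ s.om_D

theorem dm_gen (p : ℕ) (b₀ : A) (b : Fin p → A) :
    s.dm p (DeRham.gen (KaehlerDifferential.D R A) p b₀ b) =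
      DeRham.gen (KaehlerDifferential.D R' A') p (s.g b₀) (fun i => s.g (b i)) := s.isCxMap_dm p b₀ b

theorem dm_dR (p : ℕ) (x : ↥(⋀[A]^p (Ω[A⁄R]))) : s.dm (p + 1) (dR R A p x) = dR R' A' p (s.dm p x) :=
  K852.DR.isCxMap_comm (K852.DR.kaehler_span R A) (isDiff_dR R A).1 (isDiff_dR R' A').1 s.isCxMap_dm p x

theorem dm_smul (p : ℕ) (a : A) (x : ↥(⋀[A]^p (Ω[A⁄R]))) : s.dm p (a • x) = s.g a • s.dm p x :=
  K852.DR.isCxMap_smul (K852.DR.kaehler_span R A) s.isCxMap_dm p a x

theorem dm_smul_base (p : ℕ) (r : R) (x : ↥(⋀[A]^p (Ω[A⁄R]))) : s.dm p (r • x) = s.h r • s.dm p x := by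
  rw [← algebraMap_smul A r x, dm_smul, s.comm, algebraMap_smul]

theorem dm_comp (t : Sq R' A' R'' A'') (v : Sq R A R'' A'') (h : ∀ a, t.g (s.g a) = v.g a) (p : ℕ)
    (x : ↥(⋀[A]^p (Ω[A⁄R]))) : t.dm p (s.dm p x) = v.dm p x := by
  have h : ((t.dm p).comp (s.dm p)) = v.dm p :=
    K852.DR.gen_ext (KaehlerDifferential.D R A) (K852.DR.kaehler_span R A) p _ _ fun b₀ b => by
      rw [AddMonoidHom.comp_apply, s.dm_gen, t.dm_gen, v.dm_gen]
      simp only [h]
  exact DFunLike.congr_fun h x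

theorem dm_id (s : Sq R A R A) (h : ∀ a, s.g a = a) (p : ℕ) (x : ↥(⋀[A]^p (Ω[A⁄R]))) : s.dm p x = x := by
  have h : s.dm p = AddMonoidHom.id _ :=
    K852.DR.gen_ext (KaehlerDifferential.D R A) (K852.DR.kaehler_span R A) p _ _ fun b₀ b => by
      rw [s.dm_gen]
      simp only [h]
      rfl
  exact DFunLike.congr_fun h x

theorem dm_congr (t : Sq R A R' A') (h : ∀ a, s.g a = t.g a) (p : ℕ) (x : ↥(⋀[A]^p (Ω[A⁄R]))) :
    s.dm p x = t.dm p x := by
  have h : s.dm p = t.dm p :=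
    K852.DR.gen_ext (KaehlerDifferential.D R A) (K852.DR.kaehler_span R A) p _ _ fun b₀ b => by
      rw [s.dm_gen, t.dm_gen]
      simp only [h]
  exact DFunLike.congr_fun h x

theorem dm_wedge1 (p : ℕ) (a : A) (x : ↥(⋀[A]^p (Ω[A⁄R]))) :
    s.dm (p + 1) (K852.DR.wedge1 p (KaehlerDifferential.D R A a) x) =
      K852.DR.wedge1 p (KaehlerDifferential.D R' A' (s.g a)) (s.dm p x) :=
  K852.DR.isCxMap_wedge1 (K852.DR.kaehler_span R A) s.isCxMap_dm p a x

theorem dm_wedge1' (p : ℕ) (m : Ω[A⁄R]) (x : ↥(⋀[A]^p (Ω[A⁄R]))) :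
    s.dm (p + 1) (K852.DR.wedge1 p m x) = K852.DR.wedge1 p (s.om m) (s.dm p x) := by
  have hm : m ∈ Submodule.span A (Set.range (KaehlerDifferential.D R A)) := by
    rw [K852.DR.kaehler_span]; trivial
  induction hm using Submodule.span_induction with
  | mem m hm => obtain ⟨a, rfl⟩ := hm; rw [dm_wedge1, om_D]
  | zero => simp
  | add x y _ _ hx hy => rw [map_add, LinearMap.add_apply, map_add, hx, hy, map_add, map_add, LinearMap.add_apply]
  | smul a x _ hx =>
    rw [map_smul, LinearMap.smul_apply, dm_smul, hx, LinearMap.map_smulₛₗ, map_smul, LinearMap.smul_apply]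

theorem dm_surjective (hs : Function.Surjective s.g) (p : ℕ) : Function.Surjective (s.dm p) := by
  intro y
  refine K852.DR.gen_induction (KaehlerDifferential.D R' A') (K852.DR.kaehler_span R' A') p
    (P := fun y => ∃ x, s.dm p x = y) ?_ ⟨0, map_zero _⟩ ?_ ?_ y
  · intro b₀ b
    obtain ⟨c₀, rfl⟩ := hs b₀
    choose c hc using fun i => hs (b i)
    exact ⟨_, by rw [s.dm_gen p c₀ c]; simp only [hc]⟩
  · rintro _ _ ⟨x, rfl⟩ ⟨y, rfl⟩
    exact ⟨x + y, map_add _ _ _⟩
  · rintro _ ⟨x, rfl⟩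
    exact ⟨-x, map_neg _ _⟩

theorem dm_powS {B : Type u} [CommRing B] [Algebra R B] (φ : A →ₐ[R] B) (s : Sq R A R B) (h : ∀ a, s.g a = φ a)
    (p : ℕ) (x : ↥(⋀[A]^p (Ω[A⁄R]))) : s.dm p x = Groth.Agent.Lefpen.H721.OmegaPow.powS φ p x := by
  have h : s.dm p = (Groth.Agent.Lefpen.H721.OmegaPow.powS φ p).toAddMonoidHom :=
    K852.DR.gen_ext (KaehlerDifferential.D R A) (K852.DR.kaehler_span R A) p _ _ fun b₀ b => by
      rw [s.dm_gen]
      change _ = Groth.Agent.Lefpen.H721.OmegaPow.powS φ p (b₀ • _)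
      rw [LinearMap.map_smulₛₗ, Groth.Agent.Lefpen.H721.OmegaPow.powS_D]
      simp only [h]
      rfl
  exact DFunLike.congr_fun h x

section ker

variable (hh : Function.Surjective s.h) (hg : Function.Surjective s.g)
  (hk : ∀ a, s.g a = 0 → a ∈ (RingHom.ker s.h).map (algebraMap R A))

include hh hg hk

/-- The kernel of `dm`. -/
theorem dm_ker (p : ℕ) (x : ↥(⋀[A]^p (Ω[A⁄R]))) (hx : s.dm p x = 0) :
    x ∈ RingHom.ker s.g • (⊤ : Submodule A ↥(⋀[A]^p (Ω[A⁄R]))) := by
  let : Algebra A A' := s.g.toAlgebra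
  let : Algebra R R' := s.h.toAlgebra
  let : Algebra R A' := ((algebraMap R' A').comp s.h).toAlgebra
  have : IsScalarTower R R' A' := IsScalarTower.of_algebraMap_eq fun _ => rfl
  have : IsScalarTower R A A' := IsScalarTower.of_algebraMap_eq fun r => (s.comm r).symm
  have : SMulCommClass R' A A' := K852.DR.smulComm R' A A'
  have hR : Function.Surjective (algebraMap R R') := hh
  have hA : Function.Surjective (algebraMap A A') := hg
  have : Algebra.IsPushout R R' A A' := by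
    refine ⟨isBaseChange_of_surj hR _ hg fun x hx => ?_⟩
    have h1 := hk x hx
    rw [Ideal.smul_top_eq_map]
    exact h1
  have hbc := K852.DR.isBaseChange_map_kaehler R R' A A'
  let f' : Ω[A⁄R] →ₗ[A] Ω[A'⁄R'] := KaehlerDifferential.map R R' A A'
  have hf' : ∀ y, Groth.Agent.Krr.H495.ExtSemi.extS p (Groth.Agent.Dual.H366.ExtLoc.semi (B := A') f') y = s.dm p y := by
    intro y
    have h1 : DeRham.IsCxMap (KaehlerDifferential.D R A) (KaehlerDifferential.D R' A') s.g
        (fun p => (Groth.Agent.Krr.H495.ExtSemi.extS p (Groth.Agent.Dual.H366.ExtLoc.semi (B := A') f')).toAddMonoidHom) :=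
      K852.DR.isCxMap_psi (g := s.g) (Groth.Agent.Dual.H366.ExtLoc.semi (B := A') f') fun a =>
        KaehlerDifferential.map_D R R' A A' a
    exact DFunLike.congr_fun (K852.DR.isCxMap_unique (K852.DR.kaehler_span R A) h1 s.isCxMap_dm p) y
  let β : A' →+ ↥(⋀[A]^p (Ω[A⁄R])) →+ ↥(⋀[A']^p (Ω[A'⁄R'])) :=
    AddMonoidHom.mk' (fun b => (DistribSMul.toAddMonoidHom _ b).comp (s.dm p)) fun b c => by
      refine AddMonoidHom.ext fun x => ?_
      change (b + c) • s.dm p x = b • s.dm p x + c • s.dm p x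
      rw [add_smul]
  let Φ : A' ⊗[A] ↥(⋀[A]^p (Ω[A⁄R])) →+ ↥(⋀[A']^p (Ω[A'⁄R'])) := TensorProduct.liftAddHom β fun a b x => by
    change (s.g a * b) • s.dm p x = b • s.dm p (a • x)
    rw [s.dm_smul, smul_smul, mul_comm]
  have hΦ : ∀ b x, Φ (b ⊗ₜ[A] x) = b • s.dm p x := fun b x => rfl
  have hb := K852.DR.bijective_lift_extS hbc p Φ fun b x => by rw [hΦ, ← hf']
  refine mem_of_one_tmul_eq_zero hA (hb.1 ?_)
  rw [map_zero, hΦ, hx, smul_zero]

end ker

end Sq

end K694
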