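import Groth.Agent.DeRham.K852.Basic
import Groth.Agent.Deform.K694.DM

/-!
# Contraction with a generator of the top exterior power

`M` free with a basis indexed by `Fin (n + 1)`, `η ∈ ⋀^(n+1) M` a generator (`b ↦ b • η` bijective).  The map
`theta η : M^∨ → ⋀^n M`, `φ ↦ i_φ η` is bijective.
-/

set_option autoImplicit false

universe u

open exteriorPower K852.DR

namespace K694.Contr

variable {B M : Type u} [CommRing B] [AddCommGroup M] [Module B M]

theorem contr_add (φ ψ : Module.Dual B M) (p : ℕ) (x : ↥(⋀[B]^(p + 1) M)) :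
    contr (φ + ψ) p x = contr φ p x + contr ψ p x := by
  apply Subtype.ext
  rw [Submodule.coe_add, contr_coe, contr_coe, contr_coe, map_add, LinearMap.add_apply]

theorem contr_smul (b : B) (φ : Module.Dual B M) (p : ℕ) (x : ↥(⋀[B]^(p + 1) M)) :
    contr (b • φ) p x = b • contr φ p x := by
  apply Subtype.ext
  rw [Submodule.coe_smul, contr_coe, contr_coe, map_smul, LinearMap.smul_apply]

/-- `φ ↦ i_φ η` -/
noncomputable def theta {n : ℕ} (η : ↥(⋀[B]^(n + 1) M)) : Module.Dual B M →ₗ[B] ↥(⋀[B]^n M) where
  toFun φ := contr φ n η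
  map_add' φ ψ := contr_add φ ψ n η
  map_smul' b φ := contr_smul b φ n η

theorem theta_apply {n : ℕ} (η : ↥(⋀[B]^(n + 1) M)) (φ : Module.Dual B M) : theta η φ = contr φ n η := rfl

theorem subsingleton_pow {r : ℕ} (e : Module.Basis (Fin r) B M) {p : ℕ} (h : r < p) : Subsingleton ↥(⋀[B]^p M) := by
  have hE : IsEmpty (Set.powersetCard (Fin r) p) := by
    refine ⟨fun s => ?_⟩
    have h1 : (s.1 : Finset (Fin r)).card = p := s.2
    have h2 := Finset.card_le_univ (s.1 : Finset (Fin r))
    rw [Fintype.card_fin] at h2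
    omega
  exact (e.exteriorPower p).repr.toEquiv.subsingleton

/-- Euler's identity. -/
theorem euler {r : ℕ} (e : Module.Basis (Fin r) B M) (p : ℕ) (y : ↥(⋀[B]^(p + 1) M)) :
    ∑ j, wedge1 p (e j) (contr (e.coord j) p y) = (p + 1) • y := by
  have hsum : ∀ m : M, ∑ j, e.coord j m • e j = m := fun m => e.sum_repr m
  induction p with
  | zero =>
    refine wedge1_induction 0 (P := fun y => ∑ j, wedge1 0 (e j) (contr (e.coord j) 0 y) = (0 + 1) • y)
      ?_ (by simp) ?_ y
    · intro m x
      simp only [contr_wedge1_zero, map_smul]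
      refine Eq.trans ?_ (one_smul ℕ _).symm
      conv_rhs => rw [← hsum m]
      rw [map_sum, LinearMap.sum_apply]
      exact Finset.sum_congr rfl fun j _ => by rw [map_smul, LinearMap.smul_apply]
    · intro x y hx hy
      simp only [map_add, Finset.sum_add_distrib, smul_add, hx, hy]
  | succ p ih =>
    refine wedge1_induction (p + 1) (P := fun y => ∑ j, wedge1 (p + 1) (e j) (contr (e.coord j) (p + 1) y) =
      (p + 1 + 1) • y) ?_ (by simp) ?_ y
    · intro m x
      simp only [contr_wedge1, map_sub, map_smul, Finset.sum_sub_distrib]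
      have h1 : ∑ j, e.coord j m • wedge1 (p + 1) (e j) x = wedge1 (p + 1) m x := by
        conv_rhs => rw [← hsum m]
        rw [map_sum, LinearMap.sum_apply]
        exact Finset.sum_congr rfl fun j _ => by rw [map_smul, LinearMap.smul_apply]
      have h2 : ∑ j, wedge1 (p + 1) (e j) (wedge1 p m (contr (e.coord j) p x)) = - ((p + 1) • wedge1 (p + 1) m x) := by
        rw [← map_nsmul, ← ih x, map_sum, ← Finset.sum_neg_distrib]
        exact Finset.sum_congr rfl fun j _ => wedge1_swap p (e j) m _
      rw [h1, h2, sub_neg_eq_add, add_smul (p + 1) 1, one_smul]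
      exact add_comm _ _
    · intro x y hx hy
      simp only [map_add, Finset.sum_add_distrib, smul_add, hx, hy]

/-- Nondegeneracy. -/
theorem eq_zero_of_wedge {n : ℕ} (e : Module.Basis (Fin (n + 1)) B M) (y : ↥(⋀[B]^n M))
    (h : ∀ m, wedge1 n m y = 0) : y = 0 := by
  cases n with
  | zero =>
    have h1 := contr_wedge1_zero (e.coord 0) (e 0) y
    rw [h, map_zero, Module.Basis.coord_apply, e.repr_self, Finsupp.single_eq_same, one_smul] at h1
    exact h1.symm
  | succ n =>
    have h1 : ∀ j, wedge1 n (e j) (contr (e.coord j) n y) = y := by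
      intro j
      have h2 := contr_wedge1 (e.coord j) n (e j) y
      rw [h, map_zero, Module.Basis.coord_apply, e.repr_self, Finsupp.single_eq_same, one_smul] at h2
      exact (sub_eq_zero.1 h2.symm).symm
    have h3 := euler e n y
    simp only [h1, Finset.sum_const, Finset.card_univ, Fintype.card_fin] at h3
    rw [add_smul (n + 1) 1 y, one_smul] at h3
    exact add_eq_left.1 h3

variable {n : ℕ} (e : Module.Basis (Fin (n + 1)) B M) {η : ↥(⋀[B]^(n + 1) M)}
  (hη : Function.Bijective fun b : B => b • η)

include e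

theorem wedge_theta (φ : Module.Dual B M) (m : M) : wedge1 n m (theta η φ) = φ m • η := by
  have := subsingleton_pow e (p := n + 1 + 1) (Nat.lt_succ_self _)
  have h1 := contr_wedge1 φ n m η
  rw [Subsingleton.elim (wedge1 (n + 1) m η) 0, map_zero] at h1
  exact (sub_eq_zero.1 h1.symm).symm

include hη

/-- **Contraction with a generator is bijective.** -/
theorem bijective_theta : Function.Bijective (theta η) := by
  constructor
  · rw [injective_iff_map_eq_zero]
    intro φ hφ
    ext m
    have h1 := wedge_theta e (η := η) φ m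
    rw [hφ, map_zero] at h1
    exact hη.1 (by
      change φ m • η = (0 : B) • η
      rw [← h1, zero_smul])
  · intro x
    choose f hf using fun m : M => hη.2 (wedge1 n m x)
    have hf : ∀ m, f m • η = wedge1 n m x := hf
    let φ : Module.Dual B M :=
      { toFun := f
        map_add' := fun m m' => hη.1 (by
          change f (m + m') • η = (f m + f m') • η
          rw [hf, add_smul, hf, hf, map_add, LinearMap.add_apply])
        map_smul' := fun b m => hη.1 (by
          change f (b • m) • η = (b • f m) • η
          rw [hf, smul_assoc, hf, map_smul, LinearMap.smul_apply]) }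
    refine ⟨φ, ?_⟩
    rw [← sub_eq_zero]
    refine eq_zero_of_wedge e _ fun m => ?_
    rw [map_sub, wedge_theta e]
    change f m • η - _ = 0
    rw [hf, sub_self]

end K694.Contr

namespace K694.Sq

variable {R A R' A' : Type u} [CommRing R] [CommRing A] [CommRing R'] [CommRing A'] [Algebra R A] [Algebra R' A']
  (s : Sq R A R' A')

/-- Compatibility of contractions. -/
theorem dm_contr (φ : Module.Dual A (Ω[A⁄R])) (φ' : Module.Dual A' (Ω[A'⁄R'])) (h : ∀ m, φ' (s.om m) = s.g (φ m))
    (p : ℕ) (x : ↥(⋀[A]^(p + 1) (Ω[A⁄R]))) : s.dm p (contr φ p x) = contr φ' p (s.dm (p + 1) x) := by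
  induction p with
  | zero =>
    refine wedge1_induction 0 (P := fun x => s.dm 0 (contr φ 0 x) = contr φ' 0 (s.dm (0 + 1) x)) ?_ (by simp) ?_ x
    · intro m x
      rw [contr_wedge1_zero, s.dm_wedge1', contr_wedge1_zero, h, s.dm_smul]
    · intro x y hx hy
      rw [map_add, map_add, hx, hy, map_add, map_add]
  | succ p ih =>
    refine wedge1_induction (p + 1) (P := fun x => s.dm (p + 1) (contr φ (p + 1) x) =
      contr φ' (p + 1) (s.dm (p + 1 + 1) x)) ?_ (by simp) ?_ x
    · intro m x
      rw [contr_wedge1, s.dm_wedge1', contr_wedge1, h, map_sub, s.dm_smul, s.dm_wedge1', ih]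
    · intro x y hx hy
      rw [map_add, map_add, hx, hy, map_add, map_add]

/-- extension of a derivation is a compatibility of linear forms -/
theorem om_compat (φ : Module.Dual A (Ω[A⁄R])) (φ' : Module.Dual A' (Ω[A'⁄R']))
    (h : ∀ a, φ' (KaehlerDifferential.D R' A' (s.g a)) = s.g (φ (KaehlerDifferential.D R A a))) (m : Ω[A⁄R]) :
    φ' (s.om m) = s.g (φ m) := by
  have hm : m ∈ Submodule.span A (Set.range (KaehlerDifferential.D R A)) := by
    rw [kaehler_span]; trivial
  induction hm using Submodule.span_induction with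
  | mem m hm => obtain ⟨a, rfl⟩ := hm; rw [om_D, h]
  | zero => simp
  | add x y _ _ hx hy => rw [map_add, map_add, hx, hy, map_add, map_add]
  | smul a x _ hx =>
    rw [LinearMap.map_smulₛₗ, map_smul, hx, map_smul, smul_eq_mul, smul_eq_mul, map_mul]

end K694.Sq
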