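import Mathlib.RingTheory.Length
import Mathlib.RingTheory.Artinian.Ring
import Mathlib.RingTheory.LocalRing.Module
import Mathlib.RingTheory.Nakayama
import Mathlib.RingTheory.Flat.Basic
import Mathlib.LinearAlgebra.TensorProduct.Quotient
import Mathlib.Order.Cover

/-!
# Elementary cochain complexes of modules, their cohomology and its length
-/

set_option autoImplicit false

universe u v

namespace K694

/-- A cochain complex of modules, indexed by the natural numbers. -/
structure Cx (R : Type u) [CommRing R] where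
  /-- the modules -/
  X : ℕ → Type v
  [ag : ∀ n, AddCommGroup (X n)]
  [md : ∀ n, Module R (X n)]
  /-- the differential -/
  d : ∀ n, X n →ₗ[R] X (n + 1)
  dd : ∀ n x, d (n + 1) (d n x) = 0

namespace Cx

attribute [instance] Cx.ag Cx.md

variable {R : Type u} [CommRing R]

section basic

variable (C : Cx.{u, v} R)

/-- cocycles -/
def Z (n : ℕ) : Submodule R (C.X n) := LinearMap.ker (C.d n)

/-- coboundaries -/
def B : ∀ n, Submodule R (C.X n)
  | 0 => ⊥
  | n + 1 => LinearMap.range (C.d n)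

theorem B_le_Z (n : ℕ) : C.B n ≤ C.Z n := by
  cases n with
  | zero => exact bot_le
  | succ n => rintro _ ⟨x, rfl⟩; exact C.dd n x

theorem mem_Z {n : ℕ} {x : C.X n} : x ∈ C.Z n ↔ C.d n x = 0 := LinearMap.mem_ker

/-- cohomology -/
abbrev H (n : ℕ) : Type v := C.Z n ⧸ (C.B n).submoduleOf (C.Z n)

variable {C}

/-- the class of a cocycle -/
def cl {n : ℕ} (x : C.X n) (hx : C.d n x = 0) : C.H n := Submodule.Quotient.mk ⟨x, hx⟩

theorem cl_surj {n : ℕ} (h : C.H n) : ∃ x hx, cl (C := C) x hx = h := by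
  obtain ⟨⟨x, hx⟩, rfl⟩ := Submodule.Quotient.mk_surjective _ h
  exact ⟨x, hx, rfl⟩

theorem cl_eq_zero {n : ℕ} {x : C.X n} (hx : C.d n x = 0) : cl x hx = 0 ↔ x ∈ C.B n := by
  rw [cl, Submodule.Quotient.mk_eq_zero]
  rfl

theorem cl_eq {n : ℕ} {x y : C.X n} (hx : C.d n x = 0) (hy : C.d n y = 0) :
    cl x hx = cl y hy ↔ x - y ∈ C.B n := by
  rw [cl, cl, Submodule.Quotient.eq]
  rfl

theorem cl_add {n : ℕ} {x y : C.X n} (hx : C.d n x = 0) (hy : C.d n y = 0) (hxy : C.d n (x + y) = 0) :
    cl (x + y) hxy = cl x hx + cl y hy := rfl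

end basic

/-- morphisms of complexes -/
@[ext] structure Hom (C C' : Cx.{u, v} R) where
  /-- components -/
  app : ∀ n, C.X n →ₗ[R] C'.X n
  comm : ∀ n x, app (n + 1) (C.d n x) = C'.d n (app n x)

namespace Hom

variable {C C' C'' : Cx.{u, v} R} (f : Hom C C') (g : Hom C' C'')

theorem map_Z {n : ℕ} {x : C.X n} (hx : C.d n x = 0) : C'.d n (f.app n x) = 0 := by
  rw [← f.comm, hx, map_zero]

theorem map_B {n : ℕ} {x : C.X n} (hx : x ∈ C.B n) : f.app n x ∈ C'.B n := by
  cases n with
  | zero =>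
    rw [show x = 0 from hx, map_zero]
    exact zero_mem _
  | succ n =>
    obtain ⟨y, rfl⟩ := hx
    exact ⟨f.app n y, (f.comm n y).symm⟩

/-- the composite -/
def comp : Hom C C'' where
  app n := g.app n ∘ₗ f.app n
  comm n x := by simp [f.comm, g.comm]

/-- the map on cocycles -/
def zmap (n : ℕ) : C.Z n →ₗ[R] C'.Z n :=
  (f.app n ∘ₗ (C.Z n).subtype).codRestrict (C'.Z n) fun x => f.map_Z x.2

/-- the map on cohomology -/
def H (n : ℕ) : C.H n →ₗ[R] C'.H n :=
  Submodule.mapQ _ _ (f.zmap n) fun x hx => f.map_B (x := x.1) hx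

@[simp] theorem H_cl {n : ℕ} (x : C.X n) (hx : C.d n x = 0) : f.H n (cl x hx) = cl (f.app n x) (f.map_Z hx) := rfl

theorem H_comp {n : ℕ} (h : C.H n) : (f.comp g).H n h = g.H n (f.H n h) := by
  obtain ⟨x, hx, rfl⟩ := cl_surj h
  rfl

theorem surjective_H {n : ℕ} (h : ∀ y, C'.d n y = 0 → ∃ x, C.d n x = 0 ∧ f.app n x - y ∈ C'.B n) :
    Function.Surjective (f.H n) := by
  intro y
  obtain ⟨y, hy, rfl⟩ := cl_surj y
  obtain ⟨x, hx, hxy⟩ := h y hy
  exact ⟨cl x hx, (cl_eq _ _).2 hxy⟩

theorem exists_of_surjective_H {n : ℕ} (h : Function.Surjective (f.H n)) (y : C'.X n) (hy : C'.d n y = 0) :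
    ∃ x, C.d n x = 0 ∧ f.app n x - y ∈ C'.B n := by
  obtain ⟨x, hxy⟩ := h (cl y hy)
  obtain ⟨x, hx, rfl⟩ := cl_surj x
  exact ⟨x, hx, (cl_eq _ _).1 hxy⟩

end Hom

/-- short exact sequences of complexes -/
structure IsSES {C' C C'' : Cx.{u, v} R} (f : Hom C' C) (g : Hom C C'') : Prop where
  inj : ∀ n, Function.Injective (f.app n)
  exact : ∀ n, Function.Exact (f.app n) (g.app n)
  surj : ∀ n, Function.Surjective (g.app n)

namespace IsSES

variable {C' C C'' : Cx.{u, v} R} {f : Hom C' C} {g : Hom C C''} (h : IsSES f g)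

include h

theorem exact_H (n : ℕ) : Function.Exact (f.H n) (g.H n) := by
  intro y
  obtain ⟨y, hy, rfl⟩ := cl_surj y
  constructor
  · intro h0
    rw [Hom.H_cl, cl_eq_zero] at h0
    -- correct `y` by a coboundary
    obtain ⟨z, hz, hz0⟩ : ∃ z ∈ C.B n, g.app n (y - z) = 0 := by
      cases n with
      | zero => exact ⟨0, zero_mem _, by rw [sub_zero]; exact h0⟩
      | succ n =>
        obtain ⟨w, hw⟩ := h0
        obtain ⟨v, rfl⟩ := h.surj n w
        exact ⟨C.d n v, ⟨v, rfl⟩, by rw [map_sub, g.comm, hw, sub_self]⟩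
    obtain ⟨x, hx⟩ := (h.exact n _).1 hz0
    have hx0 : C'.d n x = 0 := by
      apply h.inj (n + 1)
      rw [f.comm, hx, map_sub, hy, C.B_le_Z n hz, sub_zero, map_zero]
    refine ⟨cl x hx0, ?_⟩
    rw [Hom.H_cl, cl_eq, hx, sub_sub_cancel_left]
    exact neg_mem hz
  · rintro ⟨x, hx⟩
    obtain ⟨x, hx', rfl⟩ := cl_surj x
    rw [← hx, Hom.H_cl, Hom.H_cl, cl_eq_zero]
    rw [(h.exact n).apply_apply_eq_zero]
    exact zero_mem _

theorem injective_H_zero : Function.Injective (f.H 0) := by
  rw [injective_iff_map_eq_zero]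
  intro x hx
  obtain ⟨x, hx', rfl⟩ := cl_surj x
  rw [Hom.H_cl, cl_eq_zero] at hx
  rw [cl_eq_zero]
  have h1 : f.app 0 x = 0 := hx
  have h2 : x = 0 := h.inj 0 (by rw [h1, map_zero])
  rw [h2]
  exact zero_mem _

theorem injective_H_succ {n : ℕ} (hs : Function.Surjective (g.H n)) : Function.Injective (f.H (n + 1)) := by
  rw [injective_iff_map_eq_zero]
  intro x hx
  obtain ⟨x, hx', rfl⟩ := cl_surj x
  rw [Hom.H_cl, cl_eq_zero] at hx
  rw [cl_eq_zero]
  obtain ⟨y, hy⟩ := hx
  have h1 : C''.d n (g.app n y) = 0 := by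
    rw [← g.comm, hy, (h.exact (n + 1)).apply_apply_eq_zero]
  obtain ⟨z, hz, hzy⟩ := g.exists_of_surjective_H hs _ h1
  -- modify `z` by a coboundary so that `g z = g y`
  obtain ⟨w, hw, hwz⟩ : ∃ w ∈ C.B n, g.app n (z - w) = g.app n y := by
    cases n with
    | zero =>
      refine ⟨0, zero_mem _, ?_⟩
      have h2 : g.app 0 z - g.app 0 y = 0 := hzy
      rw [sub_zero, ← sub_eq_zero, h2]
    | succ n =>
      obtain ⟨w, hw⟩ := hzy
      obtain ⟨v, rfl⟩ := h.surj n w
      refine ⟨C.d n v, ⟨v, rfl⟩, ?_⟩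
      rw [map_sub, g.comm, hw]
      abel
  have h3 : g.app n (y - (z - w)) = 0 := by rw [map_sub, hwz, sub_self]
  obtain ⟨u, hu⟩ := (h.exact n _).1 h3
  refine ⟨u, ?_⟩
  apply h.inj (n + 1)
  rw [f.comm, hu, map_sub, map_sub, hz, C.B_le_Z n hw, hy, sub_zero, sub_zero]

end IsSES

section len

variable {M M' M'' : Type v} [AddCommGroup M] [Module R M] [AddCommGroup M'] [Module R M'] [AddCommGroup M'']
  [Module R M'']

/-- half exactness and lengths -/
theorem length_le_of_exact (f : M' →ₗ[R] M) (g : M →ₗ[R] M'') (h : Function.Exact f g) :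
    Module.length R M ≤ Module.length R M' + Module.length R (LinearMap.range g) := by
  rw [Module.length_eq_add_of_exact (LinearMap.ker g).subtype g.rangeRestrict (Submodule.subtype_injective _)
    g.surjective_rangeRestrict (by
      rw [LinearMap.exact_iff, LinearMap.ker_rangeRestrict, Submodule.range_subtype])]
  gcongr
  have h1 : LinearMap.ker g = LinearMap.range f := LinearMap.exact_iff.1 h
  rw [h1]
  exact Module.length_le_of_surjective f.rangeRestrict f.surjective_rangeRestrict

theorem length_le_of_exact' (f : M' →ₗ[R] M) (g : M →ₗ[R] M'') (h : Function.Exact f g) :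
    Module.length R M ≤ Module.length R M' + Module.length R M'' := by
  refine (length_le_of_exact f g h).trans ?_
  gcongr
  exact Module.length_le_of_injective _ (Submodule.subtype_injective _)

/-- a submodule of full finite length is everything -/
theorem eq_top_of_length_le (N : Submodule R M) (h : Module.length R M ≤ Module.length R N)
    (hfin : Module.length R M ≠ ⊤) : N = ⊤ := by
  have h1 := Module.length_eq_add_of_exact N.subtype N.mkQ (Submodule.subtype_injective _)
    (Submodule.mkQ_surjective _) (LinearMap.exact_subtype_mkQ _)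
  have h2 : Module.length R (M ⧸ N) = 0 := by
    have h3 : Module.length R N ≠ ⊤ := by
      intro h4
      rw [h1, h4, top_add] at hfin
      exact hfin rfl
    rw [h1] at h
    by_contra h5
    have : Module.length R N < Module.length R (M ⧸ N) + Module.length R N :=
      ENat.lt_add_left h3 (pos_iff_ne_zero.2 h5)
    exact absurd h (not_le.2 (by rwa [add_comm] at this))
  rw [Module.length_eq_zero_iff] at h2
  exact Submodule.Quotient.subsingleton_iff.1 h2

end len

end Cx

end K694
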