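import Groth.Agent.Deform.K694.Cx
import Mathlib.RingTheory.HopkinsLevitzki

/-!
# Complexes of flat modules over an Artinian local ring

`F` a complex of flat `A`-modules, `A` Artinian local with maximal ideal `m`.
* `length_quo_le`: `length H^n(F/J) ≤ length (A/J) * length H^n(F/m)`;
* `length_quo_eq`: equality if all `H^n(F) → H^n(F/m)` are surjective;
* `surjective_of_length_eq`: if `length H^n(F) = length A * length H^n(F/m)` (finite), then `H^n(F) → H^n(F/J)` is
  surjective for all `J`.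
-/

set_option autoImplicit false

universe u v

open TensorProduct

namespace K694.Cx

variable {A : Type u} [CommRing A]

theorem smul_top_le (J : Ideal A) {M N : Type v} [AddCommGroup M] [Module A M] [AddCommGroup N] [Module A N]
    (f : M →ₗ[A] N) : J • (⊤ : Submodule A M) ≤ (J • (⊤ : Submodule A N)).comap f :=
  Submodule.smul_top_le_comap_smul_top J f

/-- flatness and colon ideals -/
theorem mem_of_flat {M : Type v} [AddCommGroup M] [Module A M] [Module.Flat A M] (J K : Ideal A) (ε : A)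
    (h1 : ∀ a ∈ K, a * ε ∈ J) (h2 : ∀ a, a * ε ∈ J → a ∈ K) (x : M) (hx : ε • x ∈ J • (⊤ : Submodule A M)) :
    x ∈ K • (⊤ : Submodule A M) := by
  let φ : (A ⧸ K) →ₗ[A] (A ⧸ J) := Submodule.mapQ K J (LinearMap.mulRight A ε) fun a ha => by
    rw [Submodule.mem_comap]
    exact h1 a ha
  have hφ : Function.Injective φ := by
    rw [injective_iff_map_eq_zero]
    intro a ha
    obtain ⟨a, rfl⟩ := Submodule.Quotient.mk_surjective _ a
    have h3 : (Submodule.Quotient.mk (a * ε) : A ⧸ J) = 0 := ha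
    rw [Submodule.Quotient.mk_eq_zero] at h3 ⊢
    exact h2 a h3
  have h4 := Module.Flat.lTensor_preserves_injective_linearMap (M := M) φ hφ
  have h5 : x ⊗ₜ[A] (Submodule.Quotient.mk (1 : A) : A ⧸ K) = 0 := by
    apply h4
    rw [map_zero, LinearMap.lTensor_tmul]
    have h6 : φ (Submodule.Quotient.mk 1) = ε • (Submodule.Quotient.mk (1 : A) : A ⧸ J) := by
      change (Submodule.Quotient.mk (1 * ε) : A ⧸ J) = _
      rw [← Submodule.Quotient.mk_smul, smul_eq_mul, mul_one, one_mul]
    rw [h6, TensorProduct.tmul_smul, TensorProduct.smul_tmul']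
    have h7 : (TensorProduct.tensorQuotEquivQuotSMul M J) ((ε • x) ⊗ₜ[A] (Submodule.Quotient.mk (1 : A) : A ⧸ J)) = 0 := by
      rw [TensorProduct.tensorQuotEquivQuotSMul, LinearEquiv.trans_apply, TensorProduct.comm_tmul]
      exact (TensorProduct.quotTensorEquivQuotSMul_mk_one_tmul J (ε • x)).trans
        ((Submodule.Quotient.mk_eq_zero _).2 hx)
    exact (LinearEquiv.map_eq_zero_iff _).1 h7
  have h8 := congrArg (TensorProduct.tensorQuotEquivQuotSMul M K) h5
  rw [map_zero, TensorProduct.tensorQuotEquivQuotSMul, LinearEquiv.trans_apply, TensorProduct.comm_tmul] at h8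
  exact (Submodule.Quotient.mk_eq_zero _).1 ((TensorProduct.quotTensorEquivQuotSMul_mk_one_tmul K x).symm.trans h8)

section quo

variable (F : Cx.{u, v} A)

/-- the quotient complex `F/JF` -/
def quo (J : Ideal A) : Cx.{u, v} A where
  X n := F.X n ⧸ (J • (⊤ : Submodule A (F.X n)))
  d n := Submodule.mapQ _ _ (F.d n) (smul_top_le J (F.d n))
  dd n x := by
    obtain ⟨x, rfl⟩ := Submodule.Quotient.mk_surjective _ x
    change (Submodule.Quotient.mk (F.d (n + 1) (F.d n x)) : _ ⧸ _) = 0
    rw [F.dd]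
    rfl

/-- the projection -/
def toQuo (J : Ideal A) : Hom F (F.quo J) where
  app _ := Submodule.mkQ _
  comm _ _ := rfl

/-- the transition maps -/
def fac {J K : Ideal A} (h : J ≤ K) : Hom (F.quo J) (F.quo K) where
  app n := Submodule.mapQ _ _ LinearMap.id (Submodule.smul_mono_left h)
  comm n x := by
    obtain ⟨x, rfl⟩ := Submodule.Quotient.mk_surjective _ x
    rfl

/-- multiplication by an element -/
def mul {J K : Ideal A} (ε : A) (h : ∀ a ∈ K, a * ε ∈ J) : Hom (F.quo K) (F.quo J) where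
  app n := Submodule.mapQ _ _ (LinearMap.lsmul A (F.X n) ε) (by
    rw [Submodule.smul_le]
    intro a ha x _
    rw [Submodule.mem_comap, LinearMap.lsmul_apply, smul_smul, mul_comm]
    exact Submodule.smul_mem_smul (h a ha) trivial)
  comm n x := by
    obtain ⟨x, rfl⟩ := Submodule.Quotient.mk_surjective _ x
    change (Submodule.Quotient.mk (ε • F.d n x) : _ ⧸ _) = Submodule.Quotient.mk (F.d n (ε • x))
    rw [map_smul]

theorem fac_toQuo {J K : Ideal A} (h : J ≤ K) (n : ℕ) (c : F.H n) :
    (F.fac h).H n ((F.toQuo J).H n c) = (F.toQuo K).H n c := by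
  obtain ⟨x, hx, rfl⟩ := cl_surj c
  rfl

theorem surjective_fac {J K : Ideal A} (h : J ≤ K) (n : ℕ) : Function.Surjective ((F.fac h).app n) := by
  intro x
  obtain ⟨x, rfl⟩ := Submodule.Quotient.mk_surjective _ x
  exact ⟨Submodule.Quotient.mk x, rfl⟩

theorem isSES (hF : ∀ n, Module.Flat A (F.X n)) {J K : Ideal A} (ε : A)
    (h1 : ∀ a ∈ K, a * ε ∈ J) (h2 : ∀ a, a * ε ∈ J → a ∈ K) :
    IsSES (F.mul ε h1) (F.fac (le_sup_left : J ≤ J ⊔ Ideal.span {ε})) where
  inj n := by
    have := hF n
    rw [injective_iff_map_eq_zero]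
    intro x hx
    obtain ⟨x, rfl⟩ := Submodule.Quotient.mk_surjective _ x
    have h3 : (Submodule.Quotient.mk (ε • x) : F.X n ⧸ (J • (⊤ : Submodule A (F.X n)))) = 0 := hx
    exact (Submodule.Quotient.mk_eq_zero _).2
      (mem_of_flat J K ε h1 h2 x ((Submodule.Quotient.mk_eq_zero _).1 h3))
  exact n := by
    intro y
    obtain ⟨y, rfl⟩ := Submodule.Quotient.mk_surjective _ y
    constructor
    · intro h
      have h3 : y ∈ (J ⊔ Ideal.span {ε}) • (⊤ : Submodule A (F.X n)) := (Submodule.Quotient.mk_eq_zero _).1 h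
      rw [Submodule.sup_smul, Submodule.mem_sup] at h3
      obtain ⟨a, ha, b, hb, rfl⟩ := h3
      rw [Submodule.ideal_span_singleton_smul] at hb
      obtain ⟨x, -, rfl⟩ := hb
      refine ⟨Submodule.Quotient.mk x, ?_⟩
      change (Submodule.Quotient.mk (ε • x) : F.X n ⧸ (J • (⊤ : Submodule A (F.X n)))) =
        Submodule.Quotient.mk (a + ε • x)
      rw [Submodule.Quotient.eq, sub_add_cancel_right]
      exact neg_mem ha
    · rintro ⟨x, hx⟩
      obtain ⟨x, rfl⟩ := Submodule.Quotient.mk_surjective _ x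
      rw [← hx]
      refine (Submodule.Quotient.mk_eq_zero _).2 ?_
      exact Submodule.smul_mem_smul (Ideal.mem_sup_right (Ideal.mem_span_singleton_self ε)) trivial
  surj n := F.surjective_fac _ n

theorem subsingleton_quo_top (n : ℕ) : Subsingleton ((F.quo ⊤).H n) := by
  refine ⟨fun a b => ?_⟩
  have h0 : ∀ a : (F.quo ⊤).H n, a = 0 := by
    intro a
    obtain ⟨x, hx, rfl⟩ := cl_surj a
    rw [cl_eq_zero]
    obtain ⟨x, rfl⟩ := Submodule.Quotient.mk_surjective _ x
    have : (Submodule.Quotient.mk x : F.X n ⧸ ((⊤ : Ideal A) • (⊤ : Submodule A (F.X n)))) = 0 :=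
      (Submodule.Quotient.mk_eq_zero _).2 (by rw [Submodule.top_smul]; trivial)
    rw [show (Submodule.Quotient.mk x : (F.quo ⊤).X n) = 0 from this]
    exact zero_mem _
  rw [h0 a, h0 b]

end quo

section artin

variable [IsArtinianRing A] [IsLocalRing A]

open IsLocalRing

/-- a socle element of `A/J` -/
theorem exists_socle (J : Ideal A) (hJ : J ≠ ⊤) :
    ∃ ε, ε ∉ J ∧ (∀ a ∈ maximalIdeal A, a * ε ∈ J) ∧ ∀ a, a * ε ∈ J → a ∈ maximalIdeal A := by
  obtain ⟨N, hN⟩ := IsArtinianRing.isNilpotent_jacobson_bot (R := A)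
  rw [IsLocalRing.jacobson_eq_maximalIdeal ⊥ bot_ne_top] at hN
  have h1 : ∃ N, maximalIdeal A ^ N ≤ J := ⟨N, by rw [hN]; exact bot_le⟩
  classical
  obtain ⟨s, hs⟩ : ∃ s, Nat.find h1 = s + 1 := by
    refine Nat.exists_eq_succ_of_ne_zero fun h0 => hJ ?_
    have := Nat.find_spec h1
    rw [h0, pow_zero, Ideal.one_eq_top] at this
    exact top_le_iff.1 this
  have h2 : ¬ maximalIdeal A ^ s ≤ J := Nat.find_min h1 (by omega)
  have h3 : maximalIdeal A ^ (s + 1) ≤ J := hs ▸ Nat.find_spec h1
  obtain ⟨ε, hε, hεJ⟩ := SetLike.not_le_iff_exists.1 h2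
  refine ⟨ε, hεJ, fun a ha => h3 ?_, fun a ha => ?_⟩
  · rw [pow_succ']
    exact Ideal.mul_mem_mul ha hε
  · by_contra h4
    have h5 : IsUnit a := by
      by_contra h6
      exact h4 ((mem_maximalIdeal a).2 h6)
    obtain ⟨b, hb⟩ := h5.exists_left_inv
    apply hεJ
    have : ε = b * (a * ε) := by rw [← mul_assoc, hb, one_mul]
    rw [this]
    exact J.mul_mem_left b ha

/-- downward induction on ideals -/
theorem ideal_induction {P : Ideal A → Prop} (h0 : P ⊤)
    (hs : ∀ (J : Ideal A) (ε : A), ε ∉ J → (∀ a ∈ maximalIdeal A, a * ε ∈ J) →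
      (∀ a, a * ε ∈ J → a ∈ maximalIdeal A) → P (J ⊔ Ideal.span {ε}) → P J) (J : Ideal A) : P J := by
  have : IsNoetherianRing A := inferInstance
  induction J using WellFoundedGT.induction with
  | ind J ih =>
    by_cases hJ : J = ⊤
    · rw [hJ]; exact h0
    obtain ⟨ε, h1, h2, h3⟩ := exists_socle J hJ
    refine hs J ε h1 h2 h3 (ih _ ?_)
    refine lt_of_le_of_ne le_sup_left fun h => h1 ?_
    rw [h]
    exact Ideal.mem_sup_right (Ideal.mem_span_singleton_self ε)

/-- upward induction on ideals -/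
theorem ideal_induction_up {P : Ideal A → Prop} (h0 : P ⊥)
    (hs : ∀ (J : Ideal A) (ε : A), ε ∉ J → (∀ a ∈ maximalIdeal A, a * ε ∈ J) →
      (∀ a, a * ε ∈ J → a ∈ maximalIdeal A) → P J → P (J ⊔ Ideal.span {ε})) (J : Ideal A) : P J := by
  have : IsNoetherianRing A := inferInstance
  induction J using WellFoundedLT.induction with
  | ind J ih =>
    by_cases hJ : J = ⊥
    · rw [hJ]; exact h0
    have hlt : maximalIdeal A • J < J := by
      refine lt_of_le_of_ne (Submodule.smul_le_right) fun h => hJ ?_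
      exact Submodule.eq_bot_of_le_smul_of_le_jacobson_bot (maximalIdeal A) J (IsNoetherian.noetherian J) h.ge
        (IsLocalRing.jacobson_eq_maximalIdeal ⊥ bot_ne_top).ge
    -- a coatom `K` of `[m J, J]`
    obtain ⟨K, hK⟩ : ∃ K : Set.Icc (maximalIdeal A • J) J, K ⋖ ⟨J, hlt.le, le_rfl⟩ := by
      have : WellFoundedGT (Set.Icc (maximalIdeal A • J) J) :=
        (Subtype.strictMono_coe (· ∈ Set.Icc (maximalIdeal A • J) J)).wellFoundedGT
      refine exists_covBy_of_wellFoundedGT fun h => ?_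
      have h1 := h (show (⟨_, le_rfl, hlt.le⟩ : Set.Icc (maximalIdeal A • J) J) ≤ ⟨J, hlt.le, le_rfl⟩ from hlt.le)
      exact hlt.not_ge h1
    obtain ⟨⟨K, hK1, hK2⟩, hK⟩ := K, hK
    have hKJ : K < J := hK.lt
    obtain ⟨ε, hε, hεK⟩ := SetLike.exists_of_lt hKJ
    have h1 : ∀ a ∈ maximalIdeal A, a * ε ∈ K := fun a ha => hK1 (Submodule.smul_mem_smul ha hε)
    have h2 : ∀ a, a * ε ∈ K → a ∈ maximalIdeal A := by
      intro a ha
      by_contra h4
      have h5 : IsUnit a := by
        by_contra h6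
        exact h4 ((mem_maximalIdeal a).2 h6)
      obtain ⟨b, hb⟩ := h5.exists_left_inv
      apply hεK
      have : ε = b * (a * ε) := by rw [← mul_assoc, hb, one_mul]
      rw [this]
      exact K.mul_mem_left b ha
    have h3 : J = K ⊔ Ideal.span {ε} := by
      have hle : K ⊔ Ideal.span {ε} ≤ J := sup_le hK2 ((Ideal.span_singleton_le_iff_mem _).2 hε)
      by_contra hne
      refine hK.2 (c := ⟨K ⊔ Ideal.span {ε}, hK1.trans le_sup_left, hle⟩) ?_ ?_
      · refine lt_of_le_of_ne (show K ≤ _ from le_sup_left) fun h => hεK ?_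
        have h6 : K = K ⊔ Ideal.span {ε} := congrArg Subtype.val h
        rw [h6]
        exact Ideal.mem_sup_right (Ideal.mem_span_singleton_self ε)
      · exact lt_of_le_of_ne hle fun h => hne (congrArg Subtype.val h).symm
    rw [h3]
    exact hs K ε hεK h1 h2 (ih K hKJ)

omit [IsArtinianRing A] in
theorem length_quot_succ (J : Ideal A) (ε : A) (h1 : ∀ a ∈ maximalIdeal A, a * ε ∈ J)
    (h2 : ∀ a, a * ε ∈ J → a ∈ maximalIdeal A) :
    Module.length A (A ⧸ J) = 1 + Module.length A (A ⧸ (J ⊔ Ideal.span {ε})) := by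
  let φ : (A ⧸ maximalIdeal A) →ₗ[A] (A ⧸ J) := Submodule.mapQ (maximalIdeal A) J (LinearMap.mulRight A ε)
    fun a ha => h1 a ha
  have hle : J ≤ J ⊔ Ideal.span {ε} := le_sup_left
  let ψ : (A ⧸ J) →ₗ[A] (A ⧸ (J ⊔ Ideal.span {ε})) := Submodule.mapQ J _ LinearMap.id hle
  have h3 := Module.length_eq_add_of_exact φ ψ ?_ ?_ ?_
  · rw [h3]
    congr 1
    have : IsSimpleModule A (A ⧸ maximalIdeal A) :=
      isSimpleModule_iff_quot_maximal.2 ⟨maximalIdeal A, inferInstance, ⟨LinearEquiv.refl _ _⟩⟩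
    exact Module.length_eq_one A _
  · rw [injective_iff_map_eq_zero]
    intro a ha
    obtain ⟨a, rfl⟩ := Submodule.Quotient.mk_surjective _ a
    have h3 : (Submodule.Quotient.mk (a * ε) : A ⧸ J) = 0 := ha
    rw [Submodule.Quotient.mk_eq_zero] at h3 ⊢
    exact h2 a h3
  · intro a
    obtain ⟨a, rfl⟩ := Submodule.Quotient.mk_surjective _ a
    exact ⟨Submodule.Quotient.mk a, rfl⟩
  · intro a
    obtain ⟨a, rfl⟩ := Submodule.Quotient.mk_surjective _ a
    constructor
    · intro h
      have h4 : (Submodule.Quotient.mk a : A ⧸ (J ⊔ Ideal.span {ε})) = 0 := h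
      rw [Submodule.Quotient.mk_eq_zero, Submodule.mem_sup] at h4
      obtain ⟨y, hy, z, hz, rfl⟩ := h4
      obtain ⟨b, rfl⟩ := Ideal.mem_span_singleton'.1 hz
      refine ⟨Submodule.Quotient.mk b, ?_⟩
      change (Submodule.Quotient.mk (b * ε) : A ⧸ J) = Submodule.Quotient.mk (y + b * ε)
      rw [Submodule.Quotient.eq, sub_add_cancel_right]
      exact neg_mem hy
    · rintro ⟨b, hb⟩
      obtain ⟨b, rfl⟩ := Submodule.Quotient.mk_surjective _ b
      rw [← hb]
      refine (Submodule.Quotient.mk_eq_zero _).2 ?_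
      exact Ideal.mul_mem_left _ b (Ideal.mem_sup_right (Ideal.mem_span_singleton_self ε))

section main

variable (F : Cx.{u, v} A) (hF : ∀ n, Module.Flat A (F.X n))

include hF

theorem length_quo_le (n : ℕ) (J : Ideal A) :
    Module.length A ((F.quo J).H n) ≤
      Module.length A (A ⧸ J) * Module.length A ((F.quo (maximalIdeal A)).H n) := by
  refine ideal_induction (P := fun J => Module.length A ((F.quo J).H n) ≤
      Module.length A (A ⧸ J) * Module.length A ((F.quo (maximalIdeal A)).H n)) ?_ ?_ J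
  · have := F.subsingleton_quo_top n
    rw [Module.length_eq_zero]
    exact bot_le
  · intro J ε _ h1 h2 ih
    have h3 := (F.isSES hF ε h1 h2).exact_H n
    refine (length_le_of_exact' _ _ h3).trans ?_
    rw [length_quot_succ J ε h1 h2, add_mul, one_mul]
    gcongr

omit hF [IsArtinianRing A] [IsLocalRing A] in
theorem mul_toQuo {J K : Ideal A} (ε : A) (h : ∀ a ∈ K, a * ε ∈ J) (n : ℕ) (c : F.H n) :
    (F.mul ε h).H n ((F.toQuo K).H n c) = (F.toQuo J).H n (ε • c) := by
  obtain ⟨x, hx, rfl⟩ := cl_surj c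
  rfl

theorem surjective_toQuo (hs : ∀ n, Function.Surjective ((F.toQuo (maximalIdeal A)).H n)) (J : Ideal A) :
    ∀ n, Function.Surjective ((F.toQuo J).H n) := by
  refine ideal_induction (P := fun J => ∀ n, Function.Surjective ((F.toQuo J).H n)) ?_ ?_ J
  · intro n y
    have := F.subsingleton_quo_top n
    exact ⟨0, Subsingleton.elim _ _⟩
  · intro J ε _ h1 h2 ih n y
    obtain ⟨z, hz⟩ := ih n ((F.fac (le_sup_left : J ≤ J ⊔ Ideal.span {ε})).H n y)
    have h3 : (F.fac (le_sup_left : J ≤ J ⊔ Ideal.span {ε})).H n (y - (F.toQuo J).H n z) = 0 := by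
      rw [map_sub, fac_toQuo, hz, sub_self]
    obtain ⟨w, hw⟩ := ((F.isSES hF ε h1 h2).exact_H n _).1 h3
    obtain ⟨w, rfl⟩ := hs n w
    rw [mul_toQuo] at hw
    refine ⟨z + ε • w, ?_⟩
    rw [map_add, hw]
    abel

theorem length_quo_eq (hs : ∀ n, Function.Surjective ((F.toQuo (maximalIdeal A)).H n)) (J : Ideal A) (n : ℕ) :
    Module.length A ((F.quo J).H n) =
      Module.length A (A ⧸ J) * Module.length A ((F.quo (maximalIdeal A)).H n) := by
  refine ideal_induction (P := fun J => Module.length A ((F.quo J).H n) =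
      Module.length A (A ⧸ J) * Module.length A ((F.quo (maximalIdeal A)).H n)) ?_ ?_ J
  · have := F.subsingleton_quo_top n
    rw [Module.length_eq_zero, Module.length_eq_zero (M := A ⧸ (⊤ : Ideal A)), zero_mul]
  · intro J ε _ h1 h2 ih
    have hses := F.isSES hF ε h1 h2
    have hsur : ∀ n, Function.Surjective ((F.fac (le_sup_left : J ≤ J ⊔ Ideal.span {ε})).H n) := by
      intro n y
      obtain ⟨z, rfl⟩ := F.surjective_toQuo hF hs (J ⊔ Ideal.span {ε}) n y
      exact ⟨(F.toQuo J).H n z, fac_toQuo _ _ _ _⟩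
    have hinj : Function.Injective ((F.mul ε h1).H n) := by
      cases n with
      | zero => exact hses.injective_H_zero
      | succ n => exact hses.injective_H_succ (hsur n)
    rw [Module.length_eq_add_of_exact _ _ hinj (hsur n) (hses.exact_H n), ih,
      length_quot_succ J ε h1 h2, add_mul, one_mul]

omit hF [IsArtinianRing A] [IsLocalRing A] in
theorem bijective_toQuo_bot (n : ℕ) : Function.Bijective ((F.toQuo (⊥ : Ideal A)).H n) := by
  have h0 : ∀ n (x : F.X n), (Submodule.Quotient.mk x : (F.quo ⊥).X n) = 0 → x = 0 := by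
    intro n x hx
    have h1 : x ∈ (⊥ : Ideal A) • (⊤ : Submodule A (F.X n)) := (Submodule.Quotient.mk_eq_zero _).1 hx
    rwa [Submodule.bot_smul, Submodule.mem_bot] at h1
  constructor
  · rw [injective_iff_map_eq_zero]
    intro c hc
    obtain ⟨x, hx, rfl⟩ := cl_surj c
    rw [Hom.H_cl, cl_eq_zero] at hc
    rw [cl_eq_zero]
    cases n with
    | zero =>
      rw [h0 0 x hc]
      exact zero_mem _
    | succ n =>
      obtain ⟨y, hy⟩ := hc
      obtain ⟨y, rfl⟩ := Submodule.Quotient.mk_surjective _ y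
      refine ⟨y, ?_⟩
      have h1 : (Submodule.Quotient.mk (F.d n y - x) : (F.quo ⊥).X (n + 1)) = 0 := by
        have h2 : (Submodule.Quotient.mk (F.d n y) : (F.quo ⊥).X (n + 1)) = Submodule.Quotient.mk x := hy
        rw [Submodule.Quotient.mk_sub, h2, sub_self]
      exact sub_eq_zero.1 (h0 _ _ h1)
  · intro c
    obtain ⟨x, hx, rfl⟩ := cl_surj c
    obtain ⟨x, rfl⟩ := Submodule.Quotient.mk_surjective _ x
    exact ⟨cl x (h0 _ _ hx), rfl⟩

/-- **Equality of lengths implies surjectivity**. -/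
theorem surjective_of_length_eq (n : ℕ)
    (hfin : Module.length A ((F.quo (maximalIdeal A)).H n) ≠ ⊤)
    (heq : Module.length A (F.H n) = Module.length A A * Module.length A ((F.quo (maximalIdeal A)).H n))
    (J : Ideal A) : Function.Surjective ((F.toQuo J).H n) := by
  set h := Module.length A ((F.quo (maximalIdeal A)).H n) with hh
  have key : Function.Surjective ((F.toQuo J).H n) ∧ Module.length A ((F.quo J).H n) = Module.length A (A ⧸ J) * h := by
    refine ideal_induction_up (P := fun J => Function.Surjective ((F.toQuo J).H n) ∧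
      Module.length A ((F.quo J).H n) = Module.length A (A ⧸ J) * h) ?_ ?_ J
    · refine ⟨(F.bijective_toQuo_bot n).2, ?_⟩
      rw [← (LinearEquiv.ofBijective _ (F.bijective_toQuo_bot n)).length_eq, heq,
        (Submodule.quotEquivOfEqBot (⊥ : Ideal A) rfl).length_eq]
    · intro J ε _ h1 h2 ⟨ih1, ih2⟩
      have hses := F.isSES hF ε h1 h2
      have h3 := length_le_of_exact _ _ (hses.exact_H n)
      rw [ih2, length_quot_succ J ε h1 h2, add_mul, one_mul] at h3
      have h4 := (ENat.add_le_add_iff_left hfin).1 h3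
      have h5 := F.length_quo_le hF n (J ⊔ Ideal.span {ε})
      have h6 : LinearMap.range ((F.fac (le_sup_left : J ≤ J ⊔ Ideal.span {ε})).H n) = ⊤ := by
        refine eq_top_of_length_le _ (h5.trans h4) (ne_top_of_le_ne_top ?_ h5)
        exact WithTop.mul_ne_top Module.length_ne_top hfin
      have h7 := LinearMap.range_eq_top.1 h6
      refine ⟨?_, le_antisymm h5 ?_⟩
      · intro y
        obtain ⟨z, rfl⟩ := h7 y
        obtain ⟨z, rfl⟩ := ih1 z
        exact ⟨z, (fac_toQuo _ _ _ _).symm⟩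
      · refine h4.trans ?_
        exact Module.length_le_of_injective _ (Submodule.subtype_injective _)
  exact key.1

end main

end artin

end K694.Cx
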