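import Groth.Agent.Deform.K694.TotMap

/-!
# The abstract form of Deligne's freeness theorem

`A` Artinian local, `g : A → R'` surjective with kernel the maximal ideal, `φ : S → S'` a semilinear map of complexes of
Čech systems, `S` flat over `A` and `S' = S/m`.  If cocycles of the total complex of `S'` lift to `S`, and the spectral
sequence of `S'` degenerates (numerically), then for all `a` the Čech cohomology of `V a` surjects onto that of
`V a / J`, for all ideals `J`.
-/

set_option autoImplicit false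

universe u

namespace K694

open Groth.Agent.Lefpen.H722.Sys IsLocalRing

theorem ENat_sum_eq {s : Finset ℕ} {x y : ℕ → ℕ∞} (hxy : ∀ a ∈ s, x a ≤ y a) (h : ∑ a ∈ s, y a ≤ ∑ a ∈ s, x a)
    (hfin : ∑ a ∈ s, x a ≠ ⊤) : ∀ a ∈ s, x a = y a := by
  intro a ha
  refine le_antisymm (hxy a ha) ?_
  have h1 : ∑ a ∈ s, y a ≠ ⊤ := ne_top_of_le_ne_top hfin h
  rw [← Finset.add_sum_erase s y ha] at h h1
  rw [← Finset.add_sum_erase s x ha] at h
  have h2 : ∑ a ∈ s.erase a, y a ≠ ⊤ := fun e => h1 (by rw [e, add_top])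
  have h3 : y a + ∑ a ∈ s.erase a, y a ≤ x a + ∑ a ∈ s.erase a, y a :=
    h.trans (add_le_add le_rfl (Finset.sum_le_sum fun b hb => hxy b (Finset.mem_of_mem_erase hb)))
  exact (ENat.add_le_add_iff_right h2).1 h3

namespace Cx

variable {A : Type u} [CommRing A] (F : Cx.{u, u} A)

theorem length_toQuo_bot (n : ℕ) : Module.length A (F.H n) = Module.length A ((F.quo ⊥).H n) :=
  (LinearEquiv.ofBijective _ (F.bijective_toQuo_bot n)).length_eq

theorem length_quot_bot : Module.length A (A ⧸ (⊥ : Ideal A)) = Module.length A A :=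
  (Submodule.quotEquivOfEqBot (⊥ : Ideal A) rfl).length_eq

end Cx

namespace GS

variable {A R' : Type u} [CommRing A] [IsArtinianRing A] [IsLocalRing A] [CommRing R'] {ι : Type} [Finite ι]
  {g : A →+* R'} {S : GS A ι} {S' : GS R' ι} (φ : SHom g S S')

/-- **Abstract freeness theorem.** -/
theorem surjective_of_degenerate (hg : Function.Surjective g) (hker : ∀ a, g a = 0 ↔ a ∈ maximalIdeal A)
    (hF : ∀ a (J : Set ι), J.Nonempty → Module.Flat A ((S.V a).M J))
    (hs : ∀ a (J : Set ι), J.Nonempty → Function.Surjective (φ.app a J))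
    (hk : ∀ a (J : Set ι), J.Nonempty → ∀ x, φ.app a J x = 0 → x ∈ maximalIdeal A • (⊤ : Submodule A ((S.V a).M J)))
    (hlift : ∀ n (y : S'.T n), S'.D n y = 0 → ∃ x : S.T n, S.D n x = 0 ∧ φ.mapT n x = y)
    (hfin : ∀ n, Module.length R' (S'.tot.H n) ≠ ⊤)
    (hdeg : ∀ n, ∑ a ∈ Finset.range (n + 1), Module.length R' ((cech (S'.V a)).H (n - a)) ≤
      Module.length R' (S'.tot.H n))
    (a b : ℕ) (J : Ideal A) : Function.Surjective (((cech (S.V a)).toQuo J).H b) := by
  have hm : ∀ a ∈ maximalIdeal A, g a = 0 := fun a ha => (hker a).2 ha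
  -- lengths of the total complex
  have e1 : ∀ n, Module.length A ((S.tot.quo (maximalIdeal A)).H n) = Module.length R' (S'.tot.H n) :=
    φ.tot.length_quo_eq hg _ hm (fun n => φ.surjective_mapT hs n) (fun n x hx => φ.mapT_ker _ hk n x hx)
  have e2 : ∀ n, Function.Surjective ((S.tot.toQuo (maximalIdeal A)).H n) := fun n =>
    φ.tot.surjective_toQuo _ hm (fun n => φ.surjective_mapT hs n) (fun n x hx => φ.mapT_ker _ hk n x hx) n
      (fun y hy => hlift n y hy)
  have e3 : ∀ n, Module.length A (S.tot.H n) = Module.length A A * Module.length R' (S'.tot.H n) := fun n => by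
    rw [Cx.length_toQuo_bot, S.tot.length_quo_eq (S.flat_T hF) e2, e1, Cx.length_quot_bot]
  -- lengths of the rows
  have e4 : ∀ a n, Module.length A (((cech (S.V a)).quo (maximalIdeal A)).H n) =
      Module.length R' ((cech (S'.V a)).H n) := fun a =>
    (φ.cech a).length_quo_eq hg _ hm (fun n => φ.surjective_mapC hs a n)
      (fun n x hx => φ.mapC_ker _ hk a n x hx)
  have e5 : ∀ a n, Module.length A ((cech (S.V a)).H n) ≤
      Module.length A A * Module.length R' ((cech (S'.V a)).H n) := fun a n => by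
    rw [Cx.length_toQuo_bot, ← e4, ← Cx.length_quot_bot]
    exact (cech (S.V a)).length_quo_le (S.flat_C hF a) n ⊥
  have e6 := S.length_tot_le (a + b)
  rw [e3] at e6
  have hAfin : Module.length A A ≠ ⊤ := Module.length_ne_top
  have e7 : ∑ c ∈ Finset.range (a + b + 1), Module.length A A * Module.length R' ((cech (S'.V c)).H (a + b - c)) ≤
      Module.length A A * Module.length R' (S'.tot.H (a + b)) := by
    rw [← Finset.mul_sum]
    gcongr
    exact hdeg (a + b)
  have hfin1 : ∑ c ∈ Finset.range (a + b + 1), Module.length A ((cech (S.V c)).H (a + b - c)) ≠ ⊤ := by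
    refine ne_top_of_le_ne_top (b := Module.length A A * Module.length R' (S'.tot.H (a + b))) ?_
      ((Finset.sum_le_sum fun c _ => e5 c (a + b - c)).trans e7)
    exact WithTop.mul_ne_top hAfin (hfin _)
  have e8 := ENat_sum_eq (fun c (_ : c ∈ Finset.range (a + b + 1)) => e5 c (a + b - c)) (e7.trans e6) hfin1 a
    (Finset.mem_range.2 (by omega))
  rw [Nat.add_sub_cancel_left] at e8
  refine (cech (S.V a)).surjective_of_length_eq (S.flat_C hF a) b ?_ (by rw [e8, e4]) J
  rw [e4]
  have h1 := hdeg (a + b)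
  have h2 : Module.length R' ((cech (S'.V a)).H (a + b - a)) ≤
      ∑ c ∈ Finset.range (a + b + 1), Module.length R' ((cech (S'.V c)).H (a + b - c)) :=
    Finset.single_le_sum (f := fun c => Module.length R' ((cech (S'.V c)).H (a + b - c))) (fun _ _ => bot_le)
      (Finset.mem_range.2 (by omega))
  rw [Nat.add_sub_cancel_left] at h2
  exact ne_top_of_le_ne_top (hfin (a + b)) (h2.trans h1)

end GS

end K694
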