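import Groth.Agent.Deform.K694.Ev

/-!
# Base change of compatible families of forms; lifting from the closed fibre of a graded family
-/

set_option autoImplicit false

universe u

open CategoryTheory CategoryTheory.Limits AlgebraicGeometry exteriorPower TopologicalSpace
open Groth.Agent.Lefpen.H721.OmegaSec Groth.Agent.Lefpen.H722.Sys

namespace K694

section pb

variable {A A' : Type u} [CommRing A] [CommRing A'] {φ : A →+* A'} {Y Y' : Scheme.{u}}
  {f : Y ⟶ Spec (CommRingCat.of A)} {f' : Y' ⟶ Spec (CommRingCat.of A')} {g : Y' ⟶ Y}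
  (w : g ≫ f = f' ≫ Spec.map (CommRingCat.ofHom φ))

/-- Pull back of forms. -/
noncomputable def pb {V : Y.Opens} {V' : Y'.Opens} (h : V' ≤ g ⁻¹ᵁ V) (p : ℕ) :
    ↥(⋀[SA f V]^p (Ω[SA f V⁄A])) →+ ↥(⋀[SA f' V']^p (Ω[SA f' V'⁄A'])) := (sqG φ f f' g w h).dm p

theorem pb_rs {V V₁ : Y.Opens} {V' V₁' : Y'.Opens} (h : V' ≤ g ⁻¹ᵁ V) (h₁ : V₁' ≤ g ⁻¹ᵁ V₁) (k : V₁ ≤ V)
    (k' : V₁' ≤ V') (p : ℕ) (x : ↥(⋀[SA f V]^p (Ω[SA f V⁄A]))) :
    pb w h₁ p (rs f k p x) = rs f' k' p (pb w h p x) := by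
  have e1 := (Wt.sqA (resA f k)).dm_comp (sqG φ f f' g w h₁) (sqG φ f f' g w (k'.trans h)) (fun a => by
    change (Y.presheaf.map (homOfLE k).op ≫ g.appLE _ _ _).hom a = _
    rw [Scheme.Hom.map_appLE]
    rfl) p x
  have e2 := (sqG φ f f' g w h).dm_comp (Wt.sqA (resA f' k')) (sqG φ f f' g w (k'.trans h)) (fun a => by
    change (g.appLE _ _ _ ≫ Y'.presheaf.map (homOfLE k').op).hom a = _
    rw [Scheme.Hom.appLE_map]
    rfl) p x
  exact e1.trans e2.symm

variable {A'' : Type u} [CommRing A''] {φ' : A' →+* A''} {Y'' : Scheme.{u}} {f'' : Y'' ⟶ Spec (CommRingCat.of A'')}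
  {g' : Y'' ⟶ Y'} (w' : g' ≫ f' = f'' ≫ Spec.map (CommRingCat.ofHom φ'))
  (w'' : (g' ≫ g) ≫ f = f'' ≫ Spec.map (CommRingCat.ofHom (φ'.comp φ)))

theorem pb_pb {V : Y.Opens} {V' : Y'.Opens} {V'' : Y''.Opens} (h : V' ≤ g ⁻¹ᵁ V) (h' : V'' ≤ g' ⁻¹ᵁ V')
    (h'' : V'' ≤ (g' ≫ g) ⁻¹ᵁ V) (p : ℕ) (x : ↥(⋀[SA f V]^p (Ω[SA f V⁄A]))) :
    pb w' h' p (pb w h p x) = pb w'' h'' p x := by
  refine (sqG φ f f' g w h).dm_comp (sqG φ' f' f'' g' w' h') (sqG (φ'.comp φ) f f'' (g' ≫ g) w'' h'') (fun a => ?_) p x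
  change (g.appLE _ _ _ ≫ g'.appLE _ _ _).hom a = ((g' ≫ g).appLE _ _ _).hom a
  rw [Scheme.Hom.appLE_comp_appLE]

end pb

section pull

variable {A A' : Type u} [CommRing A] [CommRing A'] {φ : A →+* A'} {Y Y' : Scheme.{u}}
  {f : Y ⟶ Spec (CommRingCat.of A)} {f' : Y' ⟶ Spec (CommRingCat.of A')} {g : Y' ⟶ Y}
  (w : g ≫ f = f' ≫ Spec.map (CommRingCat.ofHom φ)) {ι : Type} {W : ι → Y.Opens}

/-- Pull back of compatible families. -/
noncomputable def Eta.pull {p : ℕ} (E : Eta f W p) : Eta f' (fun i => g ⁻¹ᵁ W i) p where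
  η i := pb w (le_refl (g ⁻¹ᵁ W i)) p (E.η i)
  compat i j V hi hj := by
    have h : V ≤ g ⁻¹ᵁ (W i ⊓ W j) := le_inf hi hj
    rw [← pb_rs w (le_refl _) h inf_le_left hi, ← pb_rs w (le_refl _) h inf_le_right hj,
      E.compat i j _ inf_le_left inf_le_right]

theorem Eta.pull_at {p : ℕ} (E : Eta f W p) (i : ι) {V : Y.Opens} (h : V ≤ W i) {V' : Y'.Opens}
    (h' : V' ≤ g ⁻¹ᵁ V) (h'' : V' ≤ g ⁻¹ᵁ W i) : (E.pull w).at i h'' = pb w h' p (E.at i h) :=
  (pb_rs w (le_refl _) h' h h'' p (E.η i)).symm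

variable {k : Type u} [Field k] {A : Type u} [CommRing A] [IsArtinianRing A] [IsLocalRing A] {φ : A →+* k}
  {X Y : Scheme.{u}} {f : Y ⟶ Spec (CommRingCat.of A)} [Smooth f] {x : X ⟶ Spec (CommRingCat.of k)} {g : X ⟶ Y}
  (H : IsPullback g x f (Spec.map (CommRingCat.ofHom φ))) (hφ : Function.Surjective φ) {ι : Type} {W : ι → Y.Opens}

omit [IsArtinianRing A] in
include hφ in
theorem ker_eq : RingHom.ker φ = IsLocalRing.maximalIdeal A := by
  have : (RingHom.ker φ).IsMaximal := RingHom.ker_isMaximal_of_surjective _ hφ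
  exact IsLocalRing.eq_maximalIdeal this

include hφ

/-- Generators are detected on the closed fibre. -/
theorem Eta.gen_of_red {p : ℕ} (E : Eta f W p) (h₀ : (E.pull H.w).Gen) : E.Gen := by
  intro i V h hV
  have := smooth_SA f hV
  have := flat_SA f hV
  have : Module.Flat A ↥(⋀[SA f V]^p (Ω[SA f V⁄A])) := flat_pow A (SA f V) p
  have hr := isRed H hφ hV (V' := g ⁻¹ᵁ V) rfl
  rw [ker_eq hφ] at hr
  have : IsAffineHom g := MorphismProperty.of_isPullback H.flip inferInstance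
  have h1 := h₀ i (g ⁻¹ᵁ V) (g.preimage_mono h) (hV.preimage g)
  rw [E.pull_at H.w i h le_rfl] at h1
  exact bijective_smul_of_red hr rfl h1

end pull

section lift

variable {k : Type u} [Field k] [CharZero k] {A : Type u} [CommRing A] [Algebra k A] [IsArtinianRing A]
  [IsLocalRing A] {res : A →ₐ[k] k} {E : Derivation k A A} (hG : Gr res E)
  {X Y : Scheme.{u}} {f : Y ⟶ Spec (CommRingCat.of A)} [Smooth f] {x : X ⟶ Spec (CommRingCat.of k)} [Smooth x]
  [IsProper x] {g : X ⟶ Y}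
  (H : IsPullback g x f (Spec.map (CommRingCat.ofHom (res : A →+* k)))) {ι : Type} [Finite ι] {W : ι → Y.Opens}
  (hW : ∀ I : Set ι, I.Nonempty → IsAffineOpen (⨅ i ∈ I, W i)) (hcov : ⨆ i, W i = ⊤) (hHC : HodgeCech.{u})

include hG hW hcov hHC H

theorem cech_surjective (a b : ℕ) (J : Ideal A) :
    Function.Surjective (((cech ((cov f W).sys a)).toQuo J).H b) := by
  have hφ : Function.Surjective (res : A →+* k) := fun c => ⟨algebraMap k A c, AlgHom.commutes res c⟩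
  have : IsAffineHom g := MorphismProperty.of_isPullback H.flip inferInstance
  have hW1 : ∀ i, IsAffineOpen (W i) := fun i => by
    have := hW {i} ⟨i, rfl⟩
    simpa using this
  have hnum := hHC k x (fun i => g ⁻¹ᵁ W i) (fun i => (hW1 i).preimage g) (by
    rw [← Scheme.Hom.preimage_iSup, hcov]
    rfl)
  refine surjective_of_graded res E hG (covMap H.w W) ?_ ?_ ?_ ?_ ?_ (fun n => (hnum n).1) (fun n => (hnum n).2) a b J
  · intro I hI
    exact flat_SA f (hW I hI)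
  · intro a I hI
    have := smooth_SA f (hW I hI)
    have := flat_SA f (hW I hI)
    exact flat_pow A (SA f (⨅ i ∈ I, W i)) a
  · intro I hI
    have h1 : IsAffineOpen (⨅ i ∈ I, g ⁻¹ᵁ W i) := by
      rw [← preimage_biInf]
      exact (hW I hI).preimage g
    have := smooth_SA x h1
    change Algebra.FormallySmooth k (SA x (⨅ i ∈ I, g ⁻¹ᵁ W i))
    infer_instance
  · intro I hI
    exact (isRed_cov H hφ W I (hW I hI)).gs
  · intro I hI b
    have h1 := (isRed_cov H hφ W I (hW I hI)).gk b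
    rwa [ker_eq hφ] at h1

/-- Compatible families lift from the closed fibre of a graded family. -/
theorem exists_eta {p : ℕ} (E₀ : Eta x (fun i => g ⁻¹ᵁ W i) p) :
    ∃ E : Eta f W p, ∀ i, pb H.w (le_refl (g ⁻¹ᵁ W i)) p (E.η i) = E₀.η i := by
  have hφ : Function.Surjective (res : A →+* k) := fun c => ⟨algebraMap k A c, AlgHom.commutes res c⟩
  have hW1 : ∀ i, IsAffineOpen (W i) := fun i => by
    have := hW {i} ⟨i, rfl⟩
    simpa using this
  have hsur : ∀ i, Function.Surjective (pb (f := f) (f' := x) H.w (le_refl (g ⁻¹ᵁ W i)) p) := fun i =>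
    Sq.dm_surjective _ (isRed H hφ (hW1 i) rfl).gs p
  choose e he using fun i => hsur i (E₀.η i)
  let le (σ : Fin 1 → ι) : (⨅ a ∈ Set.range σ, W a) ≤ W (σ 0) := iInf₂_le _ ⟨0, rfl⟩
  let c : C ((cov f W).sys p) 0 := fun σ => rs f (le σ) p (e (σ 0))
  have hc : ∀ i (V : Y.Opens) (hi : V ≤ W i), ev c ![i] V (le1 hi) = rs f hi p (e i) := fun i V hi => rs_rs _ _ p _
  have hd : d ((cov f W).sys p) 0 c ∈ IsLocalRing.maximalIdeal A • (⊤ : Submodule A (C ((cov f W).sys p) 1)) := by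
    refine mem_smul_top_pi _ _ _ fun σ => ?_
    have hσ : σ = ![σ 0, σ 1] := by
      funext a; fin_cases a <;> rfl
    generalize σ 0 = i at hσ
    generalize σ 1 = j at hσ
    subst hσ
    have hi : (⨅ a ∈ Set.range ![i, j], W a) ≤ W i := iInf₂_le i ⟨0, rfl⟩
    have hj : (⨅ a ∈ Set.range ![i, j], W a) ≤ W j := iInf₂_le j ⟨1, rfl⟩
    have hV : IsAffineOpen (⨅ a ∈ Set.range ![i, j], W a) := hW _ (Set.range_nonempty _)
    have hr := isRed H hφ hV (V' := g ⁻¹ᵁ (⨅ a ∈ Set.range ![i, j], W a)) rfl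
    rw [ker_eq hφ] at hr
    have h1 : ev (d ((cov f W).sys p) 0 c) ![i, j] _ (le2 hi hj) ∈ IsLocalRing.maximalIdeal A • (⊤ : Submodule A _) := by
      refine hr.mem_of_dm p _ ?_
      rw [ev_d0 c i j _ hi hj, hc i _ hi, hc j _ hj, map_sub, sub_eq_zero]
      have e1 := pb_rs H.w (le_refl _) (le_refl _) hj (g.preimage_mono hj) p (e j)
      have e2 := pb_rs H.w (le_refl _) (le_refl _) hi (g.preimage_mono hi) p (e i)
      refine e1.trans (Eq.trans ?_ e2.symm)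
      rw [he, he]
      exact E₀.compat _ _ _ _ _
    rw [ev, rs_self] at h1
    exact h1
  have hy : ((cech ((cov f W).sys p)).quo (IsLocalRing.maximalIdeal A)).d 0 (Submodule.Quotient.mk c) = 0 :=
    (Submodule.Quotient.mk_eq_zero _).2 hd
  obtain ⟨c', hc1, hc2⟩ : ∃ c' : C ((cov f W).sys p) 0, d ((cov f W).sys p) 0 c' = 0 ∧
      c' - c ∈ IsLocalRing.maximalIdeal A • (⊤ : Submodule A (C ((cov f W).sys p) 0)) := by
    obtain ⟨c', h1, h2⟩ := ((cech ((cov f W).sys p)).toQuo (IsLocalRing.maximalIdeal A)).exists_of_surjective_H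
      (cech_surjective hG H hW hcov hHC p 0 _) _ hy
    refine ⟨c', h1, ?_⟩
    have h3 : ∀ (x y : C ((cov f W).sys p) 0),
        (Submodule.Quotient.mk x : C ((cov f W).sys p) 0 ⧸ (IsLocalRing.maximalIdeal A •
          (⊤ : Submodule A (C ((cov f W).sys p) 0)))) - Submodule.Quotient.mk y = 0 → x - y ∈
            IsLocalRing.maximalIdeal A • (⊤ : Submodule A (C ((cov f W).sys p) 0)) := by
      intro x y h
      rw [← Submodule.Quotient.mk_eq_zero, Submodule.Quotient.mk_sub, h]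
    exact h3 _ _ h2
  refine ⟨⟨fun i => ev c' ![i] (W i) (le1 le_rfl), fun i j V hi hj => ?_⟩, fun i => ?_⟩
  · rw [rs_ev, rs_ev]
    have h1 := ev_d0 c' i j V hi hj
    rw [hc1] at h1
    have h2 : ev c' ![j] V (le1 hj) - ev c' ![i] V (le1 hi) = 0 := h1.symm.trans (map_zero (rs f _ p))
    exact (sub_eq_zero.1 h2).symm
  · have hr := isRed H hφ (hW1 i) (V' := g ⁻¹ᵁ W i) rfl
    rw [ker_eq hφ] at hr
    have h1 : ev (c' - c) ![i] (W i) (le1 le_rfl) ∈ IsLocalRing.maximalIdeal A • (⊤ : Submodule A _) :=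
      rs_mem _ (Submodule.smul_top_le_comap_smul_top _ (LinearMap.proj (R := A) ![i]) hc2)
    have h2 := hr.dm_of_mem p _ h1
    rw [ev_sub, hc i _ le_rfl, rs_self, map_sub, sub_eq_zero] at h2
    exact h2.trans (he i)

end lift

end K694
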