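import Groth.Agent.Deform.K694.Geo
import Groth.Agent.Deform.K694.Iface

/-!
# Restriction of forms, evaluation of Čech cochains, compatible families of forms
-/

set_option autoImplicit false

universe u

open CategoryTheory CategoryTheory.Limits AlgebraicGeometry exteriorPower TopologicalSpace
open Groth.Agent.Lefpen.H721.OmegaSec Groth.Agent.Lefpen.H722.Sys

namespace K694

section alg

open Contr K852.DR

variable {A B : Type u} [CommRing A] [CommRing B] [Algebra A B] (K : Ideal A)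

theorem mem_smul_top_iff (M : Type u) [AddCommGroup M] [Module A M] [Module B M] [IsScalarTower A B M] (x : M) :
    x ∈ K • (⊤ : Submodule A M) ↔ x ∈ (K.map (algebraMap A B)) • (⊤ : Submodule B M) := by
  rw [← Submodule.restrictScalars_mem A ((K.map (algebraMap A B)) • (⊤ : Submodule B M)),
    Ideal.smul_restrictScalars, Submodule.restrictScalars_top]

theorem dual_mem (φ : Module.Dual B (Ω[B⁄A])) (I : Ideal B) (h : ∀ x, φ (KaehlerDifferential.D A B x) ∈ I)
    (m : Ω[B⁄A]) : φ m ∈ I := by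
  have hm : m ∈ Submodule.span B (Set.range (KaehlerDifferential.D A B)) := by
    rw [kaehler_span]; trivial
  induction hm using Submodule.span_induction with
  | mem m hm => obtain ⟨a, rfl⟩ := hm; exact h a
  | zero => rw [map_zero]; exact zero_mem _
  | add x y _ _ hx hy => rw [map_add]; exact add_mem hx hy
  | smul a x _ hx => rw [map_smul]; exact Ideal.mul_mem_left _ _ hx

theorem theta_mem_iff {n : ℕ} (e : Module.Basis (Fin (n + 1)) B (Ω[B⁄A])) {η : ↥(⋀[B]^(n + 1) (Ω[B⁄A]))}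
    (hη : Function.Bijective fun b : B => b • η) (φ : Module.Dual B (Ω[B⁄A])) :
    theta η φ ∈ K • (⊤ : Submodule A ↥(⋀[B]^n (Ω[B⁄A]))) ↔
      ∀ x, φ (KaehlerDifferential.D A B x) ∈ K.map (algebraMap A B) := by
  rw [mem_smul_top_iff (B := B)]
  constructor
  · intro h x
    let θ := LinearEquiv.ofBijective (theta η) (bijective_theta e hη)
    have h1 : φ = θ.symm (theta η φ) := (θ.symm_apply_apply φ).symm
    have h2 : θ.symm (theta η φ) ∈ (K.map (algebraMap A B)) • (⊤ : Submodule B (Module.Dual B (Ω[B⁄A]))) :=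
      Submodule.smul_top_le_comap_smul_top _ θ.symm.toLinearMap h
    rw [← h1] at h2
    have h3 : φ (KaehlerDifferential.D A B x) ∈ (K.map (algebraMap A B)) • (⊤ : Submodule B B) :=
      Submodule.smul_top_le_comap_smul_top _ (LinearMap.applyₗ (KaehlerDifferential.D A B x)) h2
    rwa [smul_eq_mul, Ideal.mul_top] at h3
  · intro h
    have h1 : φ = ∑ j, φ (e j) • e.coord j := by
      apply e.ext
      intro i
      rw [LinearMap.sum_apply, Finset.sum_eq_single i]
      · rw [LinearMap.smul_apply, Module.Basis.coord_apply, e.repr_self, Finsupp.single_eq_same, smul_eq_mul,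
          mul_one]
      · intro j _ hj
        rw [LinearMap.smul_apply, Module.Basis.coord_apply, e.repr_self, Finsupp.single_eq_of_ne hj, smul_zero]
      · intro h; exact absurd (Finset.mem_univ _) h
    rw [h1, map_sum]
    refine Submodule.sum_mem _ fun j _ => ?_
    rw [map_smul]
    exact Submodule.smul_mem_smul (dual_mem φ _ h _) trivial

/-- Derivations modulo an ideal lift to linear forms. -/
theorem exists_dual {n : ℕ} (e : Module.Basis (Fin n) B (Ω[B⁄A])) (I : Ideal B) (κ : Derivation A B (B ⧸ I)) :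
    ∃ φ : Module.Dual B (Ω[B⁄A]), ∀ x, κ x = Ideal.Quotient.mk I (φ (KaehlerDifferential.D A B x)) := by
  have : Module.Projective B (Ω[B⁄A]) := Module.Projective.of_basis e
  obtain ⟨φ, hφ⟩ := Module.projective_lifting_property (Submodule.mkQ I) κ.liftKaehlerDifferential
    (Submodule.mkQ_surjective _)
  refine ⟨φ, fun x => ?_⟩
  have h1 : (Submodule.mkQ I ∘ₗ φ) (KaehlerDifferential.D A B x) = κ.liftKaehlerDifferential (KaehlerDifferential.D A B x) := by
    rw [hφ]
  rw [Derivation.liftKaehlerDifferential_comp_D] at h1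
  exact h1.symm

end alg

section rs

variable {A : Type u} [CommRing A] {Y : Scheme.{u}} (f : Y ⟶ Spec (CommRingCat.of A))

/-- Restriction of forms. -/
noncomputable def rs {V V' : Y.Opens} (h : V' ≤ V) (p : ℕ) :
    ↥(⋀[SA f V]^p (Ω[SA f V⁄A])) →+ ↥(⋀[SA f V']^p (Ω[SA f V'⁄A])) := (Wt.sqA (resA f h)).dm p

variable {f}

theorem rs_rs {V V' V'' : Y.Opens} (h : V' ≤ V) (h' : V'' ≤ V') (p : ℕ) (x : ↥(⋀[SA f V]^p (Ω[SA f V⁄A]))) :
    rs f h' p (rs f h p x) = rs f (h'.trans h) p x :=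
  (Wt.sqA (resA f h)).dm_comp (Wt.sqA (resA f h')) (Wt.sqA (resA f (h'.trans h)))
    (fun x => resA_resA f h h' x) p x

theorem rs_smul {V V' : Y.Opens} (h : V' ≤ V) (p : ℕ) (b : SA f V) (x : ↥(⋀[SA f V]^p (Ω[SA f V⁄A]))) :
    rs f h p (b • x) = resA f h b • rs f h p x := (Wt.sqA (resA f h)).dm_smul p b x

theorem rs_smul_base {V V' : Y.Opens} (h : V' ≤ V) (p : ℕ) (b : A) (x : ↥(⋀[SA f V]^p (Ω[SA f V⁄A]))) :
    rs f h p (b • x) = b • rs f h p x := (Wt.sqA (resA f h)).dm_smul_base p b x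

theorem resA_self {V : Y.Opens} (h : V ≤ V) (b : SA f V) : resA f h b = b := by
  rw [resA_apply]
  have : (homOfLE h).op = 𝟙 _ := rfl
  rw [this, Y.presheaf.map_id]
  rfl

theorem rs_self {V : Y.Opens} (h : V ≤ V) (p : ℕ) (x : ↥(⋀[SA f V]^p (Ω[SA f V⁄A]))) : rs f h p x = x :=
  (Wt.sqA (resA f h)).dm_id (fun a => resA_self h a) p x

theorem rs_mem {V V' : Y.Opens} (h : V' ≤ V) {p : ℕ} {K : Ideal A} {x : ↥(⋀[SA f V]^p (Ω[SA f V⁄A]))}
    (hx : x ∈ K • (⊤ : Submodule A ↥(⋀[SA f V]^p (Ω[SA f V⁄A])))) :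
    rs f h p x ∈ K • (⊤ : Submodule A ↥(⋀[SA f V']^p (Ω[SA f V'⁄A]))) := by
  refine Submodule.smul_induction_on (p := fun x => rs f h p x ∈ K • (⊤ : Submodule A _)) hx ?_ ?_
  · intro a ha y _
    rw [rs_smul_base]
    exact Submodule.smul_mem_smul ha trivial
  · intro y z hy hz
    rw [map_add]
    exact add_mem hy hz

/-- compatibility of linear forms with restriction -/
def Ex {V V' : Y.Opens} (h : V' ≤ V) (φ : Module.Dual (SA f V) (Ω[SA f V⁄A]))
    (φ' : Module.Dual (SA f V') (Ω[SA f V'⁄A])) : Prop :=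
  ∀ m, φ' ((Wt.sqA (resA f h)).om m) = resA f h (φ m)

theorem rs_theta {V V' : Y.Opens} (h : V' ≤ V) {φ : Module.Dual (SA f V) (Ω[SA f V⁄A])}
    {φ' : Module.Dual (SA f V') (Ω[SA f V'⁄A])} (hφ : Ex h φ φ') {n : ℕ} (η : ↥(⋀[SA f V]^(n + 1) (Ω[SA f V⁄A]))) :
    rs f h n (Contr.theta η φ) = Contr.theta (rs f h (n + 1) η) φ' :=
  (Wt.sqA (resA f h)).dm_contr φ φ' hφ n η

theorem Ex.apply_D {V V' : Y.Opens} {h : V' ≤ V} {φ : Module.Dual (SA f V) (Ω[SA f V⁄A])}
    {φ' : Module.Dual (SA f V') (Ω[SA f V'⁄A])} (hφ : Ex h φ φ') (x : SA f V) :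
    φ' (KaehlerDifferential.D A _ (resA f h x)) = resA f h (φ (KaehlerDifferential.D A _ x)) := by
  rw [← hφ, Sq.om_D]
  rfl

theorem ex_of_ext0 {V V' : Y.Opens} (h : V' ≤ V) {D : Derivation A (SA f V) (SA f V)}
    {D' : Derivation A (SA f V') (SA f V')} (hD : Iface.Ext0 f h D D') :
    Ex h D.liftKaehlerDifferential D'.liftKaehlerDifferential :=
  (Wt.sqA (resA f h)).om_compat _ _ fun a => by
    have h1 := D'.liftKaehlerDifferential_comp_D ((Wt.sqA (resA f h)).g a)
    have h2 := D.liftKaehlerDifferential_comp_D a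
    rw [h1, h2]
    exact hD a

/-- Uniqueness of extensions of derivations. -/
theorem der_unique {V V' : Y.Opens} (hV : IsAffineOpen V) (hV' : IsAffineOpen V') (h : V' ≤ V) {M : Type u}
    [AddCommGroup M] [Module A M] [Module (SA f V') M] [IsScalarTower A (SA f V') M]
    (D₁ D₂ : Derivation A (SA f V') M) (hD : ∀ x, D₁ (resA f h x) = D₂ (resA f h x)) : D₁ = D₂ := by
  let : Algebra (SA f V) (SA f V') := (resA f h).toRingHom.toAlgebra
  have : IsScalarTower A (SA f V) (SA f V') := IsScalarTower.of_algebraMap_eq fun r => ((resA f h).commutes r).symm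
  let : Module (SA f V) M := Module.compHom M (algebraMap (SA f V) (SA f V'))
  have : IsScalarTower (SA f V) (SA f V') M := ⟨fun a b c => by
    rw [Algebra.smul_def, mul_smul]
    rfl⟩
  have hbc : IsBaseChange (SA f V') (KaehlerDifferential.map A A (SA f V) (SA f V')) := isBaseChange_res f hV hV' h
  have h1 : D₁.liftKaehlerDifferential = D₂.liftKaehlerDifferential := by
    apply hbc.algHom_ext
    intro m
    have hm : m ∈ Submodule.span (SA f V) (Set.range (KaehlerDifferential.D A (SA f V))) := by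
      rw [K852.DR.kaehler_span]; trivial
    induction hm using Submodule.span_induction with
    | mem m hm =>
      obtain ⟨a, rfl⟩ := hm
      rw [KaehlerDifferential.map_D, Derivation.liftKaehlerDifferential_comp_D,
        Derivation.liftKaehlerDifferential_comp_D]
      exact hD a
    | zero => rw [map_zero, map_zero, map_zero]
    | add x y _ _ hx hy => rw [map_add, map_add, map_add, hx, hy]
    | smul a x _ hx =>
      rw [map_smul, ← algebraMap_smul (SA f V') a, map_smul, map_smul, hx]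
  ext x
  rw [← D₁.liftKaehlerDifferential_comp_D, ← D₂.liftKaehlerDifferential_comp_D, h1]

end rs

section ev

variable {A : Type u} [CommRing A] {Y : Scheme.{u}} {f : Y ⟶ Spec (CommRingCat.of A)} {ι : Type} {W : ι → Y.Opens}

/-- Evaluation of a cochain over a smaller open set. -/
noncomputable def ev {n p : ℕ} (s : C ((cov f W).sys n) p) (σ : Fin (p + 1) → ι) (V : Y.Opens)
    (h : V ≤ ⨅ a ∈ Set.range σ, W a) : ↥(⋀[SA f V]^n (Ω[SA f V⁄A])) :=
  rs f h n (s σ)

theorem ev_congr {n p : ℕ} (s : C ((cov f W).sys n) p) {σ σ' : Fin (p + 1) → ι} (hσ : σ = σ') {V : Y.Opens}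
    (h : V ≤ ⨅ a ∈ Set.range σ, W a) (h' : V ≤ ⨅ a ∈ Set.range σ', W a) : ev s σ V h = ev s σ' V h' := by
  subst hσ; rfl

theorem rs_ev {n p : ℕ} (s : C ((cov f W).sys n) p) (σ : Fin (p + 1) → ι) {V V' : Y.Opens}
    (h : V ≤ ⨅ a ∈ Set.range σ, W a) (h' : V' ≤ V) : rs f h' n (ev s σ V h) = ev s σ V' (h'.trans h) :=
  rs_rs h h' n _

theorem ev_add {n p : ℕ} (s t : C ((cov f W).sys n) p) (σ : Fin (p + 1) → ι) (V : Y.Opens)
    (h : V ≤ ⨅ a ∈ Set.range σ, W a) : ev (s + t) σ V h = ev s σ V h + ev t σ V h := map_add (rs f h n) _ _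

theorem ev_sub {n p : ℕ} (s t : C ((cov f W).sys n) p) (σ : Fin (p + 1) → ι) (V : Y.Opens)
    (h : V ≤ ⨅ a ∈ Set.range σ, W a) : ev (s - t) σ V h = ev s σ V h - ev t σ V h := map_sub (rs f h n) _ _

theorem le1 {V : Y.Opens} {i : ι} (h : V ≤ W i) : V ≤ ⨅ a ∈ Set.range ![i], W a := by
  simpa using h

theorem le2 {V : Y.Opens} {i j : ι} (h : V ≤ W i) (h' : V ≤ W j) : V ≤ ⨅ a ∈ Set.range ![i, j], W a := by
  refine le_iInf₂ ?_
  rintro _ ⟨b, rfl⟩
  fin_cases b
  · exact h
  · exact h'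

theorem le3 {V : Y.Opens} {i j l : ι} (h : V ≤ W i) (h' : V ≤ W j) (h'' : V ≤ W l) :
    V ≤ ⨅ a ∈ Set.range ![i, j, l], W a := by
  refine le_iInf₂ ?_
  rintro _ ⟨b, rfl⟩
  fin_cases b
  · exact h
  · exact h'
  · exact h''

theorem d0 (S : Sys A ι) (s : C S 0) (i j : ι) (h : Set.range ![j] ⊆ Set.range ![i, j])
    (h' : Set.range ![i] ⊆ Set.range ![i, j]) : d S 0 s ![i, j] = S.res h (s ![j]) - S.res h' (s ![i]) := by
  have h0 : (![i, j] : Fin 2 → ι) ∘ (0 : Fin 2).succAbove = ![j] := by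
    funext a; fin_cases a; rfl
  have h1 : (![i, j] : Fin 2 → ι) ∘ (1 : Fin 2).succAbove = ![i] := by
    funext a; fin_cases a; rfl
  rw [d_apply, Fin.sum_univ_two, res_congr S s h0 _ h, res_congr S s h1 _ h']
  simp only [Fin.val_zero, pow_zero, one_smul, Fin.val_one, pow_one, neg_smul]
  rw [← sub_eq_add_neg]

theorem d1 (S : Sys A ι) (s : C S 1) (i j l : ι) (h : Set.range ![j, l] ⊆ Set.range ![i, j, l])
    (h' : Set.range ![i, l] ⊆ Set.range ![i, j, l]) (h'' : Set.range ![i, j] ⊆ Set.range ![i, j, l]) :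
    d S 1 s ![i, j, l] = S.res h (s ![j, l]) - S.res h' (s ![i, l]) + S.res h'' (s ![i, j]) := by
  have h0 : (![i, j, l] : Fin 3 → ι) ∘ (0 : Fin 3).succAbove = ![j, l] := by
    funext a; fin_cases a <;> rfl
  have h1 : (![i, j, l] : Fin 3 → ι) ∘ (1 : Fin 3).succAbove = ![i, l] := by
    funext a; fin_cases a <;> rfl
  have h2 : (![i, j, l] : Fin 3 → ι) ∘ (2 : Fin 3).succAbove = ![i, j] := by
    funext a; fin_cases a <;> rfl
  rw [d_apply, Fin.sum_univ_three, res_congr S s h0 _ h, res_congr S s h1 _ h', res_congr S s h2 _ h'']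
  simp only [Fin.val_zero, pow_zero, one_smul, Fin.val_one, pow_one, neg_smul, Fin.val_two, even_two, Even.neg_pow,
    one_pow]
  rw [← sub_eq_add_neg]

theorem range_sub {p q : ℕ} (σ : Fin p → ι) (τ : Fin q → ι) (h : ∀ a, ∃ b, τ b = σ a) :
    Set.range σ ⊆ Set.range τ := by
  rintro _ ⟨a, rfl⟩
  exact h a

theorem ev_d0 {n : ℕ} (s : C ((cov f W).sys n) 0) (i j : ι) (V : Y.Opens) (hi : V ≤ W i) (hj : V ≤ W j) :
    ev (d ((cov f W).sys n) 0 s) ![i, j] V (le2 hi hj) = ev s ![j] V (le1 hj) - ev s ![i] V (le1 hi) := by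
  have e := d0 _ s i j (range_sub _ _ fun a => ⟨1, by fin_cases a; rfl⟩) (range_sub _ _ fun a => ⟨0, by fin_cases a; rfl⟩)
  refine (congrArg (rs f (le2 hi hj) n) e).trans ?_
  exact (map_sub (rs f (le2 hi hj) n) _ _).trans (congrArg₂ (· - ·) (rs_rs _ _ n _) (rs_rs _ _ n _))

theorem ev_d1 {n : ℕ} (s : C ((cov f W).sys n) 1) (i j l : ι) (V : Y.Opens) (hi : V ≤ W i) (hj : V ≤ W j)
    (hl : V ≤ W l) :
    ev (d ((cov f W).sys n) 1 s) ![i, j, l] V (le3 hi hj hl) =
      ev s ![j, l] V (le2 hj hl) - ev s ![i, l] V (le2 hi hl) + ev s ![i, j] V (le2 hi hj) := by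
  have e := d1 _ s i j l
    (range_sub _ _ fun a => by
      fin_cases a
      · exact ⟨1, rfl⟩
      · exact ⟨2, rfl⟩)
    (range_sub _ _ fun a => by
      fin_cases a
      · exact ⟨0, rfl⟩
      · exact ⟨2, rfl⟩)
    (range_sub _ _ fun a => by
      fin_cases a
      · exact ⟨0, rfl⟩
      · exact ⟨1, rfl⟩)
  refine (congrArg (rs f (le3 hi hj hl) n) e).trans ?_
  refine (map_add (rs f (le3 hi hj hl) n) _ _).trans ?_
  refine (congrArg (· + _) (map_sub (rs f (le3 hi hj hl) n) _ _)).trans ?_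
  exact congrArg₂ (· + ·) (congrArg₂ (· - ·) (rs_rs _ _ n _) (rs_rs _ _ n _)) (rs_rs _ _ n _)

end ev

section eta

variable {A : Type u} [CommRing A] {Y : Scheme.{u}} (f : Y ⟶ Spec (CommRingCat.of A)) {ι : Type} (W : ι → Y.Opens)

/-- Compatible families of forms on a cover. -/
structure Eta (p : ℕ) where
  /-- the forms -/
  η : ∀ i, ↥(⋀[SA f (W i)]^p (Ω[SA f (W i)⁄A]))
  compat : ∀ (i j : ι) (V : Y.Opens) (hi : V ≤ W i) (hj : V ≤ W j), rs f hi p (η i) = rs f hj p (η j)

variable {f W}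

/-- The form on a smaller open set. -/
noncomputable def Eta.at {p : ℕ} (E : Eta f W p) (i : ι) {V : Y.Opens} (h : V ≤ W i) :
    ↥(⋀[SA f V]^p (Ω[SA f V⁄A])) := rs f h p (E.η i)

theorem Eta.rs_at {p : ℕ} (E : Eta f W p) (i : ι) {V V' : Y.Opens} (h : V ≤ W i) (h' : V' ≤ V) :
    rs f h' p (E.at i h) = E.at i (h'.trans h) := rs_rs h h' p _

theorem Eta.at_eq {p : ℕ} (E : Eta f W p) (i j : ι) {V : Y.Opens} (h : V ≤ W i) (h' : V ≤ W j) :
    E.at i h = E.at j h' := E.compat i j V h h'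

/-- The forms generate the exterior powers. -/
def Eta.Gen {p : ℕ} (E : Eta f W p) : Prop :=
  ∀ (i : ι) (V : Y.Opens) (h : V ≤ W i), IsAffineOpen V → Function.Bijective fun b : SA f V => b • E.at i h

end eta

end K694
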