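import Groth.Agent.Deform.K694.Wt
import Groth.Agent.Deform.K694.CxFlat
import Mathlib.RingTheory.Smooth.Basic

/-!
# Affine smooth deformations over a local Artinian algebra are trivial; consequence for de Rham complexes

`A` local Artinian augmented `k`-algebra, `B` flat over `A`, `C = B/m` formally smooth over `k`: `A ⊗ C ≃ B`.
If `A` is graded, the kernel of `Ω•_{B/k} → Ω•_{C/k}` is exact.
-/

set_option autoImplicit false

universe u

open exteriorPower IsLocalRing
open scoped TensorProduct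

namespace K694

section flat

variable {A : Type u} [CommRing A] [IsArtinianRing A] [IsLocalRing A] {M N : Type u} [AddCommGroup M] [Module A M]
  [AddCommGroup N] [Module A N] (e : M →ₗ[A] N)

theorem injective_of_flat [Module.Flat A N]
    (h : ∀ z, e z ∈ maximalIdeal A • (⊤ : Submodule A N) → z ∈ maximalIdeal A • (⊤ : Submodule A M)) :
    Function.Injective e := by
  have key : ∀ J : Ideal A, ∀ x, e x ∈ J • (⊤ : Submodule A N) → x ∈ J • (⊤ : Submodule A M) := by
    intro J
    refine Cx.ideal_induction (P := fun J => ∀ x, e x ∈ J • (⊤ : Submodule A N) → x ∈ J • (⊤ : Submodule A M)) ?_ ?_ J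
    · intro x _
      rw [Submodule.top_smul]
      trivial
    · intro J ε _ h1 h2 ih x hx
      have h3 := ih x (Submodule.smul_mono_left le_sup_left hx)
      rw [Submodule.sup_smul, Submodule.mem_sup] at h3
      obtain ⟨y, hy, b, hb, rfl⟩ := h3
      rw [Submodule.ideal_span_singleton_smul] at hb
      obtain ⟨z, -, rfl⟩ := hb
      change y + ε • z ∈ _
      have hx : e (y + ε • z) ∈ J • (⊤ : Submodule A N) := hx
      refine add_mem hy ?_
      have h4 : e y ∈ J • (⊤ : Submodule A N) := Submodule.smul_top_le_comap_smul_top J e hy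
      rw [map_add, map_smul] at hx
      have h5 : ε • e z ∈ J • (⊤ : Submodule A N) := (Submodule.add_mem_iff_right _ h4).1 hx
      have h6 := h z (Cx.mem_of_flat J (maximalIdeal A) ε h1 h2 (e z) h5)
      refine Submodule.smul_induction_on (p := fun z => ε • z ∈ J • (⊤ : Submodule A M)) h6 ?_ ?_
      · intro a ha w _
        rw [smul_smul, mul_comm]
        exact Submodule.smul_mem_smul (h1 a ha) trivial
      · intro a b ha hb
        rw [smul_add]
        exact add_mem ha hb
  rw [injective_iff_map_eq_zero]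
  intro x hx
  have h1 := key ⊥ x (by rw [hx]; exact zero_mem _)
  rwa [Submodule.bot_smul, Submodule.mem_bot] at h1

theorem surjective_of_nilp (h : ∀ n, ∃ x, n - e x ∈ maximalIdeal A • (⊤ : Submodule A N)) :
    Function.Surjective e := by
  obtain ⟨r, hr⟩ := IsArtinianRing.isNilpotent_jacobson_bot (R := A)
  rw [IsLocalRing.jacobson_eq_maximalIdeal ⊥ bot_ne_top] at hr
  have key : ∀ i : ℕ, ∀ n, ∃ x, n - e x ∈ (maximalIdeal A ^ i) • (⊤ : Submodule A N) := by
    intro i
    induction i with
    | zero =>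
      intro n
      refine ⟨0, ?_⟩
      rw [pow_zero, Ideal.one_eq_top, Submodule.top_smul]
      trivial
    | succ i ih =>
      have h1 : ∀ n ∈ (maximalIdeal A ^ i) • (⊤ : Submodule A N),
          ∃ x, n - e x ∈ (maximalIdeal A ^ (i + 1)) • (⊤ : Submodule A N) := by
        intro n hn
        refine Submodule.smul_induction_on (p := fun n => ∃ x, n - e x ∈ (maximalIdeal A ^ (i + 1)) •
          (⊤ : Submodule A N)) hn ?_ ?_
        · intro a ha n _
          obtain ⟨x, hx⟩ := h n
          refine ⟨a • x, ?_⟩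
          rw [map_smul, ← smul_sub, pow_succ, mul_smul]
          exact Submodule.smul_mem_smul ha hx
        · rintro a b ⟨x, hx⟩ ⟨y, hy⟩
          refine ⟨x + y, ?_⟩
          rw [map_add, add_sub_add_comm]
          exact add_mem hx hy
      intro n
      obtain ⟨x, hx⟩ := ih n
      obtain ⟨y, hy⟩ := h1 _ hx
      exact ⟨x + y, by rwa [map_add, ← sub_sub]⟩
  intro n
  obtain ⟨x, hx⟩ := key r n
  rw [hr, Ideal.zero_eq_bot, Submodule.bot_smul, Submodule.mem_bot, sub_eq_zero] at hx
  exact ⟨x, hx.symm⟩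

end flat

namespace Wt

variable {k A B C : Type u} [CommRing k] [CommRing A] [Algebra k A] [IsArtinianRing A] [IsLocalRing A]
  [CommRing B] [Algebra A B] [Algebra k B] [IsScalarTower k A B] [CommRing C] [Algebra k C]
  (res : A →ₐ[k] k) (hres : ∀ a, res a = 0 ↔ a ∈ maximalIdeal A) (ρ : B →ₐ[k] C)
  (hρs : Function.Surjective ρ) (hρ : ∀ b, ρ b = 0 ↔ b ∈ (maximalIdeal A).map (algebraMap A B))

include hres hρs hρ

/-- Trivialisation of an affine smooth deformation. -/
theorem exists_triv [Module.Flat A B] [Algebra.FormallySmooth k C] :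
    ∃ e : (A ⊗[k] C) ≃ₐ[k] B, (∀ z, ρ (e z) = rho C res z) := by
  have hρA : ∀ a, ρ (algebraMap A B a) = algebraMap k C (res a) := by
    intro a
    have h1 : a - algebraMap k A (res a) ∈ maximalIdeal A := by
      rw [← hres, map_sub, AlgHom.commutes]
      exact sub_self _
    have h2 : ρ (algebraMap A B (a - algebraMap k A (res a))) = 0 := (hρ _).2 (Ideal.mem_map_of_mem _ h1)
    rw [map_sub, map_sub, sub_eq_zero] at h2
    rw [h2, ← IsScalarTower.algebraMap_apply, AlgHom.commutes]
  have hnil : IsNilpotent (RingHom.ker (ρ : B →+* C)) := by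
    obtain ⟨r, hr⟩ := IsArtinianRing.isNilpotent_jacobson_bot (R := A)
    rw [IsLocalRing.jacobson_eq_maximalIdeal ⊥ bot_ne_top] at hr
    have : RingHom.ker (ρ : B →+* C) = (maximalIdeal A).map (algebraMap A B) := by
      ext b
      exact hρ b
    refine ⟨r, ?_⟩
    rw [this, ← Ideal.map_pow, hr]
    exact Ideal.map_bot
  let σ : C →ₐ[k] B := Algebra.FormallySmooth.liftOfSurjective (AlgHom.id k C) ρ hρs hnil
  have hσ : ∀ c, ρ (σ c) = c := fun c => Algebra.FormallySmooth.liftOfSurjective_apply _ _ _ _ c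
  let e : A ⊗[k] C →ₐ[A] B := Algebra.TensorProduct.lift (Algebra.ofId A B) σ fun _ _ => Commute.all _ _
  have he : ∀ (a : A) (c : C), e (a ⊗ₜ c) = algebraMap A B a * σ c := fun a c =>
    Algebra.TensorProduct.lift_tmul _ _ _ _ _
  have hρe : ∀ z, ρ (e z) = rho C res z := by
    intro z
    induction z with
    | zero => rw [map_zero, map_zero, map_zero]
    | add x y hx hy => rw [map_add, map_add, map_add, hx, hy]
    | tmul a c => rw [he, map_mul, hρA, hσ, rho_tmul, Algebra.smul_def]
  have hmB : ∀ b : B, b ∈ maximalIdeal A • (⊤ : Submodule A B) ↔ ρ b = 0 := by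
    intro b
    rw [hρ, Ideal.smul_top_eq_map]
    rfl
  have hker : ∀ z : A ⊗[k] C, rho C res z = 0 → z ∈ maximalIdeal A • (⊤ : Submodule A (A ⊗[k] C)) := by
    -- `z - 1 ⊗ rho z ∈ m`
    have h1 : ∀ z : A ⊗[k] C, z - (1 : A) ⊗ₜ[k] (rho C res z) ∈ maximalIdeal A • (⊤ : Submodule A (A ⊗[k] C)) := by
      intro z
      induction z with
      | zero => rw [map_zero, TensorProduct.tmul_zero, sub_zero]; exact zero_mem _
      | add x y hx hy => rw [map_add, TensorProduct.tmul_add, add_sub_add_comm]; exact add_mem hx hy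
      | tmul a c =>
        rw [rho_tmul, ← TensorProduct.smul_tmul, ← TensorProduct.sub_tmul]
        have h2 : a - res a • (1 : A) ∈ maximalIdeal A := by
          rw [← hres, map_sub, map_smul, map_one, smul_eq_mul, mul_one, sub_self]
        have h3 : (a - res a • (1 : A)) ⊗ₜ[k] c = (a - res a • (1 : A)) • ((1 : A) ⊗ₜ[k] c) := by
          rw [TensorProduct.smul_tmul', smul_eq_mul, mul_one]
        rw [h3]
        exact Submodule.smul_mem_smul h2 trivial
    intro z hz
    have := h1 z
    rwa [hz, TensorProduct.tmul_zero, sub_zero] at this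
  have hinj : Function.Injective e := injective_of_flat e.toLinearMap fun z hz => by
    refine hker z ?_
    rw [← hρe]
    exact (hmB _).1 hz
  have hsur : Function.Surjective e := surjective_of_nilp e.toLinearMap fun n => ⟨(1 : A) ⊗ₜ[k] ρ n, by
    rw [hmB]
    have h2 : ρ (n - e ((1 : A) ⊗ₜ[k] ρ n)) = 0 := by
      rw [map_sub, hρe, rho_tmul, map_one, one_smul, sub_self]
    exact h2⟩
  exact ⟨(AlgEquiv.ofBijective e ⟨hinj, hsur⟩).restrictScalars k, hρe⟩

variable [Algebra ℚ k] {res} {E : Derivation k A A} (hG : Gr res E)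

include hG

theorem eq_zero_B [Module.Flat A B] [Algebra.FormallySmooth k C] (y : ↥(⋀[B]^0 (Ω[B⁄k])))
    (hy : dR k B 0 y = 0) (hy' : (sqA ρ).dm 0 y = 0) : y = 0 := by
  obtain ⟨e, he⟩ := exists_triv res hres ρ hρs hρ
  have h1 : (sqA (e.symm : B →ₐ[k] A ⊗[k] C)).dm 0 y = 0 := by
    refine eq_zero (res := res) hG _ ?_ ?_
    · rw [← Sq.dm_dR, hy, map_zero]
    · rw [Sq.dm_comp _ _ (sqA ρ) (fun b => by
        change rho C res (e.symm b) = ρ b
        rw [← he, AlgEquiv.apply_symm_apply]), hy']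
  have h2 := congrArg ((sqA (e : A ⊗[k] C →ₐ[k] B)).dm 0) h1
  rw [map_zero, Sq.dm_comp _ _ (sqA (AlgHom.id k B)) (fun b => e.apply_symm_apply b),
    Sq.dm_id _ (fun _ => rfl)] at h2
  exact h2

theorem exists_eq_B [Module.Flat A B] [Algebra.FormallySmooth k C] (p : ℕ) (y : ↥(⋀[B]^(p + 1) (Ω[B⁄k])))
    (hy : dR k B (p + 1) y = 0) (hy' : (sqA ρ).dm (p + 1) y = 0) :
    ∃ z, (sqA ρ).dm p z = 0 ∧ dR k B p z = y := by
  obtain ⟨e, he⟩ := exists_triv res hres ρ hρs hρ
  obtain ⟨z, hz1, hz2⟩ := exists_eq (res := res) hG p ((sqA (e.symm : B →ₐ[k] A ⊗[k] C)).dm (p + 1) y)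
    (by rw [← Sq.dm_dR, hy, map_zero])
    (by
      rw [Sq.dm_comp _ _ (sqA ρ) (fun b => by
        change rho C res (e.symm b) = ρ b
        rw [← he, AlgEquiv.apply_symm_apply]), hy'])
  refine ⟨(sqA (e : A ⊗[k] C →ₐ[k] B)).dm p z, ?_, ?_⟩
  · rw [Sq.dm_comp _ _ (sqA (rho C res)) (fun z => he z), hz1]
  · rw [← Sq.dm_dR, hz2, Sq.dm_comp _ _ (sqA (AlgHom.id k B)) (fun b => e.apply_symm_apply b),
      Sq.dm_id _ (fun _ => rfl)]

end Wt

end K694
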