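import Groth.Agent.Deform.K694.Contr
import Groth.Agent.Deform.K694.WtB
import Mathlib.RingTheory.Flat.Stability

/-!
# Lifting generators of exterior powers from the closed fibre
-/

set_option autoImplicit false

universe u

open exteriorPower IsLocalRing

namespace K694

/-- The algebra `C` is the reduction modulo an ideal `K` of the `A`-algebra `B`. -/
structure Sq.IsRed {A B A' C : Type u} [CommRing A] [CommRing B] [CommRing A'] [CommRing C] [Algebra A B]
    [Algebra A' C] (s : Sq A B A' C) (K : Ideal A) : Prop where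
  hs : Function.Surjective s.h
  hk : ∀ a, s.h a = 0 ↔ a ∈ K
  gs : Function.Surjective s.g
  gk : ∀ b, s.g b = 0 ↔ b ∈ K.map (algebraMap A B)

namespace Sq.IsRed

variable {A B A' C : Type u} [CommRing A] [CommRing B] [CommRing A'] [CommRing C] [Algebra A B]
    [Algebra A' C] {s : Sq A B A' C} {K : Ideal A} (h : s.IsRed K)

include h

theorem ker_h : RingHom.ker s.h = K := by
  ext a
  exact h.hk a

theorem ker_g : RingHom.ker s.g = K.map (algebraMap A B) := by
  ext b
  exact h.gk b

theorem mem_of_dm (p : ℕ) (x : ↥(⋀[B]^p (Ω[B⁄A]))) (hx : s.dm p x = 0) :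
    x ∈ K • (⊤ : Submodule A ↥(⋀[B]^p (Ω[B⁄A]))) := by
  have h1 := s.dm_ker h.hs h.gs (fun b hb => by
    rw [h.ker_h]
    exact (h.gk b).1 hb) p x hx
  rw [h.ker_g] at h1
  rw [← Submodule.restrictScalars_mem A] at h1
  rwa [Ideal.smul_restrictScalars, Submodule.restrictScalars_top] at h1

theorem dm_of_mem (p : ℕ) (x : ↥(⋀[B]^p (Ω[B⁄A]))) (hx : x ∈ K • (⊤ : Submodule A ↥(⋀[B]^p (Ω[B⁄A])))) :
    s.dm p x = 0 := by
  refine Submodule.smul_induction_on (p := fun x => s.dm p x = 0) hx ?_ ?_
  · intro a ha y _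
    rw [s.dm_smul_base, (h.hk a).2 ha, zero_smul]
  · intro y z hy hz
    rw [map_add, hy, hz, add_zero]

theorem mem_smul_top {b : B} (hb : s.g b = 0) : b ∈ K • (⊤ : Submodule A B) := by
  rw [Ideal.smul_top_eq_map]
  exact (h.gk b).1 hb

end Sq.IsRed

/-- Exterior powers of projective modules are projective. -/
theorem projective_pow (B M : Type u) [CommRing B] [AddCommGroup M] [Module B M] [Module.Projective B M] (p : ℕ) :
    Module.Projective B ↥(⋀[B]^p M) := by
  obtain ⟨t, ht⟩ := Module.projective_def'.1 (inferInstance : Module.Projective B M)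
  refine Module.Projective.of_split (P := ↥(⋀[B]^p M)) (M := ↥(⋀[B]^p (M →₀ B))) (exteriorPower.map p t)
    (exteriorPower.map p (Finsupp.linearCombination B id)) ?_
  rw [← exteriorPower.map_comp, ht, exteriorPower.map_id]

theorem flat_pow (A B : Type u) [CommRing A] [CommRing B] [Algebra A B] [Module.Flat A B]
    [Algebra.FormallySmooth A B] (p : ℕ) : Module.Flat A ↥(⋀[B]^p (Ω[B⁄A])) := by
  have h1 : Module.Projective B (Ω[B⁄A]) := inferInstance
  have h2 := projective_pow B (Ω[B⁄A]) p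
  exact Module.Flat.trans A B _

variable {A B k C : Type u} [CommRing A] [IsArtinianRing A] [IsLocalRing A] [CommRing B] [CommRing k]
  [CommRing C] [Algebra A B] [Algebra k C] {s : Sq A B k C} (h : s.IsRed (maximalIdeal A)) {p : ℕ}

include h

/-- **Nakayama**: lifts of generators are generators. -/
theorem bijective_smul_of_red [Module.Flat A ↥(⋀[B]^p (Ω[B⁄A]))] {η : ↥(⋀[B]^p (Ω[B⁄A]))}
    {η₀ : ↥(⋀[C]^p (Ω[C⁄k]))} (hη : s.dm p η = η₀) (h₀ : Function.Bijective fun c : C => c • η₀) :
    Function.Bijective fun b : B => b • η := by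
  let L : B →ₗ[A] ↥(⋀[B]^p (Ω[B⁄A])) := (LinearMap.toSpanSingleton B _ η).restrictScalars A
  have hL : ∀ b, L b = b • η := fun b => rfl
  refine ⟨injective_of_flat L fun b hb => ?_, surjective_of_nilp L fun n => ?_⟩
  · have h1 := h.dm_of_mem p _ hb
    rw [hL, s.dm_smul, hη] at h1
    exact h.mem_smul_top (h₀.1 (by
      change s.g b • η₀ = (0 : C) • η₀
      rw [h1, zero_smul]))
  · obtain ⟨c, hc⟩ := h₀.2 (s.dm p n)
    obtain ⟨b, rfl⟩ := h.gs c
    refine ⟨b, h.mem_of_dm p _ ?_⟩
    rw [map_sub, hL, s.dm_smul, hη, sub_eq_zero]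
    exact hc.symm

end K694
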