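import Groth.Agent.Deform.K694.Gen
import Groth.Agent.Deform.K694.Cov
import Groth.Agent.Deform.K681.AffDef
import Groth.Agent.Sga7.H331.Sec
import Mathlib.AlgebraicGeometry.Morphisms.Smooth
import Mathlib.RingTheory.Etale.Kaehler
import Mathlib.RingTheory.Smooth.StandardSmoothCotangent

/-!
# Sections of smooth morphisms over affine bases, base change, covers
-/

set_option autoImplicit false

universe u

open CategoryTheory CategoryTheory.Limits AlgebraicGeometry exteriorPower TopologicalSpace
open Groth.Agent.Lefpen.H721.OmegaSec Groth.Agent.Sga7.H331.Sec Groth.Agent.CurvesB.OmegaStalkDict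

namespace K694

section bc

variable {A A' : Type u} [CommRing A] [CommRing A'] (φ : A →+* A') {Y Y' : Scheme.{u}}
  (f : Y ⟶ Spec (CommRingCat.of A)) (f' : Y' ⟶ Spec (CommRingCat.of A')) (g : Y' ⟶ Y)
  (w : g ≫ f = f' ≫ Spec.map (CommRingCat.ofHom φ))

/-- The square of rings attached to a commutative square of schemes. -/
@[reducible] noncomputable def sqG {V : Y.Opens} {V' : Y'.Opens} (h : V' ≤ g ⁻¹ᵁ V) : Sq A (SA f V) A' (SA f' V') where
  h := φ
  g := (g.appLE V V' h).hom
  comm a := by
    have h1 := co_appLE (A := CommRingCat.of A) (A' := CommRingCat.of A') f f' (φ := CommRingCat.ofHom φ) w h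
    exact congr($(h1).hom a)

theorem sqG_g {V : Y.Opens} {V' : Y'.Opens} (h : V' ≤ g ⁻¹ᵁ V) (x : SA f V) :
    (sqG φ f f' g w h).g x = (g.appLE V V' h).hom x := rfl

variable {φ f f' g}

theorem isRed (H : IsPullback g f' f (Spec.map (CommRingCat.ofHom φ))) (hφ : Function.Surjective φ) {V : Y.Opens}
    (hV : IsAffineOpen V) {V' : Y'.Opens} (hVV : V' = g ⁻¹ᵁ V) :
    (sqG φ f f' g H.w hVV.le).IsRed (RingHom.ker φ) := by
  have h1 := isPushout_co (A := CommRingCat.of A) (A' := CommRingCat.of A') f f' (φ := CommRingCat.ofHom φ) H hV hVV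
  have h2 := K681.AffDef.surjective_and_ker_of_isPushout φ (co (A := CommRingCat.of A) f V).hom
    (co (A := CommRingCat.of A') f' V').hom (g.appLE V V' hVV.le).hom hφ h1
  refine ⟨hφ, fun a => Iff.rfl, h2.1, fun b => ?_⟩
  have h3 : b ∈ RingHom.ker (g.appLE V V' hVV.le).hom ↔ b ∈ (RingHom.ker φ).map (algebraMap A (SA f V)) := by
    rw [h2.2]
    rfl
  exact h3

theorem preimage_biInf (g : Y' ⟶ Y) {ι : Type} [Finite ι] (U : ι → Y.Opens) (I : Set ι) :
    g ⁻¹ᵁ (⨅ i ∈ I, U i) = ⨅ i ∈ I, g ⁻¹ᵁ U i := by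
  induction I, Set.toFinite I using Set.Finite.induction_on with
  | empty => simp
  | insert _ _ ih =>
    rw [iInf_insert, iInf_insert, ← ih]
    rfl

/-- The map of ring systems of a base change. -/
noncomputable def covMap (w : g ≫ f = f' ≫ Spec.map (CommRingCat.ofHom φ)) {ι : Type} [Finite ι]
    (U : ι → Y.Opens) : RS.Map φ (cov f U) (cov f' (fun i => g ⁻¹ᵁ U i)) where
  g I := (sqG φ f f' g w (preimage_biInf g U I).ge).g
  comm I := (sqG φ f f' g w (preimage_biInf g U I).ge).comm
  res {I J} hIJ x := by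
    change (Y.presheaf.map (homOfLE (biInf_mono hIJ)).op ≫ g.appLE _ _ _).hom x =
      (g.appLE _ _ _ ≫ Y'.presheaf.map (homOfLE (biInf_mono hIJ)).op).hom x
    rw [Scheme.Hom.map_appLE, Scheme.Hom.appLE_map]

theorem covMap_sq (w : g ≫ f = f' ≫ Spec.map (CommRingCat.ofHom φ)) {ι : Type} [Finite ι]
    (U : ι → Y.Opens) (I : Set ι) : (covMap w U).sq I = sqG φ f f' g w (preimage_biInf g U I).ge := rfl

theorem isRed_cov (H : IsPullback g f' f (Spec.map (CommRingCat.ofHom φ))) (hφ : Function.Surjective φ) {ι : Type}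
    [Finite ι] (U : ι → Y.Opens) (I : Set ι) (hI : IsAffineOpen (⨅ i ∈ I, U i)) :
    ((covMap H.w U).sq I).IsRed (RingHom.ker φ) :=
  isRed H hφ hI (preimage_biInf g U I).symm

end bc

section smooth

variable {A : Type u} [CommRing A] {Y : Scheme.{u}} (f : Y ⟶ Spec (CommRingCat.of A))

theorem algebraMap_eq_co (V : Y.Opens) : algebraMap A (SA f V) = (co (A := CommRingCat.of A) f V).hom := rfl

theorem smooth_SA [Smooth f] {V : Y.Opens} (hV : IsAffineOpen V) : Algebra.Smooth A (SA f V) := by
  have h1 : (f.appLE ⊤ V le_top).hom.Smooth := f.smooth_appLE (isAffineOpen_top _) hV le_top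
  have h2 : (algebraMap A (SA f V)).Smooth := by
    rw [algebraMap_eq_co, co, CommRingCat.hom_comp]
    let e := (Scheme.ΓSpecIso (CommRingCat.of A)).symm.commRingCatIsoToRingEquiv
    exact RingHom.Smooth.respectsIso.2 _ e h1
  exact (RingHom.smooth_algebraMap).1 h2

theorem flat_SA [Flat f] {V : Y.Opens} (hV : IsAffineOpen V) : Module.Flat A (SA f V) := by
  have h1 : (f.appLE ⊤ V le_top).hom.Flat := f.flat_appLE (isAffineOpen_top _) hV le_top
  have h2 : (algebraMap A (SA f V)).Flat := by
    rw [algebraMap_eq_co, co, CommRingCat.hom_comp]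
    let e := (Scheme.ΓSpecIso (CommRingCat.of A)).symm.commRingCatIsoToRingEquiv
    exact RingHom.Flat.respectsIso.2 _ e h1
  exact (RingHom.flat_algebraMap_iff).1 h2

/-- Restriction between affine opens is étale. -/
theorem etale_res {V V' : Y.Opens} (hV : IsAffineOpen V) (hV' : IsAffineOpen V') (h : V' ≤ V) :
    (resA f h : SA f V →+* SA f V').Etale := by
  have h1 := HasRingHomProperty.appLE @Etale (𝟙 Y) inferInstance ⟨V, hV⟩ ⟨V', hV'⟩ h
  have h2 : (𝟙 Y : Y ⟶ Y).appLE V V' h = Y.presheaf.map (homOfLE h).op := by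
    rw [Scheme.Hom.appLE, Scheme.Hom.id_app]
    exact Category.id_comp _
  have h3 : ((𝟙 Y : Y ⟶ Y).appLE V V' h).hom.Etale := h1
  rw [h2] at h3
  exact h3

theorem isBaseChange_res {V V' : Y.Opens} (hV : IsAffineOpen V) (hV' : IsAffineOpen V') (h : V' ≤ V) :
    letI : Algebra (SA f V) (SA f V') := (resA f h).toRingHom.toAlgebra
    haveI : IsScalarTower A (SA f V) (SA f V') := IsScalarTower.of_algebraMap_eq fun r => ((resA f h).commutes r).symm
    IsBaseChange (SA f V') (KaehlerDifferential.map A A (SA f V) (SA f V')) := by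
  let : Algebra (SA f V) (SA f V') := (resA f h).toRingHom.toAlgebra
  have : IsScalarTower A (SA f V) (SA f V') := IsScalarTower.of_algebraMap_eq fun r => ((resA f h).commutes r).symm
  have h1 : Algebra.Etale (SA f V) (SA f V') := (RingHom.etale_algebraMap).1 (etale_res f hV hV' h)
  exact KaehlerDifferential.isBaseChange_of_formallyEtale A (SA f V) (SA f V')

theorem om_eq_map {V V' : Y.Opens} (h : V' ≤ V) (m : Ω[SA f V⁄A]) :
    letI : Algebra (SA f V) (SA f V') := (resA f h).toRingHom.toAlgebra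
    haveI : IsScalarTower A (SA f V) (SA f V') := IsScalarTower.of_algebraMap_eq fun r => ((resA f h).commutes r).symm
    KaehlerDifferential.map A A (SA f V) (SA f V') m = (Wt.sqA (resA f h)).om m := by
  let : Algebra (SA f V) (SA f V') := (resA f h).toRingHom.toAlgebra
  have : IsScalarTower A (SA f V) (SA f V') := IsScalarTower.of_algebraMap_eq fun r => ((resA f h).commutes r).symm
  have hm : m ∈ Submodule.span (SA f V) (Set.range (KaehlerDifferential.D A (SA f V))) := by
    rw [K852.DR.kaehler_span]; trivial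
  induction hm using Submodule.span_induction with
  | mem m hm =>
    obtain ⟨a, rfl⟩ := hm
    rw [Sq.om_D]
    exact KaehlerDifferential.map_D A A (SA f V) (SA f V') a
  | zero => rw [map_zero, map_zero]
  | add x y _ _ hx hy => rw [map_add, map_add, hx, hy]
  | smul a x _ hx =>
    rw [(KaehlerDifferential.map A A (SA f V) (SA f V')).map_smul, (Wt.sqA (resA f h)).om.map_smulₛₗ, hx,
      ← algebraMap_smul (SA f V') a]
    rfl

/-- Linear forms on differentials extend to smaller affine opens. -/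
theorem exists_extend {V V' : Y.Opens} (hV : IsAffineOpen V) (hV' : IsAffineOpen V') (h : V' ≤ V)
    (φ : Module.Dual (SA f V) (Ω[SA f V⁄A])) :
    ∃ φ' : Module.Dual (SA f V') (Ω[SA f V'⁄A]), ∀ m, φ' ((Wt.sqA (resA f h)).om m) = resA f h (φ m) := by
  let : Algebra (SA f V) (SA f V') := (resA f h).toRingHom.toAlgebra
  have : IsScalarTower A (SA f V) (SA f V') := IsScalarTower.of_algebraMap_eq fun r => ((resA f h).commutes r).symm
  have hbc : IsBaseChange (SA f V') (KaehlerDifferential.map A A (SA f V) (SA f V')) := isBaseChange_res f hV hV' h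
  refine ⟨hbc.lift ((Algebra.linearMap (SA f V) (SA f V')) ∘ₗ φ), fun m => ?_⟩
  have h1 := hbc.lift_eq ((Algebra.linearMap (SA f V) (SA f V')) ∘ₗ φ) m
  rw [← om_eq_map f h m]
  exact h1

/-- Bases of differentials restrict to smaller affine opens. -/
theorem exists_basis_res {V V' : Y.Opens} (hV : IsAffineOpen V) (hV' : IsAffineOpen V') (h : V' ≤ V) {r : ℕ}
    (e : Module.Basis (Fin r) (SA f V) (Ω[SA f V⁄A])) : Nonempty (Module.Basis (Fin r) (SA f V') (Ω[SA f V'⁄A])) := by
  let : Algebra (SA f V) (SA f V') := (resA f h).toRingHom.toAlgebra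
  have : IsScalarTower A (SA f V) (SA f V') := IsScalarTower.of_algebraMap_eq fun r => ((resA f h).commutes r).symm
  have hbc : IsBaseChange (SA f V') (KaehlerDifferential.map A A (SA f V) (SA f V')) := isBaseChange_res f hV hV' h
  exact ⟨(e.baseChange (SA f V')).map hbc.equiv⟩

/-- Over a base with one point, smooth schemes have affine charts with free differentials. -/
theorem exists_chart [Smooth f] [Subsingleton (PrimeSpectrum A)] (y : Y) :
    ∃ V : Y.Opens, IsAffineOpen V ∧ y ∈ V ∧ ∃ r : ℕ, Nonempty (Module.Basis (Fin r) (SA f V) (Ω[SA f V⁄A])) := by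
  obtain ⟨U, hU, V, hV, hy, e, h1⟩ := Smooth.exists_isStandardSmooth f y
  have hUt : U = ⊤ := by
    ext z
    have : z = f y := Subsingleton.elim (α := PrimeSpectrum A) _ _
    rw [this]
    exact ⟨fun _ => trivial, fun _ => e hy⟩
  subst hUt
  refine ⟨V, hV, hy, ?_⟩
  have h2 : (algebraMap A (SA f V)).IsStandardSmooth := by
    rw [algebraMap_eq_co, co, CommRingCat.hom_comp]
    let e := (Scheme.ΓSpecIso (CommRingCat.of A)).symm.commRingCatIsoToRingEquiv
    exact RingHom.isStandardSmooth_respectsIso.2 _ e h1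
  have h3 : Algebra.IsStandardSmooth A (SA f V) := (RingHom.isStandardSmooth_algebraMap).1 h2
  have h4 : Module.Free (SA f V) (Ω[SA f V⁄A]) := inferInstance
  have h5 : Module.Finite (SA f V) (Ω[SA f V⁄A]) := inferInstance
  rcases subsingleton_or_nontrivial (SA f V) with h6 | h6
  · have h7 : Subsingleton (Ω[SA f V⁄A]) := Module.subsingleton (SA f V) _
    exact ⟨0, ⟨Module.Basis.empty _⟩⟩
  · exact ⟨_, ⟨Module.finBasis (SA f V) (Ω[SA f V⁄A])⟩⟩

end smooth

end K694
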