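import Groth.Agent.ArtFun.K724.Basic
import Mathlib.RingTheory.MvPolynomial.Basic
import Mathlib.RingTheory.MvPolynomial.Ideal
import Mathlib.Algebra.MvPolynomial.PDeriv
import Mathlib.RingTheory.Polynomial.Basic

/-!
# The truncated polynomial rings `k[x_1, …, x_r]/(x_1, …, x_r)^(N+1)` as objects of `Art k k`
-/

set_option autoImplicit false

universe u v

open CategoryTheory ArtFun ArtFun.Art MvPolynomial

namespace K694.Pow

variable (k : Type u) [Field k]

/-- The ideal `(x_1, …, x_r)`. -/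
noncomputable def m (r : ℕ) : Ideal (MvPolynomial (Fin r) k) := Ideal.span (Set.range X)

/-- `k[x_1, …, x_r]/(x_1, …, x_r)^(N+1)` -/
abbrev Q (r N : ℕ) : Type u := MvPolynomial (Fin r) k ⧸ (m k r) ^ (N + 1)

theorem m_le (r : ℕ) : m k r ≤ RingHom.ker (constantCoeff (σ := Fin r) (R := k)) := by
  rw [m, Ideal.span_le]
  rintro _ ⟨i, rfl⟩
  exact constantCoeff_X k i

instance (r N : ℕ) : IsNoetherianRing (Q k r N) :=
  isNoetherianRing_of_surjective _ _ (Ideal.Quotient.mk ((m k r) ^ (N + 1))) Ideal.Quotient.mk_surjective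

/-- the augmentation -/
noncomputable def aug (r N : ℕ) : Q k r N →ₐ[k] k :=
  Ideal.Quotient.liftₐ _ (aeval (fun _ : Fin r => (0 : k))) fun a ha => by
    have h1 : a ∈ m k r := Ideal.pow_le_self (Nat.succ_ne_zero N) ha
    rw [aeval_zero']
    have := m_le k r h1
    rw [RingHom.mem_ker] at this
    rw [this, map_zero]

theorem aug_mk (r N : ℕ) (a : MvPolynomial (Fin r) k) :
    aug k r N (Ideal.Quotient.mk _ a) = constantCoeff a := by
  change aeval (fun _ : Fin r => (0 : k)) a = _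
  rw [aeval_zero']
  rfl

theorem mem_m_iff (r : ℕ) (a : MvPolynomial (Fin r) k) : a ∈ m k r ↔ constantCoeff a = 0 := by
  refine ⟨fun h => m_le k r h, fun h => ?_⟩
  rw [m, ← Set.image_univ, MvPolynomial.mem_ideal_span_X_image]
  intro α hα
  by_contra hc
  push Not at hc
  have h1 : α = 0 := by
    ext i
    exact hc i (Set.mem_univ i)
  rw [h1, mem_support_iff] at hα
  exact hα h

/-- `k[x_1, …, x_r]/(x_1, …, x_r)^(N+1)` as an object of `Art k k` -/
noncomputable def obj (r N : ℕ) : Art k k :=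
  K724.Basic.mkObj (Q k r N) (aug k r N) (fun c => ⟨algebraMap k _ c, AlgHom.commutes _ c⟩) (by
    intro s hs
    obtain ⟨a, rfl⟩ := Ideal.Quotient.mk_surjective s
    rw [aug_mk, ← mem_m_iff] at hs
    refine ⟨N + 1, ?_⟩
    rw [← map_pow, Ideal.Quotient.eq_zero_iff_mem]
    exact Ideal.pow_mem_pow hs _)

/-- the projections -/
noncomputable def proj (r : ℕ) {M N : ℕ} (h : N ≤ M) : obj k r M ⟶ obj k r N :=
  ⟨Ideal.Quotient.factorₐ k (Ideal.pow_le_pow_right (Nat.succ_le_succ h)), by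
    apply AlgHom.ext
    intro s
    obtain ⟨a, rfl⟩ := Ideal.Quotient.mk_surjective s
    exact (aug_mk k r N a).trans (aug_mk k r M a).symm⟩

theorem proj_mk (r : ℕ) {M N : ℕ} (h : N ≤ M) (a : MvPolynomial (Fin r) k) :
    (proj k r h).toAlgHom (Ideal.Quotient.mk _ a : Q k r M) = (Ideal.Quotient.mk _ a : Q k r N) := rfl

end K694.Pow
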