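import Groth.Agent.Deform.K694.Deligne
import Groth.Agent.Deform.K694.WtB
import Mathlib.RingTheory.Flat.Stability

/-!
# Čech systems of rings and their de Rham systems; Deligne's freeness theorem over graded Artinian bases
-/

set_option autoImplicit false
set_option linter.unusedVariables false

universe u

open exteriorPower IsLocalRing

namespace K694

open Groth.Agent.Lefpen.H722.Sys

/-- Čech systems of algebras. -/
structure RS (R : Type u) [CommRing R] (ι : Type) where
  /-- the algebras -/
  B : Set ι → Type u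
  [cr : ∀ I, CommRing (B I)]
  [al : ∀ I, Algebra R (B I)]
  /-- restriction -/
  res : ∀ {I J : Set ι}, I ⊆ J → B I →ₐ[R] B J
  res_res : ∀ {I J K : Set ι} (h : I ⊆ J) (h' : J ⊆ K) (x : B I), res h' (res h x) = res (h.trans h') x

namespace RS

attribute [instance] RS.cr RS.al

variable {R : Type u} [CommRing R] {ι : Type} (S : RS R ι)

/-- The system of forms of degree `a`. -/
noncomputable def sys (a : ℕ) : Sys R ι where
  M I := ↥(⋀[S.B I]^a (Ω[S.B I⁄R]))
  res {I J} h :=
    { toFun := (Wt.sqA (S.res h)).dm a
      map_add' := map_add _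
      map_smul' := fun r x => (Wt.sqA (S.res h)).dm_smul_base a r x }
  res_res {I J K} h h' x := (Wt.sqA (S.res h)).dm_comp (Wt.sqA (S.res h')) (Wt.sqA (S.res (h.trans h')))
    (fun x => S.res_res h h' x) a x

theorem sys_res (a : ℕ) {I J : Set ι} (h : I ⊆ J) (x : ↥(⋀[S.B I]^a (Ω[S.B I⁄R]))) :
    (S.sys a).res h x = (Wt.sqA (S.res h)).dm a x := rfl

/-- The de Rham complex of systems. -/
noncomputable def dr : GS R ι where
  V := S.sys
  δ a :=
    { app := fun I => dR R (S.B I) a
      nat := fun {I J} h x => ((Wt.sqA (S.res h)).dm_dR a x).symm }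
  δδ a I x := dR_dR R (S.B I) a x

variable {R' : Type u} [CommRing R'] {S} {S' : RS R' ι}

/-- Maps of ring systems over a map of rings. -/
structure Map (h : R →+* R') (S : RS R ι) (S' : RS R' ι) where
  /-- components -/
  g : ∀ I, S.B I →+* S'.B I
  comm : ∀ I r, g I (algebraMap R (S.B I) r) = algebraMap R' (S'.B I) (h r)
  res : ∀ {I J : Set ι} (hIJ : I ⊆ J) x, g J (S.res hIJ x) = S'.res hIJ (g I x)

namespace Map

variable {h : R →+* R'} (φ : Map h S S')

/-- the square of a component -/
@[reducible] def sq (I : Set ι) : Sq R (S.B I) R' (S'.B I) where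
  h := h
  g := φ.g I
  comm := φ.comm I

/-- the induced map of de Rham systems -/
noncomputable def dr : GS.SHom h S.dr S'.dr where
  app a I := (φ.sq I).dm a
  smul a I r x := (φ.sq I).dm_smul_base a r x
  res a I J hIJ x := by
    let s : Sq R (S.B I) R' (S'.B J) := ⟨h, (φ.g J).comp (S.res hIJ : S.B I →+* S.B J), fun r => by
      rw [RingHom.comp_apply]
      have : (S.res hIJ : S.B I →+* S.B J) (algebraMap R (S.B I) r) = algebraMap R (S.B J) r :=
        (S.res hIJ).commutes r
      rw [this, φ.comm]⟩
    have h1 := (Wt.sqA (S.res hIJ)).dm_comp (φ.sq J) s (fun x => rfl) a x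
    have h2 := (φ.sq I).dm_comp (Wt.sqA (S'.res hIJ)) s (fun x => (φ.res hIJ x).symm) a x
    exact h1.trans h2.symm
  δ a I x := (φ.sq I).dm_dR a x

end Map

section abs

variable {k : Type u} [CommRing k] [Algebra k R]

/-- Restriction of scalars. -/
@[reducible] def restr (k : Type u) [CommRing k] [Algebra k R] (S : RS R ι) : RS k ι :=
  letI : ∀ I, Algebra k (S.B I) := fun I => ((algebraMap R (S.B I)).comp (algebraMap k R)).toAlgebra
  { B := S.B
    cr := S.cr
    al := fun I => ((algebraMap R (S.B I)).comp (algebraMap k R)).toAlgebra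
    res := fun {I J} h =>
      { (S.res h : S.B I →+* S.B J) with
        commutes' := fun r => (S.res h).commutes (algebraMap k R r) }
    res_res := fun h h' x => S.res_res h h' x }

/-- from absolute to relative forms -/
def restrMap (k : Type u) [CommRing k] [Algebra k R] (S : RS R ι) : Map (algebraMap k R) (S.restr k) S where
  g I := RingHom.id (S.B I)
  comm _ _ := rfl
  res _ _ := rfl

end abs

end RS

/-- **Deligne's freeness theorem over a graded Artinian base**, ring-level form. -/
theorem surjective_of_graded {k A : Type u} [Field k] [CharZero k] [CommRing A] [Algebra k A] [IsArtinianRing A]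
    [IsLocalRing A] (res : A →ₐ[k] k) (E : Derivation k A A) (hG : Gr res E) {ι : Type} [Finite ι] {S : RS A ι}
    {S' : RS k ι} (φ : RS.Map (res : A →+* k) S S')
    (hflat : ∀ I : Set ι, I.Nonempty → Module.Flat A (S.B I))
    (hflatF : ∀ a (I : Set ι), I.Nonempty → Module.Flat A ↥(⋀[S.B I]^a (Ω[S.B I⁄A])))
    (hsm : ∀ I : Set ι, I.Nonempty → Algebra.FormallySmooth k (S'.B I))
    (hs : ∀ I : Set ι, I.Nonempty → Function.Surjective (φ.g I))
    (hk : ∀ I : Set ι, I.Nonempty → ∀ b, φ.g I b = 0 ↔ b ∈ (maximalIdeal A).map (algebraMap A (S.B I)))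
    (hfin : ∀ n, Module.length k (S'.dr.tot.H n) ≠ ⊤)
    (hdeg : ∀ n, ∑ a ∈ Finset.range (n + 1), Module.length k ((cech (S'.sys a)).H (n - a)) ≤
      Module.length k (S'.dr.tot.H n))
    (a b : ℕ) (J : Ideal A) : Function.Surjective (((cech (S.sys a)).toQuo J).H b) := by
  have hres : ∀ a, res a = 0 ↔ a ∈ maximalIdeal A := by
    intro a
    have hsur : Function.Surjective (res : A →+* k) := fun c => ⟨algebraMap k A c, AlgHom.commutes res c⟩
    have : (RingHom.ker (res : A →+* k)).IsMaximal := RingHom.ker_isMaximal_of_surjective _ hsur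
    rw [← IsLocalRing.eq_maximalIdeal this]
    rfl
  have hker : RingHom.ker (res : A →+* k) = maximalIdeal A := by
    ext a
    exact hres a
  have hAs : Function.Surjective (res : A →+* k) := fun c => ⟨algebraMap k A c, AlgHom.commutes res c⟩
  -- the map from absolute forms to forms on the closed fibre
  let ψ : RS.Map (RingHom.id k) (S.restr k) S' :=
    { g := φ.g
      comm := fun I r => by
        change φ.g I (algebraMap A (S.B I) (algebraMap k A r)) = _
        rw [φ.comm]
        congr 1
        exact AlgHom.commutes res r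
      res := fun h x => φ.res h x }
  refine GS.surjective_of_degenerate (S := S.dr) (S' := S'.dr) φ.dr hAs (fun a => hres a) hflatF
    (fun a I hI => (φ.sq I).dm_surjective (hs I hI) a) ?_ ?_ hfin hdeg a b J
  · intro a I hI x hx
    have h1 := (φ.sq I).dm_ker hAs (hs I hI) (fun b hb => by
      rw [hker]
      exact (hk I hI b).1 hb) a x hx
    have h2 : RingHom.ker (φ.sq I).g = (maximalIdeal A).map (algebraMap A (S.B I)) := by
      ext b
      exact hk I hI b
    rw [h2] at h1
    rw [← Submodule.restrictScalars_mem A] at h1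
    rwa [Ideal.smul_restrictScalars, Submodule.restrictScalars_top] at h1
  · intro n y hy
    have e1 : ∀ I : Set ι, I.Nonempty → ∀ x, ((S.restr k).dr.δ 0).app I x = 0 → ψ.dr.app 0 I x = 0 → x = 0 := by
      intro I hI x hx hx'
      have := hflat I hI
      have := hsm I hI
      let : Algebra k (S.B I) := ((algebraMap A (S.B I)).comp (algebraMap k A)).toAlgebra
      have : IsScalarTower k A (S.B I) := IsScalarTower.of_algebraMap_eq fun _ => rfl
      let ρ : S.B I →ₐ[k] S'.B I := { φ.g I with commutes' := fun r => ψ.comm I r }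
      exact Wt.eq_zero_B hres ρ (hs I hI) (hk I hI) hG x hx hx'
    have e2 : ∀ a (I : Set ι), I.Nonempty → ∀ x, ((S.restr k).dr.δ (a + 1)).app I x = 0 →
        ψ.dr.app (a + 1) I x = 0 → ∃ y, ψ.dr.app a I y = 0 ∧ ((S.restr k).dr.δ a).app I y = x := by
      intro a I hI x hx hx'
      have := hflat I hI
      have := hsm I hI
      let : Algebra k (S.B I) := ((algebraMap A (S.B I)).comp (algebraMap k A)).toAlgebra
      have : IsScalarTower k A (S.B I) := IsScalarTower.of_algebraMap_eq fun _ => rfl
      let ρ : S.B I →ₐ[k] S'.B I := { φ.g I with commutes' := fun r => ψ.comm I r }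
      exact Wt.exists_eq_B hres ρ (hs I hI) (hk I hI) hG a x hx hx'
    obtain ⟨x, hx, hxy⟩ := ψ.dr.exists_lift e1 e2 (fun a I hI => (ψ.sq I).dm_surjective (hs I hI) a) n y hy
    refine ⟨(S.restrMap k).dr.mapT n x, ?_, ?_⟩
    · rw [← GS.SHom.mapT_D, hx, map_zero]
    · rw [← hxy]
      funext p σ
      exact ((S.restrMap k).sq _).dm_comp (φ.sq _) (ψ.sq _) (fun _ => rfl) _ _

end K694
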