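import Groth.Agent.Deform.K694.CxFlat
import Groth.Agent.Lefpen.H722.Sys

/-!
# The total complex of a complex of Čech systems

`GS R ι`: a complex `V 0 → V 1 → …` of Čech systems.  `GS.tot`: the total complex, whose term of degree `n` is the
(finite, for `ι` finite) product of the cochains of Čech degree `b` and form degree `a`, `a + b = n`.
* `length_tot_le`: `length H^n(tot) ≤ ∑_{a ≤ n} length H^(n-a)(V a)`;
* `AHom`: additive maps, possibly over different rings; `AHom.exists_lift`: cocycles lift along a surjective map whose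
  kernel has exact rows.
-/

set_option autoImplicit false

universe u

namespace K694

open Groth.Agent.Lefpen.H722.Sys

/-- The Čech complex. -/
noncomputable def cech {R : Type u} [CommRing R] {ι : Type} (V : Sys R ι) : Cx.{u, u} R where
  X p := C V p
  d p := d V p
  dd p s := d_d V p s

/-- complexes of Čech systems -/
structure GS (R : Type u) [CommRing R] (ι : Type) where
  /-- the systems -/
  V : ℕ → Sys R ι
  /-- the internal differential -/
  δ : ∀ a, Hom (V a) (V (a + 1))
  δδ : ∀ a I x, (δ (a + 1)).app I ((δ a).app I x) = 0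

namespace GS

/-- pairs of degrees of sum `n` -/
abbrev Ix (n : ℕ) : Type := {p : ℕ × ℕ // p.1 + p.2 = n}

instance (n : ℕ) : Fintype (Ix n) :=
  Fintype.subtype (Finset.antidiagonal n) fun _ => Finset.mem_antidiagonal

section tot

variable {R : Type u} [CommRing R] {ι : Type} (S : GS R ι)

/-- total cochains -/
abbrev T (n : ℕ) : Type u := ∀ p : Ix n, C (S.V p.1.1) p.1.2

/-- the internal part of the differential -/
noncomputable def hor (n : ℕ) : S.T n →ₗ[R] S.T (n + 1) :=
  LinearMap.pi fun p => match p with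
    | ⟨(0, _), _⟩ => 0
    | ⟨(a + 1, b), h⟩ => mapC (S.δ a) b ∘ₗ LinearMap.proj (⟨(a, b), by dsimp only at h ⊢; omega⟩ : Ix n)

/-- the Čech part of the differential -/
noncomputable def ver (n : ℕ) : S.T n →ₗ[R] S.T (n + 1) :=
  LinearMap.pi fun p => match p with
    | ⟨(_, 0), _⟩ => 0
    | ⟨(a, b + 1), h⟩ => d (S.V a) b ∘ₗ LinearMap.proj (⟨(a, b), by dsimp only at h ⊢; omega⟩ : Ix n)

theorem hor_zero {n b : ℕ} (x : S.T n) (h : 0 + b = n + 1) : S.hor n x ⟨(0, b), h⟩ = 0 := rfl

theorem hor_succ {n a b : ℕ} (x : S.T n) (h : a + 1 + b = n + 1) (h' : a + b = n) :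
    S.hor n x ⟨(a + 1, b), h⟩ = mapC (S.δ a) b (x ⟨(a, b), h'⟩) := rfl

theorem ver_zero {n a : ℕ} (x : S.T n) (h : a + 0 = n + 1) : S.ver n x ⟨(a, 0), h⟩ = 0 := rfl

theorem ver_succ {n a b : ℕ} (x : S.T n) (h : a + (b + 1) = n + 1) (h' : a + b = n) :
    S.ver n x ⟨(a, b + 1), h⟩ = d (S.V a) b (x ⟨(a, b), h'⟩) := rfl

/-- the total differential -/
noncomputable def D (n : ℕ) : S.T n →ₗ[R] S.T (n + 1) :=
  S.hor n + LinearMap.pi fun p => ((-1 : R) ^ p.1.1) • (LinearMap.proj p ∘ₗ S.ver n)

theorem D_apply (n : ℕ) (x : S.T n) (p : Ix (n + 1)) :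
    S.D n x p = S.hor n x p + ((-1 : R) ^ p.1.1) • S.ver n x p := rfl

theorem mapC_mapC (a b : ℕ) (s : C (S.V a) b) : mapC (S.δ (a + 1)) b (mapC (S.δ a) b s) = 0 := by
  funext σ
  exact S.δδ a _ _

theorem D_D (n : ℕ) (x : S.T n) : S.D (n + 1) (S.D n x) = 0 := by
  funext ⟨⟨a, b⟩, h⟩
  rw [D_apply, Pi.zero_apply]
  rcases a with _ | a
  · rcases b with _ | b
    · exact absurd h (by dsimp only; omega)
    · rw [hor_zero, ver_succ _ _ _ (by dsimp only at h ⊢; omega), zero_add]
      rcases b with _ | b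
      · exact absurd h (by dsimp only; omega)
      · rw [D_apply, hor_zero, ver_succ _ _ _ (by dsimp only at h ⊢; omega), zero_add, map_smul, d_d,
          smul_zero, smul_zero]
  · rcases b with _ | b
    · rw [ver_zero, smul_zero, add_zero, hor_succ _ _ _ (by dsimp only at h ⊢; omega)]
      rcases a with _ | a
      · exact absurd h (by dsimp only; omega)
      · rw [D_apply, ver_zero, smul_zero, add_zero, hor_succ _ _ _ (by dsimp only at h ⊢; omega), mapC_mapC]
    · rw [hor_succ _ _ _ (by dsimp only at h ⊢; omega), ver_succ _ _ _ (by dsimp only at h ⊢; omega)]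
      have e1 : mapC (S.δ a) (b + 1) (S.D n x ⟨(a, b + 1), by dsimp only at h ⊢; omega⟩) =
          ((-1 : R) ^ a) • mapC (S.δ a) (b + 1) (S.ver n x ⟨(a, b + 1), by dsimp only at h ⊢; omega⟩) := by
        rw [D_apply, map_add, map_smul]
        convert zero_add _ using 2
        rcases a with _ | a
        · rw [hor_zero, map_zero]
        · rw [hor_succ _ _ _ (by dsimp only at h ⊢; omega), mapC_mapC]
      have e2 : d (S.V (a + 1)) b (S.D n x ⟨(a + 1, b), by dsimp only at h ⊢; omega⟩) =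
          d (S.V (a + 1)) b (S.hor n x ⟨(a + 1, b), by dsimp only at h ⊢; omega⟩) := by
        rw [D_apply, map_add, map_smul]
        convert add_zero _ using 2
        rcases b with _ | b
        · rw [ver_zero, map_zero, smul_zero]
        · rw [ver_succ _ _ _ (by dsimp only at h ⊢; omega), d_d, smul_zero]
      rw [e1, e2, hor_succ _ _ _ (by dsimp only at h ⊢; omega), ver_succ _ _ _ (by dsimp only at h ⊢; omega), mapC_d]
      change _ + ((-1 : R) ^ (a + 1)) • _ = _
      rw [pow_succ, mul_neg_one, neg_smul]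
      exact add_neg_cancel _

/-- the total complex -/
noncomputable def tot : Cx.{u, u} R where
  X := S.T
  d := S.D
  dd := S.D_D

end tot

section bound

/-- If `q x ∈ P` whenever `g x = 0`, the range of `q` has length at most `length P + length H`. -/
theorem length_range_le {R : Type u} [CommRing R] {F Q H : Type*} [AddCommGroup F] [Module R F] [AddCommGroup Q]
    [Module R Q] [AddCommGroup H] [Module R H] (q : F →ₗ[R] Q) (g : F →ₗ[R] H) (P : Submodule R Q)
    (h : ∀ x, g x = 0 → q x ∈ P) :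
    Module.length R (LinearMap.range q) ≤ Module.length R P + Module.length R H := by
  -- `range q → Q/P`
  let φ : LinearMap.range q →ₗ[R] Q ⧸ P := P.mkQ.domRestrict (LinearMap.range q)
  rw [Module.length_eq_add_of_exact (LinearMap.ker φ).subtype φ.rangeRestrict (Submodule.subtype_injective _)
    φ.surjective_rangeRestrict (by
      rw [LinearMap.exact_iff, LinearMap.ker_rangeRestrict, Submodule.range_subtype])]
  refine add_le_add ?_ ?_
  · have hk : ∀ x : LinearMap.ker φ, (x.1.1 : Q) ∈ P := fun x => by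
      have h1 := LinearMap.mem_ker.1 x.2
      change P.mkQ x.1.1 = 0 at h1
      rwa [Submodule.mkQ_apply, Submodule.Quotient.mk_eq_zero] at h1
    refine Module.length_le_of_injective
      (LinearMap.codRestrict P ((LinearMap.range q).subtype ∘ₗ (LinearMap.ker φ).subtype) hk) ?_
    intro x y hxy
    apply Subtype.ext
    apply Subtype.ext
    exact congrArg (fun z : P => (z : Q)) hxy
  · have hle : LinearMap.ker g ≤ LinearMap.ker (P.mkQ ∘ₗ q) := fun x hx => by
      rw [LinearMap.mem_ker, LinearMap.comp_apply, Submodule.mkQ_apply, Submodule.Quotient.mk_eq_zero]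
      exact h x hx
    let ψ : LinearMap.range g →ₗ[R] (Q ⧸ P) :=
      ((LinearMap.ker g).liftQ (P.mkQ ∘ₗ q) hle) ∘ₗ (g.quotKerEquivRange.symm : _ →ₗ[R] _)
    have hψ : ∀ x, P.mkQ (q x) = ψ (g.rangeRestrict x) := by
      intro x
      have h1 : g.quotKerEquivRange.symm (g.rangeRestrict x) = (LinearMap.ker g).mkQ x := by
        rw [LinearEquiv.symm_apply_eq]; rfl
      change _ = ((LinearMap.ker g).liftQ (P.mkQ ∘ₗ q) hle) (g.quotKerEquivRange.symm (g.rangeRestrict x))
      rw [h1]
      rfl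
    have hR : LinearMap.range φ = LinearMap.range ψ := by
      apply le_antisymm
      · rintro _ ⟨⟨_, x, rfl⟩, rfl⟩
        exact ⟨g.rangeRestrict x, (hψ x).symm⟩
      · rintro _ ⟨⟨_, x, rfl⟩, rfl⟩
        exact ⟨⟨q x, x, rfl⟩, hψ x⟩
    rw [hR]
    refine (Module.length_le_of_surjective ψ.rangeRestrict ψ.surjective_rangeRestrict).trans ?_
    exact Module.length_le_of_injective _ (Submodule.subtype_injective _)

variable {R : Type u} [CommRing R] {ι : Type} (S : GS R ι)

/-- cocycles whose components of form degree `< m` vanish -/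
noncomputable def Fz (n m : ℕ) : Submodule R (S.T n) :=
  LinearMap.ker (S.D n) ⊓ ⨅ p : {p : Ix n // p.1.1 < m}, LinearMap.ker (LinearMap.proj (R := R) (φ := fun p : Ix n => C (S.V p.1.1) p.1.2) p.1)

theorem mem_Fz {n m : ℕ} {x : S.T n} : x ∈ S.Fz n m ↔ S.D n x = 0 ∧ ∀ p : Ix n, p.1.1 < m → x p = 0 := by
  simp only [Fz, Submodule.mem_inf, Submodule.mem_iInf, LinearMap.mem_ker]
  constructor
  · rintro ⟨h1, h2⟩
    exact ⟨h1, fun p hp => h2 ⟨p, hp⟩⟩
  · rintro ⟨h1, h2⟩
    exact ⟨h1, fun p => h2 p.1 p.2⟩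

/-- the class map -/
noncomputable def qm (n m : ℕ) : S.Fz n m →ₗ[R] S.tot.H n :=
  (Submodule.mkQ _) ∘ₗ Submodule.inclusion (inf_le_left : S.Fz n m ≤ S.tot.Z n)

theorem qm_apply {n m : ℕ} (x : S.Fz n m) : S.qm n m x = Cx.cl (C := S.tot) x.1 (S.mem_Fz.1 x.2).1 := rfl

theorem lead_cocycle {n a b : ℕ} (h : a + b = n) (x : S.Fz n a) :
    (cech (S.V a)).d b (x.1 ⟨(a, b), h⟩) = 0 := by
  change d (S.V a) b (x.1 ⟨(a, b), h⟩) = 0
  have h1 := congrFun (S.mem_Fz.1 x.2).1 (⟨(a, b + 1), by dsimp only; omega⟩ : Ix (n + 1))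
  rw [D_apply, ver_succ _ _ _ h, Pi.zero_apply] at h1
  have h2 : S.hor n x.1 ⟨(a, b + 1), by dsimp only; omega⟩ = 0 := by
    rcases a with _ | a
    · rfl
    · rw [hor_succ _ _ _ (by omega), (S.mem_Fz.1 x.2).2 ⟨(a, b + 1), by dsimp only; omega⟩ (by dsimp only; omega),
        map_zero]
  rw [h2, zero_add] at h1
  have h3 := congrArg (((-1 : R) ^ a) • ·) h1
  dsimp only at h3
  rwa [smul_smul, ← mul_pow, neg_one_mul, neg_neg, one_pow, one_smul, smul_zero] at h3

/-- the leading component -/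
noncomputable def lead {n a b : ℕ} (h : a + b = n) : S.Fz n a →ₗ[R] (cech (S.V a)).H b :=
  (Submodule.mkQ _) ∘ₗ LinearMap.codRestrict ((cech (S.V a)).Z b)
    (LinearMap.proj (R := R) (φ := fun p : Ix n => C (S.V p.1.1) p.1.2) (⟨(a, b), h⟩ : Ix n) ∘ₗ (S.Fz n a).subtype)
    (fun x => S.lead_cocycle h x)

theorem lead_apply {n a b : ℕ} (h : a + b = n) (x : S.Fz n a) (h' : (cech (S.V a)).d b (x.1 ⟨(a, b), h⟩) = 0) :
    S.lead h x = Cx.cl (C := cech (S.V a)) (x.1 ⟨(a, b), h⟩) h' := rfl

/-- A total cochain concentrated in one bidegree. -/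
noncomputable def sing {n : ℕ} (p : Ix n) (z : C (S.V p.1.1) p.1.2) : S.T n := Function.update 0 p z

theorem sing_self {n : ℕ} (p : Ix n) (z : C (S.V p.1.1) p.1.2) : S.sing p z p = z := Function.update_self _ _ _

theorem sing_ne {n : ℕ} (p q : Ix n) (z : C (S.V p.1.1) p.1.2) (h : q ≠ p) : S.sing p z q = 0 :=
  Function.update_of_ne h _ _

theorem qm_mem_of_lead {n a b : ℕ} (h : a + b = n) (x : S.Fz n a) (hx : S.lead h x = 0) :
    S.qm n a x ∈ LinearMap.range (S.qm n (a + 1)) := by
  obtain ⟨hx1, hx2⟩ := S.mem_Fz.1 x.2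
  have h0 := S.lead_cocycle h x
  rw [lead_apply _ _ _ h0, Cx.cl_eq_zero] at hx
  -- find a total cochain `w` with `(D w) (a, b) = x (a, b)` and `(D w) (a', _) = 0` for `a' < a`
  obtain ⟨w, hw, hw1, hw2⟩ : ∃ w : S.T n, S.D n w = 0 ∧ (∀ p : Ix n, p.1.1 < a → w p = 0) ∧
      w ⟨(a, b), h⟩ = x.1 ⟨(a, b), h⟩ ∧ w ∈ S.tot.B n := by
    rcases b with _ | b
    · refine ⟨0, map_zero _, fun _ _ => rfl, ?_, zero_mem _⟩
      exact (show x.1 ⟨(a, 0), h⟩ = 0 from hx).symm
    · obtain ⟨t, ht⟩ : ∃ t : C (S.V a) b, d (S.V a) b t = x.1 ⟨(a, b + 1), h⟩ := hx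
      obtain ⟨n, rfl⟩ : ∃ n', n = n' + 1 := ⟨n - 1, by omega⟩
      let p0 : Ix n := ⟨(a, b), by dsimp only; omega⟩
      let y : S.T n := S.sing p0 (((-1 : R) ^ a) • t)
      refine ⟨S.D n y, S.D_D n y, ?_, ?_, ⟨y, rfl⟩⟩
      · rintro ⟨⟨a', b'⟩, h'⟩ ha
        dsimp only at ha h'
        rw [D_apply]
        have e1 : S.hor n y ⟨(a', b'), h'⟩ = 0 := by
          rcases a' with _ | a'
          · rfl
          · have e3 : y ⟨(a', b'), by dsimp only; omega⟩ = 0 := S.sing_ne _ _ _ (by
              intro e; have := congrArg (fun q : Ix n => q.1.1) e; dsimp [p0] at this; omega)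
            rw [hor_succ _ _ _ (by omega), e3, map_zero]
        have e2 : S.ver n y ⟨(a', b'), h'⟩ = 0 := by
          rcases b' with _ | b'
          · rfl
          · have e3 : y ⟨(a', b'), by dsimp only; omega⟩ = 0 := S.sing_ne _ _ _ (by
              intro e; have := congrArg (fun q : Ix n => q.1.1) e; dsimp [p0] at this; omega)
            rw [ver_succ _ _ _ (by omega), e3, map_zero]
        rw [e1, e2, smul_zero, add_zero]
      · rw [D_apply, ver_succ _ _ _ (by omega)]
        have e1 : S.hor n y ⟨(a, b + 1), h⟩ = 0 := by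
          rcases a with _ | a
          · rfl
          · have e3 : y ⟨(a, b + 1), by dsimp only; omega⟩ = 0 := S.sing_ne _ _ _ (by
              intro e; have := congrArg (fun q : Ix n => q.1.1) e; dsimp [p0] at this; omega)
            rw [hor_succ _ _ _ (by omega), e3, map_zero]
        have e2 : y ⟨(a, b), by dsimp only; omega⟩ = ((-1 : R) ^ a) • t := S.sing_self p0 _
        rw [e1, e2, zero_add, map_smul, smul_smul, ← mul_pow, neg_one_mul, neg_neg, one_pow, one_smul]
        exact ht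
  obtain ⟨hw3, hw4⟩ := hw2
  refine ⟨⟨x.1 - w, S.mem_Fz.2 ⟨by rw [map_sub, hx1, hw, sub_zero], ?_⟩⟩, ?_⟩
  · rintro ⟨⟨a', b'⟩, h'⟩ ha
    dsimp only at ha h'
    rcases Nat.lt_succ_iff_lt_or_eq.1 ha with ha | rfl
    · rw [Pi.sub_apply, hx2 _ ha, hw1 _ ha, sub_zero]
    · obtain rfl : b' = b := by omega
      rw [Pi.sub_apply, hw3, sub_self]
  · rw [qm_apply, qm_apply, Cx.cl_eq]
    change x.1 - w - x.1 ∈ _
    rw [sub_sub_cancel_left]
    exact neg_mem hw4

/-- **Upper bound for the total cohomology.** -/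
theorem length_tot_le (n : ℕ) :
    Module.length R (S.tot.H n) ≤ ∑ a ∈ Finset.range (n + 1), Module.length R ((cech (S.V a)).H (n - a)) := by
  have key : ∀ m, m ≤ n + 1 → Module.length R (LinearMap.range (S.qm n 0)) ≤
      Module.length R (LinearMap.range (S.qm n m)) +
        ∑ a ∈ Finset.range m, Module.length R ((cech (S.V a)).H (n - a)) := by
    intro m
    induction m with
    | zero => intro _; simp
    | succ m ih =>
      intro hm
      refine (ih (by omega)).trans ?_
      have h1 := length_range_le (S.qm n m) (S.lead (a := m) (b := n - m) (by omega))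
        (LinearMap.range (S.qm n (m + 1))) (fun x hx => S.qm_mem_of_lead _ x hx)
      rw [Finset.sum_range_succ, add_comm (∑ a ∈ Finset.range m, _), ← add_assoc]
      exact add_le_add h1 le_rfl
  have h1 := key (n + 1) le_rfl
  have h2 : LinearMap.range (S.qm n 0) = ⊤ := by
    rw [eq_top_iff]
    rintro c -
    obtain ⟨x, hx, rfl⟩ := Cx.cl_surj c
    exact ⟨⟨x, S.mem_Fz.2 ⟨hx, fun p hp => absurd hp (Nat.not_lt_zero _)⟩⟩, rfl⟩
  have h3 : Module.length R (LinearMap.range (S.qm n (n + 1))) = 0 := by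
    have : LinearMap.range (S.qm n (n + 1)) = ⊥ := by
      rw [eq_bot_iff]
      rintro _ ⟨x, rfl⟩
      have hx : x = 0 := Subtype.ext (funext fun p => (S.mem_Fz.1 x.2).2 p (by have := p.2; omega))
      rw [hx, map_zero]
      exact zero_mem _
    rw [this]
    exact Module.length_bot
  rwa [h2, h3, Module.length_top, zero_add] at h1

end bound

end GS

end K694
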