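import Groth.Agent.Deform.K694.TotC

/-!
# Semilinear maps of complexes and of systems

* `Cx.SHom`: additive maps of complexes, semilinear along `g : R →+* R'`; `Cx.length_quo_eq_of_sHom`;
* `GS.SHom`: the same for complexes of Čech systems; `GS.SHom.exists_lift`: cocycles lift along a surjective map whose
  kernel has exact rows;
* `GS.flat_T`, `GS.SHom.tot_ker`.
-/

set_option autoImplicit false
set_option linter.unusedVariables false

universe u v

namespace K694

open Groth.Agent.Lefpen.H722.Sys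

/-- lengths along semilinear bijections -/
theorem length_eq_of_semilinear {R R' : Type u} [CommRing R] [CommRing R'] (g : R →+* R')
    (hg : Function.Surjective g) {M N : Type v} [AddCommGroup M] [Module R M] [AddCommGroup N] [Module R' N]
    (e : M →+ N) (he : Function.Bijective e) (hs : ∀ (r : R) x, e (r • x) = g r • e x) :
    Module.length R M = Module.length R' N := by
  let := Module.compHom N g
  let : Algebra R R' := g.toAlgebra
  have : IsScalarTower R R' N := ⟨fun a b c => by
    change (g a * b) • c = g a • b • c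
    rw [mul_smul]⟩
  let e₀ : M →ₗ[R] N := { toFun := e, map_add' := map_add e, map_smul' := hs }
  let e' : M ≃ₗ[R] N := LinearEquiv.ofBijective e₀ he
  rw [e'.length_eq]
  exact Module.length_eq_of_surjective hg

namespace Cx

variable {R R' : Type u} [CommRing R] [CommRing R']

/-- Semilinear maps of complexes. -/
structure SHom (g : R →+* R') (C : Cx.{u, v} R) (C' : Cx.{u, v} R') where
  /-- components -/
  app : ∀ n, C.X n →+ C'.X n
  smul : ∀ n (r : R) x, app n (r • x) = g r • app n x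
  comm : ∀ n x, app (n + 1) (C.d n x) = C'.d n (app n x)

namespace SHom

variable {g : R →+* R'} {C : Cx.{u, v} R} {C' : Cx.{u, v} R'} (f : SHom g C C')

theorem map_Z {n : ℕ} {x : C.X n} (hx : C.d n x = 0) : C'.d n (f.app n x) = 0 := by
  rw [← f.comm, hx, map_zero]

theorem map_B {n : ℕ} {x : C.X n} (hx : x ∈ C.B n) : f.app n x ∈ C'.B n := by
  cases n with
  | zero =>
    rw [show x = 0 from hx, map_zero]
    exact zero_mem _
  | succ n =>
    obtain ⟨y, rfl⟩ := hx
    exact ⟨f.app n y, (f.comm n y).symm⟩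

/-- the additive map on cohomology -/
def H (n : ℕ) : C.H n →+ C'.H n :=
  QuotientAddGroup.map _ _
    (AddMonoidHom.mk' (fun x : C.Z n => (⟨f.app n x.1, f.map_Z x.2⟩ : C'.Z n)) fun a b =>
      Subtype.ext (map_add (f.app n) a.1 b.1))
    fun x hx => f.map_B (x := x.1) hx

@[simp] theorem H_cl {n : ℕ} (x : C.X n) (hx : C.d n x = 0) : f.H n (cl x hx) = cl (f.app n x) (f.map_Z hx) := rfl

theorem H_smul (n : ℕ) (r : R) (c : C.H n) : f.H n (r • c) = g r • f.H n c := by
  obtain ⟨x, hx, rfl⟩ := cl_surj c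
  have h1 : r • (cl x hx : C.H n) = cl (r • x) (by rw [map_smul, hx, smul_zero]) := rfl
  have h2 : g r • (cl (f.app n x) (f.map_Z hx) : C'.H n) =
    cl (g r • f.app n x) (by rw [map_smul, f.map_Z hx, smul_zero]) := rfl
  rw [h1, H_cl, H_cl, h2, cl_eq, f.smul, sub_self]
  exact zero_mem _

theorem bijective_H (hf : ∀ n, Function.Bijective (f.app n)) (n : ℕ) : Function.Bijective (f.H n) := by
  constructor
  · rw [injective_iff_map_eq_zero]
    intro c hc
    obtain ⟨x, hx, rfl⟩ := cl_surj c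
    rw [H_cl, cl_eq_zero] at hc
    rw [cl_eq_zero]
    cases n with
    | zero =>
      have h1 : f.app 0 x = 0 := hc
      have h2 : x = 0 := (hf 0).1 (by rw [h1, map_zero])
      rw [h2]
      exact zero_mem _
    | succ n =>
      obtain ⟨y, hy⟩ := hc
      obtain ⟨z, rfl⟩ := (hf n).2 y
      refine ⟨z, (hf (n + 1)).1 ?_⟩
      rw [f.comm, hy]
  · intro c
    obtain ⟨y, hy, rfl⟩ := cl_surj c
    obtain ⟨x, rfl⟩ := (hf n).2 y
    refine ⟨cl x ?_, rfl⟩
    apply (hf (n + 1)).1
    rw [f.comm, hy, map_zero]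

/-- The induced map out of `C/JC`. -/
def desc (J : Ideal R) (hJ : ∀ a ∈ J, g a = 0) : SHom g (C.quo J) C' where
  app n := QuotientAddGroup.lift _ (f.app n) fun x hx => by
    have hx' : x ∈ J • (⊤ : Submodule R (C.X n)) := hx
    change f.app n x = 0
    refine Submodule.smul_induction_on (p := fun x => f.app n x = 0) hx' ?_ ?_
    · intro a ha y _
      rw [f.smul, hJ a ha, zero_smul]
    · intro y z hy hz
      rw [map_add, hy, hz, add_zero]
  smul n r x := by
    obtain ⟨x, rfl⟩ := Submodule.Quotient.mk_surjective _ x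
    exact f.smul n r x
  comm n x := by
    obtain ⟨x, rfl⟩ := Submodule.Quotient.mk_surjective _ x
    exact f.comm n x

/-- Comparison of lengths. -/
theorem length_quo_eq (hg : Function.Surjective g) (J : Ideal R) (hJ : ∀ a ∈ J, g a = 0)
    (hs : ∀ n, Function.Surjective (f.app n))
    (hk : ∀ n x, f.app n x = 0 → x ∈ J • (⊤ : Submodule R (C.X n))) (n : ℕ) :
    Module.length R ((C.quo J).H n) = Module.length R' (C'.H n) := by
  refine length_eq_of_semilinear g hg ((f.desc J hJ).H n) ((f.desc J hJ).bijective_H (fun n => ⟨?_, ?_⟩) n)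
    (fun r x => (f.desc J hJ).H_smul n r x)
  · rw [injective_iff_map_eq_zero]
    intro x hx
    obtain ⟨x, rfl⟩ := Submodule.Quotient.mk_surjective _ x
    exact (Submodule.Quotient.mk_eq_zero _).2 (hk n x hx)
  · intro y
    obtain ⟨x, rfl⟩ := hs n y
    exact ⟨Submodule.Quotient.mk x, rfl⟩

/-- The map `H(C) → H(C/J)` is surjective if cocycles of `C'` lift. -/
theorem surjective_toQuo (J : Ideal R)
    (hJ : ∀ a ∈ J, g a = 0) (hs : ∀ n, Function.Surjective (f.app n))
    (hk : ∀ n x, f.app n x = 0 → x ∈ J • (⊤ : Submodule R (C.X n)))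
    (n : ℕ) (hl : ∀ y, C'.d n y = 0 → ∃ x, C.d n x = 0 ∧ f.app n x = y) :
    Function.Surjective ((C.toQuo J).H n) := by
  intro c
  obtain ⟨y, hy, rfl⟩ := cl_surj c
  obtain ⟨y, rfl⟩ := Submodule.Quotient.mk_surjective _ y
  obtain ⟨x, hx, hxy⟩ := hl (f.app n y) (by
    rw [← f.comm]
    have : (Submodule.Quotient.mk (C.d n y) : (C.quo J).X (n + 1)) = 0 := hy
    exact (congrArg ((f.desc J hJ).app (n + 1)) this).trans (map_zero _))
  refine ⟨cl x hx, ?_⟩
  rw [Hom.H_cl, cl_eq]
  have h1 : (C.toQuo J).app n (x - y) = 0 := by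
    refine (Submodule.Quotient.mk_eq_zero _).2 (hk n _ ?_)
    rw [map_sub, hxy, sub_self]
  change (C.toQuo J).app n (x - y) ∈ (C.quo J).B n
  rw [h1]
  exact zero_mem _

end SHom

end Cx

section pi

variable {R : Type u} [CommRing R] {J : Type} [Finite J] (M : J → Type u) [∀ j, AddCommGroup (M j)]
  [∀ j, Module R (M j)]

theorem flat_pi (h : ∀ j, Module.Flat R (M j)) : Module.Flat R (∀ j, M j) := by
  classical
  have := Fintype.ofFinite J
  exact Module.Flat.of_linearEquiv (DirectSum.linearEquivFunOnFintype R J M).symm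

theorem mem_smul_top_pi (I : Ideal R) (x : ∀ j, M j) (h : ∀ j, x j ∈ I • (⊤ : Submodule R (M j))) :
    x ∈ I • (⊤ : Submodule R (∀ j, M j)) := by
  classical
  have := Fintype.ofFinite J
  rw [← Finset.univ_sum_single x]
  refine Submodule.sum_mem _ fun j _ => ?_
  exact Submodule.smul_top_le_comap_smul_top I (LinearMap.single R M j) (h j)

end pi

namespace GS

variable {R R' : Type u} [CommRing R] [CommRing R'] {ι : Type}

/-- Semilinear maps of complexes of systems. -/
structure SHom (g : R →+* R') (S : GS R ι) (S' : GS R' ι) where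
  /-- components -/
  app : ∀ a I, (S.V a).M I →+ (S'.V a).M I
  smul : ∀ a I (r : R) x, app a I (r • x) = g r • app a I x
  res : ∀ a {I J : Set ι} (h : I ⊆ J) x, app a J ((S.V a).res h x) = (S'.V a).res h (app a I x)
  δ : ∀ a I x, app (a + 1) I ((S.δ a).app I x) = (S'.δ a).app I (app a I x)

namespace SHom

variable {g : R →+* R'} {S : GS R ι} {S' : GS R' ι} (φ : SHom g S S')

/-- on Čech cochains -/
def mapC (a b : ℕ) : C (S.V a) b →+ C (S'.V a) b :=
  AddMonoidHom.mk' (fun s σ => φ.app a _ (s σ)) fun s t => funext fun σ => map_add _ _ _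

theorem mapC_apply (a b : ℕ) (s : C (S.V a) b) (σ : Fin (b + 1) → ι) : φ.mapC a b s σ = φ.app a _ (s σ) := rfl

theorem mapC_smul (a b : ℕ) (r : R) (s : C (S.V a) b) : φ.mapC a b (r • s) = g r • φ.mapC a b s :=
  funext fun _ => φ.smul _ _ _ _

theorem mapC_d (a b : ℕ) (s : C (S.V a) b) : φ.mapC a (b + 1) (d (S.V a) b s) = d (S'.V a) b (φ.mapC a b s) := by
  funext σ
  rw [mapC_apply, d_apply, d_apply, map_sum]
  refine Finset.sum_congr rfl fun j _ => ?_
  rw [map_zsmul, φ.res]
  rfl

theorem mapC_δ (a b : ℕ) (s : C (S.V a) b) :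
    φ.mapC (a + 1) b (Groth.Agent.Lefpen.H722.Sys.mapC (S.δ a) b s) = Groth.Agent.Lefpen.H722.Sys.mapC (S'.δ a) b (φ.mapC a b s) :=
  funext fun _ => φ.δ _ _ _

/-- on the Čech complexes -/
noncomputable def cech (a : ℕ) : Cx.SHom g (K694.cech (S.V a)) (K694.cech (S'.V a)) where
  app b := φ.mapC a b
  smul b r x := φ.mapC_smul a b r x
  comm b x := φ.mapC_d a b x

/-- total cochains -/
def mapT (n : ℕ) : S.T n →+ S'.T n :=
  AddMonoidHom.mk' (fun x p => φ.mapC p.1.1 p.1.2 (x p)) fun x y => funext fun p => map_add _ _ _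

theorem mapT_apply (n : ℕ) (x : S.T n) (p : Ix n) : φ.mapT n x p = φ.mapC p.1.1 p.1.2 (x p) := rfl

theorem mapT_hor (n : ℕ) (x : S.T n) : φ.mapT (n + 1) (S.hor n x) = S'.hor n (φ.mapT n x) := by
  funext ⟨⟨a, b⟩, h⟩
  rw [mapT_apply]
  rcases a with _ | a
  · rw [hor_zero, hor_zero, map_zero]
  · rw [hor_succ _ _ _ (by dsimp only at h ⊢; omega), hor_succ _ _ _ (by dsimp only at h ⊢; omega), mapC_δ]
    rfl

theorem mapT_ver (n : ℕ) (x : S.T n) : φ.mapT (n + 1) (S.ver n x) = S'.ver n (φ.mapT n x) := by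
  funext ⟨⟨a, b⟩, h⟩
  rw [mapT_apply]
  rcases b with _ | b
  · rw [ver_zero, ver_zero, map_zero]
  · rw [ver_succ _ _ _ (by dsimp only at h ⊢; omega), ver_succ _ _ _ (by dsimp only at h ⊢; omega), mapC_d]
    rfl

theorem mapT_smul (n : ℕ) (r : R) (x : S.T n) : φ.mapT n (r • x) = g r • φ.mapT n x :=
  funext fun _ => φ.mapC_smul _ _ _ _

theorem mapT_D (n : ℕ) (x : S.T n) : φ.mapT (n + 1) (S.D n x) = S'.D n (φ.mapT n x) := by
  funext p
  rw [D_apply, ← mapT_hor, ← mapT_ver, mapT_apply, D_apply, map_add, mapC_smul, map_pow, map_neg, map_one]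
  rfl

/-- on the total complexes -/
noncomputable def tot : Cx.SHom g S.tot S'.tot where
  app n := φ.mapT n
  smul n r x := φ.mapT_smul n r x
  comm n x := φ.mapT_D n x

theorem surjective_mapC (hs : ∀ a I, I.Nonempty → Function.Surjective (φ.app a I)) (a b : ℕ) :
    Function.Surjective (φ.mapC a b) := by
  intro t
  choose s hs using fun σ : Fin (b + 1) → ι => hs a _ (Set.range_nonempty σ) (t σ)
  exact ⟨s, funext hs⟩

theorem surjective_mapT (hs : ∀ a I, I.Nonempty → Function.Surjective (φ.app a I)) (n : ℕ) :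
    Function.Surjective (φ.mapT n) := by
  intro t
  choose s hs using fun p : Ix n => φ.surjective_mapC hs p.1.1 p.1.2 (t p)
  exact ⟨s, funext hs⟩

section lift

variable (h0 : ∀ I : Set ι, I.Nonempty → ∀ x, (S.δ 0).app I x = 0 → φ.app 0 I x = 0 → x = 0)
  (h1 : ∀ a (I : Set ι), I.Nonempty → ∀ x, (S.δ (a + 1)).app I x = 0 → φ.app (a + 1) I x = 0 →
    ∃ y, φ.app a I y = 0 ∧ (S.δ a).app I y = x)

include h0 in
theorem mapC_zero_of (b : ℕ) (s : C (S.V 0) b) (h : Groth.Agent.Lefpen.H722.Sys.mapC (S.δ 0) b s = 0) (h' : φ.mapC 0 b s = 0) :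
    s = 0 := funext fun σ => h0 _ (Set.range_nonempty σ) _ (congrFun h σ) (congrFun h' σ)

include h1 in
theorem exists_mapC_of (a b : ℕ) (s : C (S.V (a + 1)) b) (h : Groth.Agent.Lefpen.H722.Sys.mapC (S.δ (a + 1)) b s = 0)
    (h' : φ.mapC (a + 1) b s = 0) :
    ∃ t, φ.mapC a b t = 0 ∧ Groth.Agent.Lefpen.H722.Sys.mapC (S.δ a) b t = s := by
  choose t ht1 ht2 using fun σ : Fin (b + 1) → ι => h1 a _ (Set.range_nonempty σ) (s σ) (congrFun h σ) (congrFun h' σ)
  exact ⟨t, funext ht1, funext ht2⟩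

include h0 h1 in
theorem ker_exact (n : ℕ) (j : ℕ) : ∀ m, m + j = n + 2 → ∀ z : S.T (n + 1), (∀ p : Ix (n + 1), p.1.2 < m → z p = 0) →
    φ.mapT (n + 1) z = 0 → S.D (n + 1) z = 0 → ∃ w : S.T n, φ.mapT n w = 0 ∧ S.D n w = z := by
  induction j with
  | zero =>
    intro m hm z hz _ _
    refine ⟨0, map_zero _, ?_⟩
    rw [map_zero]
    exact (funext fun p => hz p (by have := p.2; omega) : z = 0).symm
  | succ j ih =>
    intro m hm z hz hφ hD
    -- the component of Čech degree `m` is killed by `δ`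
    have key : ∀ (a : ℕ) (h : a + m = n + 1), Groth.Agent.Lefpen.H722.Sys.mapC (S.δ a) m (z ⟨(a, m), h⟩) = 0 := by
      intro a h
      have e1 := congrFun hD (⟨(a + 1, m), by dsimp only; omega⟩ : Ix (n + 1 + 1))
      rw [D_apply, hor_succ _ _ _ h, Pi.zero_apply] at e1
      have e2 : S.ver (n + 1) z ⟨(a + 1, m), by dsimp only; omega⟩ = 0 := by
        rcases m with _ | m
        · rfl
        · rw [ver_succ _ _ _ (by omega), hz ⟨(a + 1, m), by dsimp only; omega⟩ (by dsimp only; omega), map_zero]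
      rwa [e2, smul_zero, add_zero] at e1
    by_cases hmn : m = n + 1
    · subst hmn
      have hz0 : z ⟨(0, n + 1), by simp⟩ = 0 :=
        φ.mapC_zero_of h0 _ _ (key 0 (by omega)) (congrFun hφ (⟨(0, n + 1), by simp⟩ : Ix (n + 1)))
      refine ⟨0, map_zero _, ?_⟩
      rw [map_zero]
      refine (funext fun p => ?_ : z = 0).symm
      obtain ⟨⟨a, b⟩, h⟩ := p
      dsimp only at h
      by_cases hb : b < n + 1
      · exact hz _ hb
      · obtain rfl : b = n + 1 := by omega
        obtain rfl : a = 0 := by omega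
        exact hz0
    · obtain ⟨a, ha⟩ : ∃ a, a + 1 + m = n + 1 := ⟨n - m, by omega⟩
      obtain ⟨t, ht1, ht2⟩ := φ.exists_mapC_of h1 a m _ (key (a + 1) ha)
        (congrFun hφ (⟨(a + 1, m), ha⟩ : Ix (n + 1)))
      let p0 : Ix n := ⟨(a, m), by dsimp only; omega⟩
      let y : S.T n := S.sing p0 t
      have hy : φ.mapT n y = 0 := by
        funext p
        rw [mapT_apply]
        by_cases hp : p = p0
        · subst hp
          rw [show y p0 = t from S.sing_self p0 t]
          exact ht1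
        · rw [show y p = 0 from S.sing_ne p0 p t hp, map_zero]
          rfl
      have hz' : ∀ p : Ix (n + 1), p.1.2 < m + 1 → (z - S.D n y) p = 0 := by
        rintro ⟨⟨a', b'⟩, h'⟩ hb
        dsimp only at hb h'
        rw [Pi.sub_apply, D_apply]
        have e2 : S.ver n y ⟨(a', b'), h'⟩ = 0 := by
          rcases b' with _ | b'
          · rfl
          · have e3 : y ⟨(a', b'), by dsimp only; omega⟩ = 0 := S.sing_ne _ _ _ (by
              intro e; have := congrArg (fun q : Ix n => q.1.2) e; dsimp [p0] at this; omega)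
            rw [ver_succ _ _ _ (by omega), e3, map_zero]
        rw [e2, smul_zero, add_zero]
        by_cases hb' : b' = m
        · subst hb'
          obtain rfl : a' = a + 1 := by omega
          rw [hor_succ _ _ _ (by omega : a + b' = n)]
          rw [show y ⟨(a, b'), by dsimp only; omega⟩ = t from S.sing_self p0 t, ht2, sub_self]
        · rw [hz ⟨(a', b'), h'⟩ (by dsimp only; omega), zero_sub]
          rcases a' with _ | a'
          · rw [hor_zero, neg_zero]
          · have e3 : y ⟨(a', b'), by dsimp only; omega⟩ = 0 := S.sing_ne _ _ _ (by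
              intro e; have := congrArg (fun q : Ix n => q.1.2) e; dsimp [p0] at this; omega)
            rw [hor_succ _ _ _ (by omega), e3, map_zero, neg_zero]
      obtain ⟨w, hw1, hw2⟩ := ih (m + 1) (by omega) (z - S.D n y) hz'
        (by rw [map_sub, hφ, mapT_D, hy, map_zero, sub_zero]) (by rw [map_sub, hD, D_D, sub_zero])
      exact ⟨w + y, by rw [map_add, hw1, hy, add_zero], by rw [map_add, hw2, sub_add_cancel]⟩

include h0 h1 in
/-- **Cocycles lift along surjective maps with exact kernel.** -/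
theorem exists_lift (hs : ∀ a I, I.Nonempty → Function.Surjective (φ.app a I)) (n : ℕ) (y : S'.T n)
    (hy : S'.D n y = 0) : ∃ x : S.T n, S.D n x = 0 ∧ φ.mapT n x = y := by
  obtain ⟨x, rfl⟩ := φ.surjective_mapT hs n y
  obtain ⟨w, hw1, hw2⟩ := φ.ker_exact h0 h1 n (n + 2) 0 (by omega) (S.D n x) (fun p hp => absurd hp (Nat.not_lt_zero _))
    (by rw [mapT_D, hy]) (S.D_D n x)
  exact ⟨x - w, by rw [map_sub, hw2, sub_self], by rw [map_sub, hw1, sub_zero]⟩

end lift

section ker

variable [Finite ι] (I : Ideal R)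
  (hk : ∀ a (J : Set ι), J.Nonempty → ∀ x, φ.app a J x = 0 → x ∈ I • (⊤ : Submodule R ((S.V a).M J)))

include hk

theorem mapC_ker (a b : ℕ) (s : C (S.V a) b) (h : φ.mapC a b s = 0) : s ∈ I • (⊤ : Submodule R (C (S.V a) b)) :=
  mem_smul_top_pi _ I s fun σ => hk a _ (Set.range_nonempty σ) _ (congrFun h σ)

theorem mapT_ker (n : ℕ) (x : S.T n) (h : φ.mapT n x = 0) : x ∈ I • (⊤ : Submodule R (S.T n)) :=
  mem_smul_top_pi _ I x fun p => φ.mapC_ker I hk _ _ _ (congrFun h p)

end ker

end SHom

section flat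

variable [Finite ι] (S : GS R ι) (hF : ∀ a (J : Set ι), J.Nonempty → Module.Flat R ((S.V a).M J))

include hF

theorem flat_C (a b : ℕ) : Module.Flat R (C (S.V a) b) := flat_pi _ fun σ => hF a _ (Set.range_nonempty σ)

theorem flat_T (n : ℕ) : Module.Flat R (S.T n) := flat_pi _ fun p => S.flat_C hF _ _

end flat

end GS

end K694
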